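import Cfsg.Agent.H30.FiE.Orb_mg
import Cfsg.Agent.H665.NoPQ
import Cfsg.Agent.Blocks.Knorr
import Cfsg.Agent.H424.DegTools
import Cfsg.Agent.KFacts.FiTF.FixZ_m3
import Cfsg.Agent.Prune
set_option linter.all false

section
prune_inst 0x7fffffffffebffffffff7e3fffdffffff7eeefffffdfffcbffefebbffffffb7ffbedfba79feff9ffdfffeefeb8fc7bd3fffffffffc6ffc7ffffdfff45ffbffcfffffbf8d71f7bc3e1fff0ffff3f377ee7f3fffffffffffffffffffffffffffffffffffffffff

-- part: H30/FiE/Deg
section
prune_inst 0x4000000008000000000000001000000200004000004000000048004000400000000000000000100028000000000000000020000000000800000200000000000080080000000000000000000000000000000000000000000000000000000000000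
set_option linter.all false
open scoped Cfsg.Agent.FastGrp

-- part: H30/FiE/ChkS0
section
/-! # `Fi24` on the commuting pairs of transpositions: kernel checks (helper30). Generated. -/

set_option autoImplicit false
set_option maxRecDepth 100000
set_option Elab.async false

namespace Cfsg.Agent.H30.FiE

open Cfsg Cfsg.Agent.Lib.PermNet Cfsg.Agent.Lib.PermNetPt Cfsg.Agent.Lib.PermNetOrbit
open Cfsg.Agent.Fischer.Fi24RepDef Cfsg.Agent.Fischer.Fi24Rep
open Cfsg.Agent.Fischer.Fi24RepOrb (UG)
open Cfsg.Agent.Fischer.Fi24RepOrbData (UW)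
open Cfsg.Spor (Fi24)
open Cfsg.Spor.Fi24 (Gen)
open Cfsg.Agent.H30.PairFn.Ctx (Ent)

private noncomputable def peelRestD (r : ℕ) (l : List (ℕ × ℕ)) : ℕ → Bool :=
  List.rec (motive := fun _ => ℕ → Bool) (fun m => Nat.beq m r)
    (fun p _ ih m => seqB (Nat.land m p.1) fun y => and (Nat.beq (pcFast19 y) p.2) (seqB (Nat.xor m y) ih)) l

/-- the check in two pieces: the first `k` sets take away the part of the mask inside `T` -/
private theorem peel_cutD (k T : ℕ) {l : List (ℕ × ℕ)} {m : ℕ}
    (h1 : peelRestD (Nat.xor m (Nat.land m T)) (l.take k) m = true)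
    (h2 : peelFn pcFast19 (l.drop k) (Nat.xor m (Nat.land m T)) = true) : peelFn pcFast19 l m = true := by
  have h : ∀ (r : ℕ) (l₂ l₁ : List (ℕ × ℕ)) (m : ℕ), peelRestD r l₁ m = true → peelFn pcFast19 l₂ r = true →
      peelFn pcFast19 (l₁ ++ l₂) m = true := fun r l₂ l₁ => by
    induction l₁ with
    | nil => exact fun m h1 h2 => (Nat.eq_of_beq_eq_true h1 : m = r) ▸ h2
    | cons p l ih =>
      intro m h1 h2
      have h3 := (seqB_eq (Nat.land m p.1) fun y => and (Nat.beq (pcFast19 y) p.2)
        (seqB (Nat.xor m y) (peelRestD r l))).symm.trans h1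
      refine (seqB_eq (Nat.land m p.1) fun y => and (Nat.beq (pcFast19 y) p.2)
        (seqB (Nat.xor m y) (peelFn pcFast19 (l ++ l₂)))).trans ?_
      obtain ⟨h4, h5⟩ := Bool.and_eq_true_iff.1 h3
      exact Bool.and_eq_true_iff.2 ⟨h4, (seqB_eq _ _).trans (ih _ ((seqB_eq _ _).symm.trans h5) h2)⟩
  exact List.take_append_drop k l ▸ h _ _ _ _ h1 h2

def tc0 : List Gen := [.l]
def td0 : List Gen := [.j]
theorem chkS0_0 : chkS 0 136 tc0 td0 s0_0 307496 308352 w307496 w308352 36360 = true := by decide +kernel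
theorem peelS0 : peelB 19 (([(S0_0, 247104)] : List (SEnt × ℕ)).map fun p => (p.1.S, p.2)) (m5 0 136 w0 w136) = true := peelB_fast (by decide +kernel)

end Cfsg.Agent.H30.FiE
end

-- part: H30/FiE/ChkS3
section
/-! # `Fi24` on the commuting pairs of transpositions: kernel checks (helper30). Generated. -/

set_option autoImplicit false
set_option maxRecDepth 100000
set_option Elab.async false

namespace Cfsg.Agent.H30.FiE

open Cfsg Cfsg.Agent.Lib.PermNet Cfsg.Agent.Lib.PermNetPt Cfsg.Agent.Lib.PermNetOrbit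
open Cfsg.Agent.Fischer.Fi24RepDef Cfsg.Agent.Fischer.Fi24Rep
open Cfsg.Agent.Fischer.Fi24RepOrb (UG)
open Cfsg.Agent.Fischer.Fi24RepOrbData (UW)
open Cfsg.Spor (Fi24)
open Cfsg.Spor.Fi24 (Gen)
open Cfsg.Agent.H30.PairFn.Ctx (Ent)

def tc3 : List Gen := [.a]
def td3 : List Gen := [.h]
theorem chkS3_0 : chkS 1 4 tc3 td3 s3_0 2641 2624 w2641 w2624 4180 = true := by decide +kernel
theorem chkS3_1 : chkS 1 4 tc3 td3 s3_1 3256 3241 w3256 w3241 16063 = true := by decide +kernel
theorem chkS3_2 : chkS 1 4 tc3 td3 s3_2 306448 306433 w306448 w306433 16063 = true := by decide +kernel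
theorem chkS3_3 : chkS 1 4 tc3 td3 s3_3 246617 246600 w246617 w246600 36036 = true := by decide +kernel
theorem chkS3_4 : chkS 1 4 tc3 td3 s3_4 301870 301836 w301870 w301836 36072 = true := by decide +kernel
theorem chkS3_5 : chkS 1 4 tc3 td3 s3_5 246795 246810 w246795 w246810 36360 = true := by decide +kernel
theorem peelS3 : peelB 19 (([(S3_0, 2304), (S3_1, 23040), (S3_2, 23040), (S3_3, 163840), (S3_4, 34560), (S3_5, 320)] : List (SEnt × ℕ)).map fun p => (p.1.S, p.2)) (m5 1 4 w1 w4) = true := peelB_fast (peel_cutD 3 (Nat.lor (M w0) (M w136)) (by decide +kernel) (by decide +kernel))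

end Cfsg.Agent.H30.FiE
end

-- part: H30/FiE/ChkS10
section
/-! # `Fi24` on the commuting pairs of transpositions: kernel checks (helper30). Generated. -/

set_option autoImplicit false
set_option maxRecDepth 100000
set_option Elab.async false

namespace Cfsg.Agent.H30.FiE

open Cfsg Cfsg.Agent.Lib.PermNet Cfsg.Agent.Lib.PermNetPt Cfsg.Agent.Lib.PermNetOrbit
open Cfsg.Agent.Fischer.Fi24RepDef Cfsg.Agent.Fischer.Fi24Rep
open Cfsg.Agent.Fischer.Fi24RepOrb (UG)
open Cfsg.Agent.Fischer.Fi24RepOrbData (UW)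
open Cfsg.Spor (Fi24)
open Cfsg.Spor.Fi24 (Gen)
open Cfsg.Agent.H30.PairFn.Ctx (Ent)

def tc10 : List Gen := [.g, .f, .k, .a, .e, .b, .d, .c, .d, .b, .e, .a, .k, .f, .g]
def td10 : List Gen := [.l, .j, .k, .a, .g, .b, .f, .c, .e, .d, .e, .c, .f, .b, .g, .a, .k, .j, .l]
theorem chkS10_0 : chkS 307496 308352 tc10 td10 s10_0 0 136 w0 w136 3510 = true := by decide +kernel
theorem chkS10_1 : chkS 307496 308352 tc10 td10 s10_1 136 0 w136 w0 3510 = true := by decide +kernel
theorem chkS10_2 : chkS 307496 308352 tc10 td10 s10_2 9017 2640 w9017 w2640 4180 = true := by decide +kernel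
theorem chkS10_3 : chkS 307496 308352 tc10 td10 s10_3 308384 307464 w308384 w307464 36360 = true := by decide +kernel
theorem chkS10_4 : chkS 307496 308352 tc10 td10 s10_4 307464 308384 w307464 w308384 36360 = true := by decide +kernel
theorem chkS10_5 : chkS 307496 308352 tc10 td10 s10_5 307512 308368 w307512 w308368 36360 = true := by decide +kernel
theorem chkS10_6 : chkS 307496 308352 tc10 td10 s10_6 3612 306768 w3612 w306768 16108 = true := by decide +kernel
theorem chkS10_7 : chkS 307496 308352 tc10 td10 s10_7 306768 3612 w306768 w3612 16108 = true := by decide +kernel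
theorem chkS10_8 : chkS 307496 308352 tc10 td10 s10_8 266408 266008 w266408 w266008 36036 = true := by decide +kernel
theorem chkS10_9 : chkS 307496 308352 tc10 td10 s10_9 266008 266408 w266008 w266408 36036 = true := by decide +kernel
theorem chkS10_10 : chkS 307496 308352 tc10 td10 s10_10 268431 266009 w268431 w266009 36072 = true := by decide +kernel
theorem peelS10 : peelB 19 (([(S10_0, 1), (S10_1, 1), (S10_2, 3150), (S10_3, 1), (S10_4, 1), (S10_5, 3150), (S10_6, 22400), (S10_7, 22400), (S10_8, 22400), (S10_9, 22400), (S10_10, 151200)] : List (SEnt × ℕ)).map fun p => (p.1.S, p.2)) (m5 307496 308352 w307496 w308352) = true := peelB_fast (peel_cutD 6 (Nat.lor (Nat.lor (Nat.lor (Nat.pow 2 0) (Nat.pow 2 136)) (Nat.lor (Nat.pow 2 308384) (Nat.pow 2 307464))) (Nat.lor (Nat.land (M w0) (M w136)) (Nat.land (M w308384) (M w307464)))) (by decide +kernel) (peel_cutD 2 (Nat.lor (M w0) (M w136)) (by decide +kernel) (by decide +kernel)))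

end Cfsg.Agent.H30.FiE
end

-- part: H30/FiE/Rows
section
/-!
# `Fi24` on the commuting pairs of transpositions: the rows of the operators (helper30). Generated.

* `A1_val` : the first operator;
* `CC_0`, `CC_3`, `CC_7`, `CC_10` : four rows of the class sum of the transpositions.
-/

set_option autoImplicit false
set_option maxRecDepth 100000
set_option linter.all false

namespace Cfsg.Agent.H30.FiE

open Cfsg Cfsg.Agent.Lib.PermNet Cfsg.Agent.Lib.PermNetPt Cfsg.Agent.Lib.PermNetOrbit
open Cfsg.Agent.Fischer.Fi24RepDef Cfsg.Agent.Fischer.Fi24Rep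
open Cfsg.Agent.Fischer.Fi24RepOrb (UG)
open Cfsg.Spor (Fi24)
open Cfsg.Spor.Fi24 (Gen)
open Cfsg.Agent.KFacts.FiTF.FixMask (isPt_tr pn)
open Cfsg.Agent.H30.PairFn (Ctx)
open Cfsg.Agent.H30.PairFn.Ctx (Ent Orbs IsFn KInv hf rs fn)

attribute [local instance] Classical.propDecidable

variable {ψ : ℕ → ℕ → ℂ} {β : ℕ → ℂ}

theorem rsF_0 {F : ℕ → ℂ} (hβ : ∀ x, X.com 0 x → F x = β (X.cl 0 x)) :
    ∑ x ∈ X.PT.filter (fun x => X.com 0 x), F x = 3510 * β 693 + 28160 * β 351 + 1 * β 3510 := by
  have h := M_row (F := F) (β := β) (c := 0) hβ chkw_0 [(e00, 3510), (e01, 28160), (e02, 1)] (by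
    intro p hp x hx
    have hm : p.1 ∈ ent 0 := by
      simp only [List.mem_cons, List.not_mem_nil, or_false] at hp
      unfold ent
      rcases hp with rfl | rfl | rfl <;> simp
    exact (entQ0 p.1 hm x hx).2
  ) rs_0
  rw [h]
  simp only [List.map_cons, List.map_nil, List.sum_cons, List.sum_nil, e00, e01, e02]
  push_cast
  ring

theorem rsv_0 (hβ : ∀ x y, X.com x y → ψ x y = β (X.cl x y)) : X.rs ψ 0 = 3510 * β 693 + 28160 * β 351 + 1 * β 3510 :=
  rsF_0 fun x hx => hβ _ _ hx

theorem hfv_00 (hβ : ∀ x y, X.com x y → ψ x y = β (X.cl x y)) : X.hf ψ 0 1 = 693 * β 693 + 2816 * β 351 + 1 * β 3510 := by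
  have h := hf_row hβ (c := 0) (d := 1) chkw_0 chkw_1 [(e00, 693), (e01, 2816), (e02, 1)] (by
    intro p hp x hx
    have hm : p.1 ∈ ent 0 := by
      simp only [List.mem_cons, List.not_mem_nil, or_false] at hp
      unfold ent
      rcases hp with rfl | rfl | rfl <;> simp
    exact (entQ0 p.1 hm x hx).2
  ) hf_00
  rw [h]
  simp only [List.map_cons, List.map_nil, List.sum_cons, List.sum_nil, e00, e01, e02]
  push_cast
  ring

theorem hfv_01 (hβ : ∀ x y, X.com x y → ψ x y = β (X.cl x y)) : X.hf ψ 0 3240 = 351 * β 693 + 3159 * β 351 := by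
  have h := hf_row hβ (c := 0) (d := 3240) chkw_0 chkd_01 [(e00, 351), (e01, 3159)] (by
    intro p hp x hx
    have hm : p.1 ∈ ent 0 := by
      simp only [List.mem_cons, List.not_mem_nil, or_false] at hp
      unfold ent
      rcases hp with rfl | rfl <;> simp
    exact (entQ0 p.1 hm x hx).2
  ) hf_01
  rw [h]
  simp only [List.map_cons, List.map_nil, List.sum_cons, List.sum_nil, e00, e01]
  push_cast
  ring

theorem hfv_02 (hβ : ∀ x y, X.com x y → ψ x y = β (X.cl x y)) : X.hf ψ 0 136 = 3510 * β 693 := by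
  have h := hf_row hβ (c := 0) (d := 136) chkw_0 chkd_02 [(e00, 3510)] (by
    intro p hp x hx
    have hm : p.1 ∈ ent 0 := by
      simp only [List.mem_cons, List.not_mem_nil, or_false] at hp
      unfold ent
      rcases hp with rfl <;> simp
    exact (entQ0 p.1 hm x hx).2
  ) hf_02
  rw [h]
  simp only [List.map_cons, List.map_nil, List.sum_cons, List.sum_nil, e00]
  push_cast
  ring

theorem rsF_1 {F : ℕ → ℂ} (hβ : ∀ x, X.com 1 x → F x = β (X.cl 1 x)) :
    ∑ x ∈ X.PT.filter (fun x => X.com 1 x), F x = 693 * β 4180 + 2 * β 693 + 5632 * β 8126 + 25344 * β 12063 := by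
  have h := M_row (F := F) (β := β) (c := 1) hβ chkw_1 [(e10, 693), (e11, 2), (e12, 5632), (e13, 25344)] (by
    intro p hp x hx
    have hm : p.1 ∈ ent 1 := by
      simp only [List.mem_cons, List.not_mem_nil, or_false] at hp
      unfold ent
      rcases hp with rfl | rfl | rfl | rfl <;> simp
    exact (entQ1 p.1 hm x hx).2
  ) rs_1
  rw [h]
  simp only [List.map_cons, List.map_nil, List.sum_cons, List.sum_nil, e10, e11, e12, e13]
  push_cast
  ring

theorem rsv_1 (hβ : ∀ x y, X.com x y → ψ x y = β (X.cl x y)) : X.rs ψ 1 = 693 * β 4180 + 2 * β 693 + 5632 * β 8126 + 25344 * β 12063 :=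
  rsF_1 fun x hx => hβ _ _ hx

theorem hfv_10 (hβ : ∀ x y, X.com x y → ψ x y = β (X.cl x y)) : X.hf ψ 1 4 = 180 * β 4180 + 2 * β 693 + 1024 * β 8126 + 2304 * β 12063 := by
  have h := hf_row hβ (c := 1) (d := 4) chkw_1 chkd_10 [(e10, 180), (e11, 2), (e12, 1024), (e13, 2304)] (by
    intro p hp x hx
    have hm : p.1 ∈ ent 1 := by
      simp only [List.mem_cons, List.not_mem_nil, or_false] at hp
      unfold ent
      rcases hp with rfl | rfl | rfl | rfl <;> simp
    exact (entQ1 p.1 hm x hx).2
  ) hf_10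
  rw [h]
  simp only [List.map_cons, List.map_nil, List.sum_cons, List.sum_nil, e10, e11, e12, e13]
  push_cast
  ring

theorem hfv_11 (hβ : ∀ x y, X.com x y → ψ x y = β (X.cl x y)) : X.hf ψ 1 0 = 693 * β 4180 + 1 * β 693 + 2816 * β 8126 := by
  have h := hf_row hβ (c := 1) (d := 0) chkw_1 chkw_0 [(e10, 693), (e11, 1), (e12, 2816)] (by
    intro p hp x hx
    have hm : p.1 ∈ ent 1 := by
      simp only [List.mem_cons, List.not_mem_nil, or_false] at hp
      unfold ent
      rcases hp with rfl | rfl | rfl <;> simp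
    exact (entQ1 p.1 hm x hx).2
  ) hf_11
  rw [h]
  simp only [List.map_cons, List.map_nil, List.sum_cons, List.sum_nil, e10, e11, e12]
  push_cast
  ring

theorem hfv_12 (hβ : ∀ x y, X.com x y → ψ x y = β (X.cl x y)) : X.hf ψ 1 307968 = 126 * β 4180 + 1 * β 693 + 791 * β 8126 + 2592 * β 12063 := by
  have h := hf_row hβ (c := 1) (d := 307968) chkw_1 chkd_12 [(e10, 126), (e11, 1), (e12, 791), (e13, 2592)] (by
    intro p hp x hx
    have hm : p.1 ∈ ent 1 := by
      simp only [List.mem_cons, List.not_mem_nil, or_false] at hp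
      unfold ent
      rcases hp with rfl | rfl | rfl | rfl <;> simp
    exact (entQ1 p.1 hm x hx).2
  ) hf_12
  rw [h]
  simp only [List.map_cons, List.map_nil, List.sum_cons, List.sum_nil, e10, e11, e12, e13]
  push_cast
  ring

theorem hfv_13 (hβ : ∀ x y, X.com x y → ψ x y = β (X.cl x y)) : X.hf ψ 1 307464 = 63 * β 4180 + 576 * β 8126 + 2871 * β 12063 := by
  have h := hf_row hβ (c := 1) (d := 307464) chkw_1 chkd_13 [(e10, 63), (e12, 576), (e13, 2871)] (by
    intro p hp x hx
    have hm : p.1 ∈ ent 1 := by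
      simp only [List.mem_cons, List.not_mem_nil, or_false] at hp
      unfold ent
      rcases hp with rfl | rfl | rfl <;> simp
    exact (entQ1 p.1 hm x hx).2
  ) hf_13
  rw [h]
  simp only [List.map_cons, List.map_nil, List.sum_cons, List.sum_nil, e10, e12, e13]
  push_cast
  ring

theorem rsF_2 {F : ℕ → ℂ} (hβ : ∀ x, X.com 8 x → F x = β (X.cl 8 x)) :
    ∑ x ∈ X.PT.filter (fun x => X.com 8 x), F x = 728 * β 16108 + 1 * β 351 + 351 * β 8126 + 25272 * β 24036 + 3159 * β 16063 + 2160 * β 16000 := by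
  have h := M_row (F := F) (β := β) (c := 8) hβ chkw_2 [(e20, 728), (e21, 1), (e22, 351), (e23, 25272), (e24, 3159), (e25, 2160)] (by
    intro p hp x hx
    have hm : p.1 ∈ ent 2 := by
      simp only [List.mem_cons, List.not_mem_nil, or_false] at hp
      unfold ent
      rcases hp with rfl | rfl | rfl | rfl | rfl | rfl <;> simp
    exact (entQ2 p.1 hm x hx).2
  ) rs_2
  rw [h]
  simp only [List.map_cons, List.map_nil, List.sum_cons, List.sum_nil, e20, e21, e22, e23, e24, e25]
  push_cast
  ring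

theorem rsv_2 (hβ : ∀ x y, X.com x y → ψ x y = β (X.cl x y)) : X.rs ψ 8 = 728 * β 16108 + 1 * β 351 + 351 * β 8126 + 25272 * β 24036 + 3159 * β 16063 + 2160 * β 16000 :=
  rsF_2 fun x hx => hβ _ _ hx

theorem hfv_20 (hβ : ∀ x y, X.com x y → ψ x y = β (X.cl x y)) : X.hf ψ 8 307872 = 243 * β 16108 + 108 * β 8126 + 2916 * β 24036 + 243 * β 16063 := by
  have h := hf_row hβ (c := 8) (d := 307872) chkw_2 chkd_20 [(e20, 243), (e22, 108), (e23, 2916), (e24, 243)] (by
    intro p hp x hx
    have hm : p.1 ∈ ent 2 := by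
      simp only [List.mem_cons, List.not_mem_nil, or_false] at hp
      unfold ent
      rcases hp with rfl | rfl | rfl | rfl <;> simp
    exact (entQ2 p.1 hm x hx).2
  ) hf_20
  rw [h]
  simp only [List.map_cons, List.map_nil, List.sum_cons, List.sum_nil, e20, e22, e23, e24]
  push_cast
  ring

theorem hfv_21 (hβ : ∀ x y, X.com x y → ψ x y = β (X.cl x y)) : X.hf ψ 8 0 = 351 * β 8126 + 3159 * β 16063 := by
  have h := hf_row hβ (c := 8) (d := 0) chkw_2 chkw_0 [(e22, 351), (e24, 3159)] (by
    intro p hp x hx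
    have hm : p.1 ∈ ent 2 := by
      simp only [List.mem_cons, List.not_mem_nil, or_false] at hp
      unfold ent
      rcases hp with rfl | rfl <;> simp
    exact (entQ2 p.1 hm x hx).2
  ) hf_21
  rw [h]
  simp only [List.map_cons, List.map_nil, List.sum_cons, List.sum_nil, e22, e24]
  push_cast
  ring

theorem hfv_22 (hβ : ∀ x y, X.com x y → ψ x y = β (X.cl x y)) : X.hf ψ 8 1 = 224 * β 16108 + 1 * β 351 + 126 * β 8126 + 2592 * β 24036 + 567 * β 16063 := by
  have h := hf_row hβ (c := 8) (d := 1) chkw_2 chkw_1 [(e20, 224), (e21, 1), (e22, 126), (e23, 2592), (e24, 567)] (by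
    intro p hp x hx
    have hm : p.1 ∈ ent 2 := by
      simp only [List.mem_cons, List.not_mem_nil, or_false] at hp
      unfold ent
      rcases hp with rfl | rfl | rfl | rfl | rfl <;> simp
    exact (entQ2 p.1 hm x hx).2
  ) hf_22
  rw [h]
  simp only [List.map_cons, List.map_nil, List.sum_cons, List.sum_nil, e20, e21, e22, e23, e24]
  push_cast
  ring

theorem hfv_23 (hβ : ∀ x y, X.com x y → ψ x y = β (X.cl x y)) : X.hf ψ 8 308352 = 84 * β 16108 + 36 * β 8126 + 2835 * β 24036 + 315 * β 16063 + 240 * β 16000 := by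
  have h := hf_row hβ (c := 8) (d := 308352) chkw_2 chkd_23 [(e20, 84), (e22, 36), (e23, 2835), (e24, 315), (e25, 240)] (by
    intro p hp x hx
    have hm : p.1 ∈ ent 2 := by
      simp only [List.mem_cons, List.not_mem_nil, or_false] at hp
      unfold ent
      rcases hp with rfl | rfl | rfl | rfl | rfl <;> simp
    exact (entQ2 p.1 hm x hx).2
  ) hf_23
  rw [h]
  simp only [List.map_cons, List.map_nil, List.sum_cons, List.sum_nil, e20, e22, e23, e24, e25]
  push_cast
  ring

theorem hfv_24 (hβ : ∀ x y, X.com x y → ψ x y = β (X.cl x y)) : X.hf ψ 8 768 = 56 * β 16108 + 1 * β 351 + 63 * β 8126 + 2520 * β 24036 + 630 * β 16063 + 240 * β 16000 := by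
  have h := hf_row hβ (c := 8) (d := 768) chkw_2 chkd_24 [(e20, 56), (e21, 1), (e22, 63), (e23, 2520), (e24, 630), (e25, 240)] (by
    intro p hp x hx
    have hm : p.1 ∈ ent 2 := by
      simp only [List.mem_cons, List.not_mem_nil, or_false] at hp
      unfold ent
      rcases hp with rfl | rfl | rfl | rfl | rfl | rfl <;> simp
    exact (entQ2 p.1 hm x hx).2
  ) hf_24
  rw [h]
  simp only [List.map_cons, List.map_nil, List.sum_cons, List.sum_nil, e20, e21, e22, e23, e24, e25]
  push_cast
  ring

theorem hfv_25 (hβ : ∀ x y, X.com x y → ψ x y = β (X.cl x y)) : X.hf ψ 8 296072 = 2808 * β 24036 + 351 * β 16063 + 351 * β 16000 := by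
  have h := hf_row hβ (c := 8) (d := 296072) chkw_2 chkd_25 [(e23, 2808), (e24, 351), (e25, 351)] (by
    intro p hp x hx
    have hm : p.1 ∈ ent 2 := by
      simp only [List.mem_cons, List.not_mem_nil, or_false] at hp
      unfold ent
      rcases hp with rfl | rfl | rfl <;> simp
    exact (entQ2 p.1 hm x hx).2
  ) hf_25
  rw [h]
  simp only [List.map_cons, List.map_nil, List.sum_cons, List.sum_nil, e23, e24, e25]
  push_cast
  ring

theorem rsF_3 {F : ℕ → ℂ} (hβ : ∀ x, X.com 307496 x → F x = β (X.cl 307496 x)) :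
    ∑ x ∈ X.PT.filter (fun x => X.com 307496 x), F x = 1 * β 36360 + 5760 * β 24036 + 360 * β 12063 + 3150 * β 36072 + 22400 * β 36036 := by
  have h := M_row (F := F) (β := β) (c := 307496) hβ chkw_3 [(e30, 1), (e31, 5760), (e32, 360), (e33, 3150), (e34, 22400)] (by
    intro p hp x hx
    have hm : p.1 ∈ ent 3 := by
      simp only [List.mem_cons, List.not_mem_nil, or_false] at hp
      unfold ent
      rcases hp with rfl | rfl | rfl | rfl | rfl <;> simp
    exact (entQ3 p.1 hm x hx).2
  ) rs_3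
  rw [h]
  simp only [List.map_cons, List.map_nil, List.sum_cons, List.sum_nil, e30, e31, e32, e33, e34]
  push_cast
  ring

theorem rsv_3 (hβ : ∀ x y, X.com x y → ψ x y = β (X.cl x y)) : X.rs ψ 307496 = 1 * β 36360 + 5760 * β 24036 + 360 * β 12063 + 3150 * β 36072 + 22400 * β 36036 :=
  rsF_3 fun x hx => hβ _ _ hx

theorem hfv_30 (hβ : ∀ x y, X.com x y → ψ x y = β (X.cl x y)) : X.hf ψ 307496 308352 = 360 * β 12063 + 3150 * β 36072 := by
  have h := hf_row hβ (c := 307496) (d := 308352) chkw_3 chkd_30 [(e32, 360), (e33, 3150)] (by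
    intro p hp x hx
    have hm : p.1 ∈ ent 3 := by
      simp only [List.mem_cons, List.not_mem_nil, or_false] at hp
      unfold ent
      rcases hp with rfl | rfl <;> simp
    exact (entQ3 p.1 hm x hx).2
  ) hf_30
  rw [h]
  simp only [List.map_cons, List.map_nil, List.sum_cons, List.sum_nil, e32, e33]
  push_cast
  ring

theorem hfv_31 (hβ : ∀ x y, X.com x y → ψ x y = β (X.cl x y)) : X.hf ψ 307496 307840 = 639 * β 24036 + 36 * β 12063 + 315 * β 36072 + 2520 * β 36036 := by
  have h := hf_row hβ (c := 307496) (d := 307840) chkw_3 chkd_31 [(e31, 639), (e32, 36), (e33, 315), (e34, 2520)] (by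
    intro p hp x hx
    have hm : p.1 ∈ ent 3 := by
      simp only [List.mem_cons, List.not_mem_nil, or_false] at hp
      unfold ent
      rcases hp with rfl | rfl | rfl | rfl <;> simp
    exact (entQ3 p.1 hm x hx).2
  ) hf_31
  rw [h]
  simp only [List.map_cons, List.map_nil, List.sum_cons, List.sum_nil, e31, e32, e33, e34]
  push_cast
  ring

theorem hfv_32 (hβ : ∀ x y, X.com x y → ψ x y = β (X.cl x y)) : X.hf ψ 307496 1 = 1 * β 36360 + 576 * β 24036 + 63 * β 12063 + 630 * β 36072 + 2240 * β 36036 := by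
  have h := hf_row hβ (c := 307496) (d := 1) chkw_3 chkw_1 [(e30, 1), (e31, 576), (e32, 63), (e33, 630), (e34, 2240)] (by
    intro p hp x hx
    have hm : p.1 ∈ ent 3 := by
      simp only [List.mem_cons, List.not_mem_nil, or_false] at hp
      unfold ent
      rcases hp with rfl | rfl | rfl | rfl | rfl <;> simp
    exact (entQ3 p.1 hm x hx).2
  ) hf_32
  rw [h]
  simp only [List.map_cons, List.map_nil, List.sum_cons, List.sum_nil, e30, e31, e32, e33, e34]
  push_cast
  ring

theorem hfv_33 (hβ : ∀ x y, X.com x y → ψ x y = β (X.cl x y)) : X.hf ψ 307496 307480 = 1 * β 36360 + 576 * β 24036 + 72 * β 12063 + 621 * β 36072 + 2240 * β 36036 := by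
  have h := hf_row hβ (c := 307496) (d := 307480) chkw_3 chkd_33 [(e30, 1), (e31, 576), (e32, 72), (e33, 621), (e34, 2240)] (by
    intro p hp x hx
    have hm : p.1 ∈ ent 3 := by
      simp only [List.mem_cons, List.not_mem_nil, or_false] at hp
      unfold ent
      rcases hp with rfl | rfl | rfl | rfl | rfl <;> simp
    exact (entQ3 p.1 hm x hx).2
  ) hf_33
  rw [h]
  simp only [List.map_cons, List.map_nil, List.sum_cons, List.sum_nil, e30, e31, e32, e33, e34]
  push_cast
  ring

theorem hfv_34 (hβ : ∀ x y, X.com x y → ψ x y = β (X.cl x y)) : X.hf ψ 307496 266040 = 648 * β 24036 + 36 * β 12063 + 315 * β 36072 + 2511 * β 36036 := by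
  have h := hf_row hβ (c := 307496) (d := 266040) chkw_3 chkd_34 [(e31, 648), (e32, 36), (e33, 315), (e34, 2511)] (by
    intro p hp x hx
    have hm : p.1 ∈ ent 3 := by
      simp only [List.mem_cons, List.not_mem_nil, or_false] at hp
      unfold ent
      rcases hp with rfl | rfl | rfl | rfl <;> simp
    exact (entQ3 p.1 hm x hx).2
  ) hf_34
  rw [h]
  simp only [List.map_cons, List.map_nil, List.sum_cons, List.sum_nil, e31, e32, e33, e34]
  push_cast
  ring

/-- the rows of the first operator -/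
noncomputable def rowA (β : ℕ → ℂ) (k : ℕ) : ℂ :=
  if k = 3510 then 7020 * β 693 else
  if k = 693 then 1 * β 3510 + 694 * β 693 + 2816 * β 351 + 693 * β 4180 + 2816 * β 8126 else
  if k = 351 then 351 * β 693 + 3159 * β 351 + 351 * β 8126 + 3159 * β 16063 else
  if k = 4180 then 4 * β 693 + 360 * β 4180 + 2048 * β 8126 + 4608 * β 12063 else
  if k = 8126 then 1 * β 693 + 1 * β 351 + 126 * β 4180 + 917 * β 8126 + 2592 * β 12063 + 567 * β 16063 + 224 * β 16108 + 2592 * β 24036 else
  if k = 12063 then 63 * β 4180 + 576 * β 8126 + 2934 * β 12063 + 576 * β 24036 + 1 * β 36360 + 630 * β 36072 + 2240 * β 36036 else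
  if k = 16063 then 2 * β 351 + 126 * β 8126 + 1260 * β 16063 + 112 * β 16108 + 480 * β 16000 + 5040 * β 24036 else
  if k = 16108 then 216 * β 8126 + 486 * β 16063 + 486 * β 16108 + 5832 * β 24036 else
  if k = 16000 then 702 * β 16063 + 702 * β 16000 + 5616 * β 24036 else
  if k = 24036 then 36 * β 8126 + 36 * β 12063 + 315 * β 16063 + 84 * β 16108 + 240 * β 16000 + 3474 * β 24036 + 315 * β 36072 + 2520 * β 36036 else
  if k = 36360 then 720 * β 12063 + 6300 * β 36072 else
  if k = 36072 then 144 * β 12063 + 1152 * β 24036 + 2 * β 36360 + 1242 * β 36072 + 4480 * β 36036 else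
  if k = 36036 then 72 * β 12063 + 1296 * β 24036 + 630 * β 36072 + 5022 * β 36036 else
  0

theorem rowA_3510 : rowA β 3510 = 7020 * β 693 := by
  unfold rowA
  norm_num only [if_true, if_false]

theorem rowA_693 : rowA β 693 = 1 * β 3510 + 694 * β 693 + 2816 * β 351 + 693 * β 4180 + 2816 * β 8126 := by
  unfold rowA
  norm_num only [if_true, if_false]

theorem rowA_351 : rowA β 351 = 351 * β 693 + 3159 * β 351 + 351 * β 8126 + 3159 * β 16063 := by
  unfold rowA
  norm_num only [if_true, if_false]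

theorem rowA_4180 : rowA β 4180 = 4 * β 693 + 360 * β 4180 + 2048 * β 8126 + 4608 * β 12063 := by
  unfold rowA
  norm_num only [if_true, if_false]

theorem rowA_8126 : rowA β 8126 = 1 * β 693 + 1 * β 351 + 126 * β 4180 + 917 * β 8126 + 2592 * β 12063 + 567 * β 16063 + 224 * β 16108 + 2592 * β 24036 := by
  unfold rowA
  norm_num only [if_true, if_false]

theorem rowA_12063 : rowA β 12063 = 63 * β 4180 + 576 * β 8126 + 2934 * β 12063 + 576 * β 24036 + 1 * β 36360 + 630 * β 36072 + 2240 * β 36036 := by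
  unfold rowA
  norm_num only [if_true, if_false]

theorem rowA_16063 : rowA β 16063 = 2 * β 351 + 126 * β 8126 + 1260 * β 16063 + 112 * β 16108 + 480 * β 16000 + 5040 * β 24036 := by
  unfold rowA
  norm_num only [if_true, if_false]

theorem rowA_16108 : rowA β 16108 = 216 * β 8126 + 486 * β 16063 + 486 * β 16108 + 5832 * β 24036 := by
  unfold rowA
  norm_num only [if_true, if_false]

theorem rowA_16000 : rowA β 16000 = 702 * β 16063 + 702 * β 16000 + 5616 * β 24036 := by
  unfold rowA
  norm_num only [if_true, if_false]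

theorem rowA_24036 : rowA β 24036 = 36 * β 8126 + 36 * β 12063 + 315 * β 16063 + 84 * β 16108 + 240 * β 16000 + 3474 * β 24036 + 315 * β 36072 + 2520 * β 36036 := by
  unfold rowA
  norm_num only [if_true, if_false]

theorem rowA_36360 : rowA β 36360 = 720 * β 12063 + 6300 * β 36072 := by
  unfold rowA
  norm_num only [if_true, if_false]

theorem rowA_36072 : rowA β 36072 = 144 * β 12063 + 1152 * β 24036 + 2 * β 36360 + 1242 * β 36072 + 4480 * β 36036 := by
  unfold rowA
  norm_num only [if_true, if_false]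

theorem rowA_36036 : rowA β 36036 = 72 * β 12063 + 1296 * β 24036 + 630 * β 36072 + 5022 * β 36036 := by
  unfold rowA
  norm_num only [if_true, if_false]

theorem A1v_00 (hK : X.KInv ψ) (hβ : ∀ x y, X.com x y → ψ x y = β (X.cl x y)) : X.A1 ψ 0 1 = rowA β 693 := by
  have h1 : X.hf ψ 1 0 = X.hf ψ 1 0 := orbs.rev hK.hf (τ := 0) (by norm_num) (e := e00) (e' := e11)
    (by unfold ent; simp) (by show e11 ∈ ent 1; unfold ent; simp) rfl
  show X.hf ψ 0 1 + X.hf ψ 1 0 = _
  rw [h1, hfv_00 hβ, hfv_11 hβ, rowA_693]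
  ring

theorem A1v_01 (hK : X.KInv ψ) (hβ : ∀ x y, X.com x y → ψ x y = β (X.cl x y)) : X.A1 ψ 0 3240 = rowA β 351 := by
  have h1 : X.hf ψ 3240 0 = X.hf ψ 8 0 := orbs.rev hK.hf (τ := 0) (by norm_num) (e := e01) (e' := e21)
    (by unfold ent; simp) (by show e21 ∈ ent 2; unfold ent; simp) rfl
  show X.hf ψ 0 3240 + X.hf ψ 3240 0 = _
  rw [h1, hfv_01 hβ, hfv_21 hβ, rowA_351]
  ring

theorem A1v_02 (hK : X.KInv ψ) (hβ : ∀ x y, X.com x y → ψ x y = β (X.cl x y)) : X.A1 ψ 0 136 = rowA β 3510 := by
  have h1 : X.hf ψ 136 0 = X.hf ψ 0 136 := orbs.rev hK.hf (τ := 0) (by norm_num) (e := e02) (e' := e02)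
    (by unfold ent; simp) (by show e02 ∈ ent 0; unfold ent; simp) rfl
  show X.hf ψ 0 136 + X.hf ψ 136 0 = _
  rw [h1, hfv_02 hβ, rowA_3510]
  ring

theorem A1v_10 (hK : X.KInv ψ) (hβ : ∀ x y, X.com x y → ψ x y = β (X.cl x y)) : X.A1 ψ 1 4 = rowA β 4180 := by
  have h1 : X.hf ψ 4 1 = X.hf ψ 1 4 := orbs.rev hK.hf (τ := 1) (by norm_num) (e := e10) (e' := e10)
    (by unfold ent; simp) (by show e10 ∈ ent 1; unfold ent; simp) rfl
  show X.hf ψ 1 4 + X.hf ψ 4 1 = _
  rw [h1, hfv_10 hβ, rowA_4180]
  ring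

theorem A1v_11 (hK : X.KInv ψ) (hβ : ∀ x y, X.com x y → ψ x y = β (X.cl x y)) : X.A1 ψ 1 0 = rowA β 693 := by
  have h1 : X.hf ψ 0 1 = X.hf ψ 0 1 := orbs.rev hK.hf (τ := 1) (by norm_num) (e := e11) (e' := e00)
    (by unfold ent; simp) (by show e00 ∈ ent 0; unfold ent; simp) rfl
  show X.hf ψ 1 0 + X.hf ψ 0 1 = _
  rw [h1, hfv_11 hβ, hfv_00 hβ, rowA_693]
  ring

theorem A1v_12 (hK : X.KInv ψ) (hβ : ∀ x y, X.com x y → ψ x y = β (X.cl x y)) : X.A1 ψ 1 307968 = rowA β 8126 := by
  have h1 : X.hf ψ 307968 1 = X.hf ψ 8 1 := orbs.rev hK.hf (τ := 1) (by norm_num) (e := e12) (e' := e22)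
    (by unfold ent; simp) (by show e22 ∈ ent 2; unfold ent; simp) rfl
  show X.hf ψ 1 307968 + X.hf ψ 307968 1 = _
  rw [h1, hfv_12 hβ, hfv_22 hβ, rowA_8126]
  ring

theorem A1v_13 (hK : X.KInv ψ) (hβ : ∀ x y, X.com x y → ψ x y = β (X.cl x y)) : X.A1 ψ 1 307464 = rowA β 12063 := by
  have h1 : X.hf ψ 307464 1 = X.hf ψ 307496 1 := orbs.rev hK.hf (τ := 1) (by norm_num) (e := e13) (e' := e32)
    (by unfold ent; simp) (by show e32 ∈ ent 3; unfold ent; simp) rfl
  show X.hf ψ 1 307464 + X.hf ψ 307464 1 = _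
  rw [h1, hfv_13 hβ, hfv_32 hβ, rowA_12063]
  ring

theorem A1v_20 (hK : X.KInv ψ) (hβ : ∀ x y, X.com x y → ψ x y = β (X.cl x y)) : X.A1 ψ 8 307872 = rowA β 16108 := by
  have h1 : X.hf ψ 307872 8 = X.hf ψ 8 307872 := orbs.rev hK.hf (τ := 2) (by norm_num) (e := e20) (e' := e20)
    (by unfold ent; simp) (by show e20 ∈ ent 2; unfold ent; simp) rfl
  show X.hf ψ 8 307872 + X.hf ψ 307872 8 = _
  rw [h1, hfv_20 hβ, rowA_16108]
  ring

theorem A1v_21 (hK : X.KInv ψ) (hβ : ∀ x y, X.com x y → ψ x y = β (X.cl x y)) : X.A1 ψ 8 0 = rowA β 351 := by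
  have h1 : X.hf ψ 0 8 = X.hf ψ 0 3240 := orbs.rev hK.hf (τ := 2) (by norm_num) (e := e21) (e' := e01)
    (by unfold ent; simp) (by show e01 ∈ ent 0; unfold ent; simp) rfl
  show X.hf ψ 8 0 + X.hf ψ 0 8 = _
  rw [h1, hfv_21 hβ, hfv_01 hβ, rowA_351]
  ring

theorem A1v_22 (hK : X.KInv ψ) (hβ : ∀ x y, X.com x y → ψ x y = β (X.cl x y)) : X.A1 ψ 8 1 = rowA β 8126 := by
  have h1 : X.hf ψ 1 8 = X.hf ψ 1 307968 := orbs.rev hK.hf (τ := 2) (by norm_num) (e := e22) (e' := e12)
    (by unfold ent; simp) (by show e12 ∈ ent 1; unfold ent; simp) rfl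
  show X.hf ψ 8 1 + X.hf ψ 1 8 = _
  rw [h1, hfv_22 hβ, hfv_12 hβ, rowA_8126]
  ring

theorem A1v_23 (hK : X.KInv ψ) (hβ : ∀ x y, X.com x y → ψ x y = β (X.cl x y)) : X.A1 ψ 8 308352 = rowA β 24036 := by
  have h1 : X.hf ψ 308352 8 = X.hf ψ 307496 307840 := orbs.rev hK.hf (τ := 2) (by norm_num) (e := e23) (e' := e31)
    (by unfold ent; simp) (by show e31 ∈ ent 3; unfold ent; simp) rfl
  show X.hf ψ 8 308352 + X.hf ψ 308352 8 = _
  rw [h1, hfv_23 hβ, hfv_31 hβ, rowA_24036]
  ring

theorem A1v_24 (hK : X.KInv ψ) (hβ : ∀ x y, X.com x y → ψ x y = β (X.cl x y)) : X.A1 ψ 8 768 = rowA β 16063 := by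
  have h1 : X.hf ψ 768 8 = X.hf ψ 8 768 := orbs.rev hK.hf (τ := 2) (by norm_num) (e := e24) (e' := e24)
    (by unfold ent; simp) (by show e24 ∈ ent 2; unfold ent; simp) rfl
  show X.hf ψ 8 768 + X.hf ψ 768 8 = _
  rw [h1, hfv_24 hβ, rowA_16063]
  ring

theorem A1v_25 (hK : X.KInv ψ) (hβ : ∀ x y, X.com x y → ψ x y = β (X.cl x y)) : X.A1 ψ 8 296072 = rowA β 16000 := by
  have h1 : X.hf ψ 296072 8 = X.hf ψ 8 296072 := orbs.rev hK.hf (τ := 2) (by norm_num) (e := e25) (e' := e25)
    (by unfold ent; simp) (by show e25 ∈ ent 2; unfold ent; simp) rfl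
  show X.hf ψ 8 296072 + X.hf ψ 296072 8 = _
  rw [h1, hfv_25 hβ, rowA_16000]
  ring

theorem A1v_30 (hK : X.KInv ψ) (hβ : ∀ x y, X.com x y → ψ x y = β (X.cl x y)) : X.A1 ψ 307496 308352 = rowA β 36360 := by
  have h1 : X.hf ψ 308352 307496 = X.hf ψ 307496 308352 := orbs.rev hK.hf (τ := 3) (by norm_num) (e := e30) (e' := e30)
    (by unfold ent; simp) (by show e30 ∈ ent 3; unfold ent; simp) rfl
  show X.hf ψ 307496 308352 + X.hf ψ 308352 307496 = _
  rw [h1, hfv_30 hβ, rowA_36360]
  ring

theorem A1v_31 (hK : X.KInv ψ) (hβ : ∀ x y, X.com x y → ψ x y = β (X.cl x y)) : X.A1 ψ 307496 307840 = rowA β 24036 := by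
  have h1 : X.hf ψ 307840 307496 = X.hf ψ 8 308352 := orbs.rev hK.hf (τ := 3) (by norm_num) (e := e31) (e' := e23)
    (by unfold ent; simp) (by show e23 ∈ ent 2; unfold ent; simp) rfl
  show X.hf ψ 307496 307840 + X.hf ψ 307840 307496 = _
  rw [h1, hfv_31 hβ, hfv_23 hβ, rowA_24036]
  ring

theorem A1v_32 (hK : X.KInv ψ) (hβ : ∀ x y, X.com x y → ψ x y = β (X.cl x y)) : X.A1 ψ 307496 1 = rowA β 12063 := by
  have h1 : X.hf ψ 1 307496 = X.hf ψ 1 307464 := orbs.rev hK.hf (τ := 3) (by norm_num) (e := e32) (e' := e13)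
    (by unfold ent; simp) (by show e13 ∈ ent 1; unfold ent; simp) rfl
  show X.hf ψ 307496 1 + X.hf ψ 1 307496 = _
  rw [h1, hfv_32 hβ, hfv_13 hβ, rowA_12063]
  ring

theorem A1v_33 (hK : X.KInv ψ) (hβ : ∀ x y, X.com x y → ψ x y = β (X.cl x y)) : X.A1 ψ 307496 307480 = rowA β 36072 := by
  have h1 : X.hf ψ 307480 307496 = X.hf ψ 307496 307480 := orbs.rev hK.hf (τ := 3) (by norm_num) (e := e33) (e' := e33)
    (by unfold ent; simp) (by show e33 ∈ ent 3; unfold ent; simp) rfl
  show X.hf ψ 307496 307480 + X.hf ψ 307480 307496 = _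
  rw [h1, hfv_33 hβ, rowA_36072]
  ring

theorem A1v_34 (hK : X.KInv ψ) (hβ : ∀ x y, X.com x y → ψ x y = β (X.cl x y)) : X.A1 ψ 307496 266040 = rowA β 36036 := by
  have h1 : X.hf ψ 266040 307496 = X.hf ψ 307496 266040 := orbs.rev hK.hf (τ := 3) (by norm_num) (e := e34) (e' := e34)
    (by unfold ent; simp) (by show e34 ∈ ent 3; unfold ent; simp) rfl
  show X.hf ψ 307496 266040 + X.hf ψ 266040 307496 = _
  rw [h1, hfv_34 hβ, rowA_36036]
  ring

/-- **The first operator.** -/
theorem A1_val (hK : X.KInv ψ) (hβ : ∀ x y, X.com x y → ψ x y = β (X.cl x y)) {x y : ℕ} (hxy : X.com x y) :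
    X.A1 ψ x y = rowA β (X.cl x y) := by
  refine orbs.apply_eq hK.A1 (f := fun _ k => rowA β k) ?_ hxy
  intro τ hτ e he
  interval_cases τ
  · unfold ent at he
    simp only [List.mem_cons, List.not_mem_nil, or_false] at he
    rcases he with rfl | rfl | rfl
    · exact A1v_00 hK hβ
    · exact A1v_01 hK hβ
    · exact A1v_02 hK hβ
  · unfold ent at he
    simp only [List.mem_cons, List.not_mem_nil, or_false] at he
    rcases he with rfl | rfl | rfl | rfl
    · exact A1v_10 hK hβ
    · exact A1v_11 hK hβ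
    · exact A1v_12 hK hβ
    · exact A1v_13 hK hβ
  · unfold ent at he
    simp only [List.mem_cons, List.not_mem_nil, or_false] at he
    rcases he with rfl | rfl | rfl | rfl | rfl | rfl
    · exact A1v_20 hK hβ
    · exact A1v_21 hK hβ
    · exact A1v_22 hK hβ
    · exact A1v_23 hK hβ
    · exact A1v_24 hK hβ
    · exact A1v_25 hK hβ
  · unfold ent at he
    simp only [List.mem_cons, List.not_mem_nil, or_false] at he
    rcases he with rfl | rfl | rfl | rfl | rfl
    · exact A1v_30 hK hβ
    · exact A1v_31 hK hβ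
    · exact A1v_32 hK hβ
    · exact A1v_33 hK hβ
    · exact A1v_34 hK hβ

theorem tp_tc0 : tp 0 = word tc0 := by
  rw [tp_eq (isPt_tr (u := []) (x := .l) (p := 0) (by decide +kernel))]
  rfl

theorem tp_td0 : tp 136 = word td0 := by
  rw [tp_eq (isPt_tr (u := []) (x := .j) (p := 136) (by decide +kernel))]
  rfl

theorem s5v_0 (hβ : ∀ x y, X.com x y → ψ x y = β (X.cl x y)) : X.s5 ψ 0 136 = 247104 * β 36360 := by
  have hcd := (chkCl_spec cl_02).1
  have h := s5_row hβ (c := 0) (d := 136) chkw_0 chkd_02 hcd [(S0_0, 247104)] (by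
    intro p hp
    simp only [List.mem_cons, List.not_mem_nil, or_false] at hp
    rcases hp with rfl
    · exact chkS_spec chkS0_0 hcd tp_tc0 tp_td0
  ) peelS0
  rw [h]
  simp only [List.map_cons, List.map_nil, List.sum_cons, List.sum_nil, S0_0]
  push_cast
  ring

theorem CC_0 (hF : IsFn X ψ) (hK : X.KInv ψ) (hβ : ∀ x y, X.com x y → ψ x y = β (X.cl x y)) :
    X.CC ψ 0 136 = 3512 * β 3510 + 56320 * β 351 + 247104 * β 36360 := by
  have hcd := chkCl_spec cl_02
  have hcard : ((X.PT.filter fun x => X.com 0 x ∧ X.com 136 x).card : ℂ) = 3510 := by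
    have h1 := hfv_02 (ψ := fn X X.cl fun _ => 1) (β := fun _ => 1) (fun x y h => if_pos h)
    rw [Ctx.hf_one] at h1
    rw [h1]
    norm_num
  have hrs : X.rs ψ 136 = X.rs ψ 0 := orbs.rs_end hK (τ := 0) (by norm_num) (e := e02) (by unfold ent; simp)
  rw [Ctx.CC_eq' tr hF hcd.1, hcard, hrs, rsv_0 hβ, A1v_02 hK hβ, rowA_3510, s5v_0 hβ, hβ _ _ hcd.1, hcd.2]
  ring

theorem tp_tc3 : tp 1 = word tc3 := by
  rw [tp_eq (isPt_tr (u := []) (x := .a) (p := 1) (by decide +kernel))]
  rfl

theorem tp_td3 : tp 4 = word td3 := by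
  rw [tp_eq (isPt_tr (u := []) (x := .h) (p := 4) (by decide +kernel))]
  rfl

theorem s5v_3 (hβ : ∀ x y, X.com x y → ψ x y = β (X.cl x y)) : X.s5 ψ 1 4 = 2304 * β 4180 + 46080 * β 16063 + 320 * β 36360 + 34560 * β 36072 + 163840 * β 36036 := by
  have hcd := (chkCl_spec cl_10).1
  have h := s5_row hβ (c := 1) (d := 4) chkw_1 chkd_10 hcd [(S3_0, 2304), (S3_1, 23040), (S3_2, 23040), (S3_3, 163840), (S3_4, 34560), (S3_5, 320)] (by
    intro p hp
    simp only [List.mem_cons, List.not_mem_nil, or_false] at hp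
    rcases hp with rfl | rfl | rfl | rfl | rfl | rfl
    · exact chkS_spec chkS3_0 hcd tp_tc3 tp_td3
    · exact chkS_spec chkS3_1 hcd tp_tc3 tp_td3
    · exact chkS_spec chkS3_2 hcd tp_tc3 tp_td3
    · exact chkS_spec chkS3_3 hcd tp_tc3 tp_td3
    · exact chkS_spec chkS3_4 hcd tp_tc3 tp_td3
    · exact chkS_spec chkS3_5 hcd tp_tc3 tp_td3
  ) peelS3
  rw [h]
  simp only [List.map_cons, List.map_nil, List.sum_cons, List.sum_nil, S3_0, S3_1, S3_2, S3_3, S3_4, S3_5]
  push_cast
  ring

theorem CC_3 (hF : IsFn X ψ) (hK : X.KInv ψ) (hβ : ∀ x y, X.com x y → ψ x y = β (X.cl x y)) :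
    X.CC ψ 1 4 = 6840 * β 4180 + 9216 * β 8126 + 46080 * β 12063 + 46080 * β 16063 + 320 * β 36360 + 34560 * β 36072 + 163840 * β 36036 := by
  have hcd := chkCl_spec cl_10
  have hcard : ((X.PT.filter fun x => X.com 1 x ∧ X.com 4 x).card : ℂ) = 3510 := by
    have h1 := hfv_10 (ψ := fn X X.cl fun _ => 1) (β := fun _ => 1) (fun x y h => if_pos h)
    rw [Ctx.hf_one] at h1
    rw [h1]
    norm_num
  have hrs : X.rs ψ 4 = X.rs ψ 1 := orbs.rs_end hK (τ := 1) (by norm_num) (e := e10) (by unfold ent; simp)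
  rw [Ctx.CC_eq' tr hF hcd.1, hcard, hrs, rsv_1 hβ, A1v_10 hK hβ, rowA_4180, s5v_3 hβ, hβ _ _ hcd.1, hcd.2]
  ring

theorem tp_tc7 : tp 8 = word tc7 := by
  rw [tp_eq (isPt_tr (u := []) (x := .g) (p := 8) (by decide +kernel))]
  rfl

theorem tp_td7 : tp 307872 = word td7 := by
  rw [tp_eq (isPt_tr (u := []) (x := .k) (p := 307872) (by decide +kernel))]
  rfl

theorem s5v_7 (hβ : ∀ x y, X.com x y → ψ x y = β (X.cl x y)) : X.s5 ψ 8 307872 = 5832 * β 12063 + 5832 * β 16108 + 77760 * β 24036 + 270 * β 36360 + 65610 * β 36072 + 91800 * β 36036 := by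
  have hcd := (chkCl_spec cl_20).1
  have h := s5_row hβ (c := 8) (d := 307872) chkw_2 chkd_20 hcd [(S7_0, 2916), (S7_1, 2916), (S7_2, 2916), (S7_3, 2916), (S7_4, 19440), (S7_5, 19440), (S7_6, 19440), (S7_7, 19440), (S7_8, 65610), (S7_9, 65610), (S7_10, 25920), (S7_11, 270), (S7_12, 270)] (by
    intro p hp
    simp only [List.mem_cons, List.not_mem_nil, or_false] at hp
    rcases hp with rfl | rfl | rfl | rfl | rfl | rfl | rfl | rfl | rfl | rfl | rfl | rfl | rfl
    · exact chkS_spec chkS7_0 hcd tp_tc7 tp_td7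
    · exact chkS_spec chkS7_1 hcd tp_tc7 tp_td7
    · exact chkS_spec chkS7_2 hcd tp_tc7 tp_td7
    · exact chkS_spec chkS7_3 hcd tp_tc7 tp_td7
    · exact chkS_spec chkS7_4 hcd tp_tc7 tp_td7
    · exact chkS_spec chkS7_5 hcd tp_tc7 tp_td7
    · exact chkS_spec chkS7_6 hcd tp_tc7 tp_td7
    · exact chkS_spec chkS7_7 hcd tp_tc7 tp_td7
    · exact chkS_spec chkS7_8 hcd tp_tc7 tp_td7
    · exact chkS_spec chkS7_9 hcd tp_tc7 tp_td7
    · exact chkS_spec chkS7_10 hcd tp_tc7 tp_td7
    · exact chkS_spec chkS7_11 hcd tp_tc7 tp_td7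
    · exact chkS_spec chkS7_12 hcd tp_tc7 tp_td7
  ) peelS7
  rw [h]
  simp only [List.map_cons, List.map_nil, List.sum_cons, List.sum_nil, S7_0, S7_1, S7_2, S7_3, S7_4, S7_5, S7_6, S7_7, S7_8, S7_9, S7_10, S7_11, S7_12]
  push_cast
  ring

theorem CC_7 (hF : IsFn X ψ) (hK : X.KInv ψ) (hβ : ∀ x y, X.com x y → ψ x y = β (X.cl x y)) :
    X.CC ψ 8 307872 = 2 * β 351 + 486 * β 8126 + 5832 * β 12063 + 5832 * β 16063 + 10312 * β 16108 + 4320 * β 16000 + 122472 * β 24036 + 270 * β 36360 + 65610 * β 36072 + 91800 * β 36036 := by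
  have hcd := chkCl_spec cl_20
  have hcard : ((X.PT.filter fun x => X.com 8 x ∧ X.com 307872 x).card : ℂ) = 3510 := by
    have h1 := hfv_20 (ψ := fn X X.cl fun _ => 1) (β := fun _ => 1) (fun x y h => if_pos h)
    rw [Ctx.hf_one] at h1
    rw [h1]
    norm_num
  have hrs : X.rs ψ 307872 = X.rs ψ 8 := orbs.rs_end hK (τ := 2) (by norm_num) (e := e20) (by unfold ent; simp)
  rw [Ctx.CC_eq' tr hF hcd.1, hcard, hrs, rsv_2 hβ, A1v_20 hK hβ, rowA_16108, s5v_7 hβ, hβ _ _ hcd.1, hcd.2]
  ring

theorem tp_tc10 : tp 307496 = word tc10 := by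
  rw [tp_eq (isPt_tr (u := [.g, .f, .k, .a, .e, .b, .d]) (x := .c) (p := 307496) (by decide +kernel))]
  rfl

theorem tp_td10 : tp 308352 = word td10 := by
  rw [tp_eq (isPt_tr (u := [.l, .j, .k, .a, .g, .b, .f, .c, .e]) (x := .d) (p := 308352) (by decide +kernel))]
  rfl

theorem s5v_10 (hβ : ∀ x y, X.com x y → ψ x y = β (X.cl x y)) : X.s5 ψ 307496 308352 = 2 * β 3510 + 3150 * β 4180 + 44800 * β 16108 + 3152 * β 36360 + 151200 * β 36072 + 44800 * β 36036 := by
  have hcd := (chkCl_spec cl_30).1
  have h := s5_row hβ (c := 307496) (d := 308352) chkw_3 chkd_30 hcd [(S10_0, 1), (S10_1, 1), (S10_2, 3150), (S10_3, 1), (S10_4, 1), (S10_5, 3150), (S10_6, 22400), (S10_7, 22400), (S10_8, 22400), (S10_9, 22400), (S10_10, 151200)] (by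
    intro p hp
    simp only [List.mem_cons, List.not_mem_nil, or_false] at hp
    rcases hp with rfl | rfl | rfl | rfl | rfl | rfl | rfl | rfl | rfl | rfl | rfl
    · exact chkS_spec chkS10_0 hcd tp_tc10 tp_td10
    · exact chkS_spec chkS10_1 hcd tp_tc10 tp_td10
    · exact chkS_spec chkS10_2 hcd tp_tc10 tp_td10
    · exact chkS_spec chkS10_3 hcd tp_tc10 tp_td10
    · exact chkS_spec chkS10_4 hcd tp_tc10 tp_td10
    · exact chkS_spec chkS10_5 hcd tp_tc10 tp_td10
    · exact chkS_spec chkS10_6 hcd tp_tc10 tp_td10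
    · exact chkS_spec chkS10_7 hcd tp_tc10 tp_td10
    · exact chkS_spec chkS10_8 hcd tp_tc10 tp_td10
    · exact chkS_spec chkS10_9 hcd tp_tc10 tp_td10
    · exact chkS_spec chkS10_10 hcd tp_tc10 tp_td10
  ) peelS10
  rw [h]
  simp only [List.map_cons, List.map_nil, List.sum_cons, List.sum_nil, S10_0, S10_1, S10_2, S10_3, S10_4, S10_5, S10_6, S10_7, S10_8, S10_9, S10_10]
  push_cast
  ring

theorem CC_10 (hF : IsFn X ψ) (hK : X.KInv ψ) (hβ : ∀ x y, X.com x y → ψ x y = β (X.cl x y)) :
    X.CC ψ 307496 308352 = 2 * β 3510 + 3150 * β 4180 + 44800 * β 16108 + 11520 * β 24036 + 6664 * β 36360 + 151200 * β 36072 + 89600 * β 36036 := by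
  have hcd := chkCl_spec cl_30
  have hcard : ((X.PT.filter fun x => X.com 307496 x ∧ X.com 308352 x).card : ℂ) = 3510 := by
    have h1 := hfv_30 (ψ := fn X X.cl fun _ => 1) (β := fun _ => 1) (fun x y h => if_pos h)
    rw [Ctx.hf_one] at h1
    rw [h1]
    norm_num
  have hrs : X.rs ψ 308352 = X.rs ψ 307496 := orbs.rs_end hK (τ := 3) (by norm_num) (e := e30) (by unfold ent; simp)
  rw [Ctx.CC_eq' tr hF hcd.1, hcard, hrs, rsv_3 hβ, A1v_30 hK hβ, rowA_36360, s5v_10 hβ, hβ _ _ hcd.1, hcd.2]
  ring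

/-- the classes -/
theorem cl_mem {x y : ℕ} (hxy : X.com x y) : X.cl x y ∈ [3510, 693, 351, 4180, 8126, 12063, 16063, 16108, 16000, 24036, 36360, 36072, 36036] := by
  obtain ⟨e, he, hn, -, hk, -⟩ := orbs.exists_ent hxy
  rw [hk]
  have h2 : ∀ τ < 4, ∀ e ∈ ent τ, e.k ∈ [3510, 693, 351, 4180, 8126, 12063, 16063, 16108, 16000, 24036, 36360, 36072, 36036] := by decide +kernel
  exact h2 _ hn e he

end Cfsg.Agent.H30.FiE
end

-- part: H30/FiE/Deg
section
/-!
# Degrees of `Fi24` from the commuting pairs of transpositions (helper30). Generated.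
-/

set_option autoImplicit false
set_option maxRecDepth 100000
set_option linter.all false

namespace Cfsg.Agent.H30.FiE

open Cfsg Cfsg.Agent.Lib.PermNet Cfsg.Agent.Lib.PermNetPt Cfsg.Agent.Lib.PermNetOrbit
open Cfsg.Agent.Fischer.Fi24RepOrb (UG)
open Cfsg.Spor (Fi24)
open Cfsg.Agent.H30.PairFn (Ctx)
open Cfsg.Agent.H30.PairFn.Ctx (Ent Orbs IsFn KInv hf rs fn)
open scoped ComplexConjugate

attribute [local instance] Classical.propDecidable


/-- the representative of a class -/
theorem exists_rep {k : ℕ} (hk : k ∈ [3510, 693, 351, 4180, 8126, 12063, 16063, 16108, 16000, 24036, 36360, 36072, 36036]) : ∃ x y, X.com x y ∧ X.cl x y = k := by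
  have h2 : ∀ k ∈ [3510, 693, 351, 4180, 8126, 12063, 16063, 16108, 16000, 24036, 36360, 36072, 36036], ∃ τ < 4, ∃ e ∈ ent τ, e.k = k := by decide +kernel
  obtain ⟨τ, hτ, e, he, rfl⟩ := h2 k hk
  exact ⟨_, _, orbs.dcom τ hτ e he, orbs.cl τ hτ e he⟩

/-- the equations of an eigenfunction -/
theorem eqA {ψ : ℕ → ℕ → ℂ} {β : ℕ → ℂ} {t : ℂ} (hK : X.KInv ψ) (hβ : ∀ x y, X.com x y → ψ x y = β (X.cl x y))
    (h : ∀ c d, X.com c d → X.A1 ψ c d = t * ψ c d) {k : ℕ} (hk : k ∈ [3510, 693, 351, 4180, 8126, 12063, 16063, 16108, 16000, 24036, 36360, 36072, 36036]) : rowA β k = t * β k := by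
  obtain ⟨x, y, hxy, rfl⟩ := exists_rep hk
  rw [← A1_val hK hβ hxy, h x y hxy, hβ x y hxy]

/-- the numbers of points of the types -/
def ms : ℕ → ℕ
  | 0 => 2
  | 1 => 3510
  | 2 => 56320
  | _ => 247104

theorem rep_all' : peelB 19 (([(R0, 2, 0), (R1, 3510, 1), (R2, 56320, 2), (R3, 247104, 3)] : List (ℕ × ℕ × ℕ)).map
    fun p => (p.1, p.2.1)) UG = true := by
  have h := rep_all
  simp only [List.map_cons, List.map_nil] at h ⊢
  exact h

theorem card_T {τ : ℕ} (hτ : τ < 4) : (X.PT.filter fun x => X.T x = τ).card = ms τ := by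
  have h := peel_sum (k := 19) [(R0, 2, 0), (R1, 3510, 1), (R2, 56320, 2), (R3, 247104, 3)] (q := fun p => p.1)
    (s := fun p => p.2.1) (v := fun p => if p.2.2 = τ then (1 : ℂ) else 0)
    (F := fun x => if X.T x = τ then (1 : ℂ) else 0) (m := UG) (by
      intro i hi x hx _
      simp only [List.mem_cons, List.not_mem_nil, or_false] at hi
      have h1 : X.T x = i.2.2 := by
        rcases hi with rfl | rfl | rfl | rfl
        · exact (orbR0 x hx).1
        · exact (orbR1 x hx).1
        · exact (orbR2 x hx).1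
        · exact (orbR3 x hx).1
      simp only [h1]) UG_lt rep_all'
  have h0 : X.PT = bits (2 ^ 19) UG := rfl
  have h2 : ((X.PT.filter fun x => X.T x = τ).card : ℂ) = ∑ x ∈ X.PT, (if X.T x = τ then (1 : ℂ) else 0) := by
    rw [Finset.card_filter, Nat.cast_sum]
    refine Finset.sum_congr rfl fun x _ => ?_
    by_cases hx : X.T x = τ
    · rw [if_pos hx, if_pos hx, Nat.cast_one]
    · rw [if_neg hx, if_neg hx, Nat.cast_zero]
  rw [h0] at h2
  rw [← h2] at h
  have h3 : (((X.PT.filter fun x => X.T x = τ).card : ℕ) : ℂ) = ((ms τ : ℕ) : ℂ) := by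
    rw [h0, h]
    simp only [List.map_cons, List.map_nil, List.sum_cons, List.sum_nil]
    interval_cases τ <;> norm_num [ms]
  exact_mod_cast h3

/-- the sum of a function of the class -/
theorem sum_fn (w : ℕ → ℂ) : ∑ x ∈ X.PT, ∑ y ∈ X.PT, fn X X.cl w x y = 2 * (3510 * w 693 + 28160 * w 351 + 1 * w 3510) +
    3510 * (693 * w 4180 + 2 * w 693 + 5632 * w 8126 + 25344 * w 12063) +
    56320 * (728 * w 16108 + 1 * w 351 + 351 * w 8126 + 25272 * w 24036 + 3159 * w 16063 + 2160 * w 16000) +
    247104 * (1 * w 36360 + 5760 * w 24036 + 360 * w 12063 + 3150 * w 36072 + 22400 * w 36036) := by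
  have key : ∀ c, ∑ y ∈ X.PT, fn X X.cl w c y = ∑ y ∈ X.PT.filter (fun y => X.com c y), fn X X.cl w c y := by
    intro c
    rw [Finset.sum_filter]
    refine Finset.sum_congr rfl fun y _ => ?_
    by_cases h : X.com c y
    · rw [if_pos h]
    · rw [if_neg h]; exact if_neg h
  have h := orbs.sum_eq (orbs.kInv w) (m := ms) (fun τ hτ => card_T hτ) (s := fun τ => ∑ y ∈ X.PT, fn X X.cl w (cp τ) y)
    (fun τ _ => rfl)
  rw [h, Finset.sum_range_succ, Finset.sum_range_succ, Finset.sum_range_succ, Finset.sum_range_succ, Finset.sum_range_zero]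
  have e0 : ∑ y ∈ X.PT, fn X X.cl w (cp 0) y = _ := (key _).trans (rsF_0 (β := w) fun x hx => if_pos hx)
  have e1 : ∑ y ∈ X.PT, fn X X.cl w (cp 1) y = _ := (key _).trans (rsF_1 (β := w) fun x hx => if_pos hx)
  have e2 : ∑ y ∈ X.PT, fn X X.cl w (cp 2) y = _ := (key _).trans (rsF_2 (β := w) fun x hx => if_pos hx)
  have e3 : ∑ y ∈ X.PT, fn X X.cl w (cp 3) y = _ := (key _).trans (rsF_3 (β := w) fun x hx => if_pos hx)
  rw [e0, e1, e2, e3]
  simp only [ms]
  push_cast
  ring

theorem sum_one : ∑ x ∈ X.PT, ∑ y ∈ X.PT, X.ev 1 x y = 9720970056 := by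
  have e : ∀ x y, X.ev 1 x y = fn X X.cl (fun _ => 1) x y := fun x y => by
    by_cases h : X.com x y
    · rw [Ctx.ev_of h]; exact (if_pos h).symm
    · rw [Ctx.ev_not h]; exact (if_neg h).symm
  simp only [e]
  rw [sum_fn]
  norm_num

/-! ### The degree 79452373 -/

/-- the eigenfunction -/
def va (k : ℕ) : ℚ :=
  if k = 3510 then 1 else
  if k = 693 then 23/390 else
  if k = 351 then -13/1760 else
  if k = 4180 then 7/2145 else
  if k = 8126 then 5/13728 else
  if k = 12063 then -1/5720 else
  if k = 16063 then -1/5720 else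
  if k = 16108 then -23/45760 else
  if k = 16000 then 1/3520 else
  if k = 24036 then 1/137280 else
  if k = 36360 then 1/1716 else
  if k = 36072 then 1/17160 else
  if k = 36036 then -1/137280 else
  0
theorem va_3510 : va 3510 = 1 := by unfold va; norm_num only [if_true, if_false]
theorem va_693 : va 693 = 23/390 := by unfold va; norm_num only [if_true, if_false]
theorem va_351 : va 351 = -13/1760 := by unfold va; norm_num only [if_true, if_false]
theorem va_4180 : va 4180 = 7/2145 := by unfold va; norm_num only [if_true, if_false]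
theorem va_8126 : va 8126 = 5/13728 := by unfold va; norm_num only [if_true, if_false]
theorem va_12063 : va 12063 = -1/5720 := by unfold va; norm_num only [if_true, if_false]
theorem va_16063 : va 16063 = -1/5720 := by unfold va; norm_num only [if_true, if_false]
theorem va_16108 : va 16108 = -23/45760 := by unfold va; norm_num only [if_true, if_false]
theorem va_16000 : va 16000 = 1/3520 := by unfold va; norm_num only [if_true, if_false]
theorem va_24036 : va 24036 = 1/137280 := by unfold va; norm_num only [if_true, if_false]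
theorem va_36360 : va 36360 = 1/1716 := by unfold va; norm_num only [if_true, if_false]
theorem va_36072 : va 36072 = 1/17160 := by unfold va; norm_num only [if_true, if_false]
theorem va_36036 : va 36036 = -1/137280 := by unfold va; norm_num only [if_true, if_false]

theorem va_A {k : ℕ} (hk : k ∈ [3510, 693, 351, 4180, 8126, 12063, 16063, 16108, 16000, 24036, 36360, 36072, 36036]) : rowA (fun k => ((va k : ℚ) : ℂ)) k = (414) * ((va k : ℚ) : ℂ) := by
  simp only [List.mem_cons, List.not_mem_nil, or_false] at hk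
  rcases hk with rfl | rfl | rfl | rfl | rfl | rfl | rfl | rfl | rfl | rfl | rfl | rfl | rfl
  · rw [rowA_3510]; simp only [va_3510, va_693]; norm_num
  · rw [rowA_693]; simp only [va_3510, va_693, va_351, va_4180, va_8126]; norm_num
  · rw [rowA_351]; simp only [va_693, va_351, va_8126, va_16063]; norm_num
  · rw [rowA_4180]; simp only [va_693, va_4180, va_8126, va_12063]; norm_num
  · rw [rowA_8126]; simp only [va_693, va_351, va_4180, va_8126, va_12063, va_16063, va_16108, va_24036]; norm_num
  · rw [rowA_12063]; simp only [va_4180, va_8126, va_12063, va_24036, va_36360, va_36072, va_36036]; norm_num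
  · rw [rowA_16063]; simp only [va_351, va_8126, va_16063, va_16108, va_16000, va_24036]; norm_num
  · rw [rowA_16108]; simp only [va_8126, va_16063, va_16108, va_24036]; norm_num
  · rw [rowA_16000]; simp only [va_16063, va_16000, va_24036]; norm_num
  · rw [rowA_24036]; simp only [va_8126, va_12063, va_16063, va_16108, va_16000, va_24036, va_36072, va_36036]; norm_num
  · rw [rowA_36360]; simp only [va_12063, va_36360, va_36072]; norm_num
  · rw [rowA_36072]; simp only [va_12063, va_24036, va_36360, va_36072, va_36036]; norm_num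
  · rw [rowA_36036]; simp only [va_12063, va_24036, va_36072, va_36036]; norm_num

theorem va_lin {β : ℕ → ℂ} (hA : ∀ k ∈ [3510, 693, 351, 4180, 8126, 12063, 16063, 16108, 16000, 24036, 36360, 36072, 36036], rowA β k = (414) * β k)
    {k : ℕ} (hk : k ∈ [3510, 693, 351, 4180, 8126, 12063, 16063, 16108, 16000, 24036, 36360, 36072, 36036]) : β k = β 3510 * ((va k : ℚ) : ℂ) := by
  have hA3510 := hA 3510 (by simp)
  rw [rowA_3510] at hA3510
  have hA693 := hA 693 (by simp)
  rw [rowA_693] at hA693
  have hA351 := hA 351 (by simp)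
  rw [rowA_351] at hA351
  have hA4180 := hA 4180 (by simp)
  rw [rowA_4180] at hA4180
  have hA8126 := hA 8126 (by simp)
  rw [rowA_8126] at hA8126
  have hA12063 := hA 12063 (by simp)
  rw [rowA_12063] at hA12063
  have hA16063 := hA 16063 (by simp)
  rw [rowA_16063] at hA16063
  have hA16108 := hA 16108 (by simp)
  rw [rowA_16108] at hA16108
  have hA16000 := hA 16000 (by simp)
  rw [rowA_16000] at hA16000
  have hA24036 := hA 24036 (by simp)
  rw [rowA_24036] at hA24036
  have hA36360 := hA 36360 (by simp)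
  rw [rowA_36360] at hA36360
  have hA36072 := hA 36072 (by simp)
  rw [rowA_36072] at hA36072
  have hA36036 := hA 36036 (by simp)
  rw [rowA_36036] at hA36036
  simp only [List.mem_cons, List.not_mem_nil, or_false] at hk
  rcases hk with rfl | rfl | rfl | rfl | rfl | rfl | rfl | rfl | rfl | rfl | rfl | rfl | rfl
  · rw [va_3510]; norm_num
  · rw [va_693]; push_cast; linear_combination (1/7020) * hA3510
  · rw [va_351]; push_cast; linear_combination (-8565817/477154022400) * hA3510 + (-1211951/26508556800) * hA693 + (559619/1355551200) * hA351 + (-503867/535526400) * hA4180 + (-69823/30123360) * hA8126 + (24167/5578400) * hA12063 + (-4537/4183800) * hA16063 + (405769/169443900) * hA16108 + (-1781/627570) * hA16000 + (3887/697300) * hA24036 + (-169/11156800) * hA36360 + (-1183/223136) * hA36072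
  · rw [va_4180]; push_cast; linear_combination (10123891/981334346850) * hA3510 + (4225646/4193736525) * hA693 + (-3553904/3431238975) * hA351 + (15059/28240650) * hA4180 + (523312/76249755) * hA8126 + (-359216/42360975) * hA12063 + (-24512/42360975) * hA16063 + (-26496512/3431238975) * hA16108 + (255616/25416585) * hA16000 + (-462208/42360975) * hA24036 + (1256/42360975) * hA36360 + (17584/1694439) * hA36072
  · rw [va_8126]; push_cast; linear_combination (13945583/11165404124160) * hA3510 + (7294093/47715402240) * hA693 + (-385381/2439992160) * hA351 + (52031/64263168) * hA4180 + (170509/271110240) * hA8126 + (-67639/30123360) * hA12063 + (9239/7530840) * hA16063 + (-150773/304999020) * hA16108 + (205/564813) * hA16000 + (-10879/3765420) * hA24036 + (473/60246720) * hA36360 + (16555/6024672) * hA36072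
  · rw [va_12063]; push_cast; linear_combination (-17518609/31402699099200) * hA3510 + (-7532999/134199568800) * hA693 + (3187453/54899823600) * hA351 + (-123431/903700800) * hA4180 + (-242897/1219996080) * hA8126 + (609037/677775600) * hA12063 + (-93539/169443900) * hA16063 + (443359/3431238975) * hA16108 + (-2209/50833170) * hA16000 + (97957/84721950) * hA24036 + (-4259/1355551200) * hA36360 + (-29813/27111024) * hA36072
  · rw [va_16063]; push_cast; linear_combination (-461431/1256107963968) * hA3510 + (610403/26839913760) * hA693 + (-135197/5489982360) * hA351 + (131509/180740160) * hA4180 + (1185989/609998040) * hA8126 + (-119119/33888780) * hA12063 + (13657/16944390) * hA16063 + (-2780603/1372495590) * hA16108 + (24661/10166634) * hA16000 + (-38318/8472195) * hA24036 + (833/67777560) * hA36360 + (29155/6777756) * hA36072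
  · rw [va_16108]; push_cast; linear_combination (-1284311/689222476800) * hA3510 + (-791821/2945395200) * hA693 + (9157/33470400) * hA351 + (-828793/535526400) * hA4180 + (-9929/6694080) * hA8126 + (38467/8367600) * hA12063 + (5249/1394600) * hA16063 + (432841/75308400) * hA16108 + (-28121/2510280) * hA16000 + (6187/1045950) * hA24036 + (-269/16735200) * hA36360 + (-1883/334704) * hA36072
  · rw [va_16000]; push_cast; linear_combination (4843589/6441579302400) * hA3510 + (9736207/357865516800) * hA693 + (-2064127/73199764800) * hA351 + (-913367/2409868800) * hA4180 + (-2411617/1626661440) * hA8126 + (1057771/451850400) * hA12063 + (513877/451850400) * hA16063 + (-6138587/9149970600) * hA16108 + (-126523/135555120) * hA16000 + (170131/56481300) * hA24036 + (-7397/903700800) * hA36360 + (-51779/18074016) * hA36072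
  · rw [va_24036]; push_cast; linear_combination (616199/83740530931200) * hA3510 + (-1516631/357865516800) * hA693 + (331181/73199764800) * hA351 + (-517027/7229606400) * hA4180 + (-271657/1626661440) * hA8126 + (144287/451850400) * hA12063 + (-17969/112962600) * hA16063 + (5263937/18299941200) * hA16108 + (-97/1255140) * hA16000 + (23207/56481300) * hA24036 + (-1009/903700800) * hA36360 + (-7063/18074016) * hA36072
  · rw [va_36360]; push_cast; linear_combination (-406771/330554727360) * hA3510 + (-1542881/1412627040) * hA693 + (158083/144473220) * hA351 + (-113239/9512640) * hA4180 + (-70607/3210516) * hA8126 + (40841/891810) * hA12063 + (20971/445905) * hA16063 + (1165696/36118305) * hA16108 + (-13898/267543) * hA16000 + (-14146/445905) * hA24036 + (-8309/3567240) * hA36360 + (-3605/713448) * hA36072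
  · rw [va_36072]; push_cast; linear_combination (-39799/2326125859200) * hA3510 + (-649709/9940708800) * hA693 + (7373/112962600) * hA351 + (-1385657/1807401600) * hA4180 + (-32137/22592520) * hA8126 + (41044/14120325) * hA12063 + (29687/9413550) * hA16063 + (267652/127082925) * hA16108 + (-28879/8472195) * hA16000 + (-31303/14120325) * hA24036 + (1361/225925200) * hA36360 + (-1865/9037008) * hA36072
  · rw [va_36036]; push_cast; linear_combination (17366509/879275574777600) * hA3510 + (58097069/3757587926400) * hA693 + (-23951443/1537195060800) * hA351 + (613753/3614803200) * hA4180 + (11001623/34159890240) * hA8126 + (-1586219/2372214600) * hA12063 + (-1293353/2372214600) * hA16063 + (-26449873/54899823600) * hA16108 + (479987/711664380) * hA16000 + (333379/1186107300) * hA24036 + (11939/37955433600) * hA36360 + (86635/216888192) * hA36072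

/-- the degree 79452373 -/
theorem exists_a : ∃ χ : IrrCharacter Fi24, charDegree (χ : Fi24 → ℂ) = 79452373 := by
  have : Finite Fi24 := Cfsg.Agent.R08.FiTwentyFour.finite_Fi24
  set w : ℕ → ℂ := fun k => ((va k : ℚ) : ℂ) with hw
  have hv := orbs.isFn w
  have hab := (chkCl_spec cl_02)
  refine Ctx.exists_deg (X := X) (P := False) (τ := (414)) (ω := 0) (v := fn X X.cl w) hv ?_ ?_ (fun h => h.elim) ?_
    (n2 := 9720970056) (s2 := 17496/143) ?_ sum_one ?_
  · show fn X X.cl w 0 136 = 1
    rw [Ctx.fn_of hab.1, hab.2, hw]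
    simp only [va_3510]
    norm_num
  · intro c d h
    rw [A1_val (orbs.kInv w) (fun x y h => if_pos h) h, va_A (cl_mem h), Ctx.fn_of h]
  · intro ψ hψ hK h1 _ c d h
    obtain ⟨β, hβ⟩ := orbs.exists_beta hψ hK
    rw [hβ c d h, va_lin (fun k hk => eqA hK hβ h1 hk) (cl_mem h), Ctx.fn_of h]
    show _ = ψ 0 136 * _
    rw [hβ _ _ hab.1, hab.2]
  · have e : ∀ x y, fn X X.cl w x y * conj (fn X X.cl w x y) = fn X X.cl (fun k => ((va k ^ 2 : ℚ) : ℂ)) x y := by
      intro x y
      by_cases h : X.com x y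
      · rw [Ctx.fn_of h, Ctx.fn_of h, hw]
        simp only [map_ratCast]
        push_cast
        ring
      · have e1 : fn X X.cl w x y = 0 := if_neg h
        have e2 : fn X X.cl (fun k => ((va k ^ 2 : ℚ) : ℂ)) x y = 0 := if_neg h
        rw [e1, e2, zero_mul]
    simp only [e]
    rw [sum_fn]
    simp only [va_3510, va_693, va_351, va_4180, va_8126, va_12063, va_16063, va_16108, va_16000, va_24036, va_36360, va_36072, va_36036]
    norm_num
  · norm_num

/-! ### The degree 159402880 -/

/-- the eigenfunction -/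
def vb (k : ℕ) : ℚ :=
  if k = 3510 then 1 else
  if k = 693 then 17/390 else
  if k = 351 then -7/1280 else
  if k = 4180 then -1/429 else
  if k = 8126 then -35/109824 else
  if k = 12063 then 3/22880 else
  if k = 16063 then 3/22880 else
  if k = 16108 then 43/183040 else
  if k = 16000 then -1/7040 else
  if k = 24036 then -7/1098240 else
  if k = 36360 then -1/3432 else
  if k = 36072 then -1/34320 else
  if k = 36036 then 1/274560 else
  0
theorem vb_3510 : vb 3510 = 1 := by unfold vb; norm_num only [if_true, if_false]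
theorem vb_693 : vb 693 = 17/390 := by unfold vb; norm_num only [if_true, if_false]
theorem vb_351 : vb 351 = -7/1280 := by unfold vb; norm_num only [if_true, if_false]
theorem vb_4180 : vb 4180 = -1/429 := by unfold vb; norm_num only [if_true, if_false]
theorem vb_8126 : vb 8126 = -35/109824 := by unfold vb; norm_num only [if_true, if_false]
theorem vb_12063 : vb 12063 = 3/22880 := by unfold vb; norm_num only [if_true, if_false]
theorem vb_16063 : vb 16063 = 3/22880 := by unfold vb; norm_num only [if_true, if_false]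
theorem vb_16108 : vb 16108 = 43/183040 := by unfold vb; norm_num only [if_true, if_false]
theorem vb_16000 : vb 16000 = -1/7040 := by unfold vb; norm_num only [if_true, if_false]
theorem vb_24036 : vb 24036 = -7/1098240 := by unfold vb; norm_num only [if_true, if_false]
theorem vb_36360 : vb 36360 = -1/3432 := by unfold vb; norm_num only [if_true, if_false]
theorem vb_36072 : vb 36072 = -1/34320 := by unfold vb; norm_num only [if_true, if_false]
theorem vb_36036 : vb 36036 = 1/274560 := by unfold vb; norm_num only [if_true, if_false]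

theorem vb_A {k : ℕ} (hk : k ∈ [3510, 693, 351, 4180, 8126, 12063, 16063, 16108, 16000, 24036, 36360, 36072, 36036]) : rowA (fun k => ((vb k : ℚ) : ℂ)) k = (306) * ((vb k : ℚ) : ℂ) := by
  simp only [List.mem_cons, List.not_mem_nil, or_false] at hk
  rcases hk with rfl | rfl | rfl | rfl | rfl | rfl | rfl | rfl | rfl | rfl | rfl | rfl | rfl
  · rw [rowA_3510]; simp only [vb_3510, vb_693]; norm_num
  · rw [rowA_693]; simp only [vb_3510, vb_693, vb_351, vb_4180, vb_8126]; norm_num
  · rw [rowA_351]; simp only [vb_693, vb_351, vb_8126, vb_16063]; norm_num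
  · rw [rowA_4180]; simp only [vb_693, vb_4180, vb_8126, vb_12063]; norm_num
  · rw [rowA_8126]; simp only [vb_693, vb_351, vb_4180, vb_8126, vb_12063, vb_16063, vb_16108, vb_24036]; norm_num
  · rw [rowA_12063]; simp only [vb_4180, vb_8126, vb_12063, vb_24036, vb_36360, vb_36072, vb_36036]; norm_num
  · rw [rowA_16063]; simp only [vb_351, vb_8126, vb_16063, vb_16108, vb_16000, vb_24036]; norm_num
  · rw [rowA_16108]; simp only [vb_8126, vb_16063, vb_16108, vb_24036]; norm_num
  · rw [rowA_16000]; simp only [vb_16063, vb_16000, vb_24036]; norm_num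
  · rw [rowA_24036]; simp only [vb_8126, vb_12063, vb_16063, vb_16108, vb_16000, vb_24036, vb_36072, vb_36036]; norm_num
  · rw [rowA_36360]; simp only [vb_12063, vb_36360, vb_36072]; norm_num
  · rw [rowA_36072]; simp only [vb_12063, vb_24036, vb_36360, vb_36072, vb_36036]; norm_num
  · rw [rowA_36036]; simp only [vb_12063, vb_24036, vb_36072, vb_36036]; norm_num

theorem vb_lin {β : ℕ → ℂ} (hA : ∀ k ∈ [3510, 693, 351, 4180, 8126, 12063, 16063, 16108, 16000, 24036, 36360, 36072, 36036], rowA β k = (306) * β k)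
    {k : ℕ} (hk : k ∈ [3510, 693, 351, 4180, 8126, 12063, 16063, 16108, 16000, 24036, 36360, 36072, 36036]) : β k = β 3510 * ((vb k : ℚ) : ℂ) := by
  have hA3510 := hA 3510 (by simp)
  rw [rowA_3510] at hA3510
  have hA693 := hA 693 (by simp)
  rw [rowA_693] at hA693
  have hA351 := hA 351 (by simp)
  rw [rowA_351] at hA351
  have hA4180 := hA 4180 (by simp)
  rw [rowA_4180] at hA4180
  have hA8126 := hA 8126 (by simp)
  rw [rowA_8126] at hA8126
  have hA12063 := hA 12063 (by simp)
  rw [rowA_12063] at hA12063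
  have hA16063 := hA 16063 (by simp)
  rw [rowA_16063] at hA16063
  have hA16108 := hA 16108 (by simp)
  rw [rowA_16108] at hA16108
  have hA16000 := hA 16000 (by simp)
  rw [rowA_16000] at hA16000
  have hA24036 := hA 24036 (by simp)
  rw [rowA_24036] at hA24036
  have hA36360 := hA 36360 (by simp)
  rw [rowA_36360] at hA36360
  have hA36072 := hA 36072 (by simp)
  rw [rowA_36072] at hA36072
  have hA36036 := hA 36036 (by simp)
  rw [rowA_36036] at hA36036
  simp only [List.mem_cons, List.not_mem_nil, or_false] at hk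
  rcases hk with rfl | rfl | rfl | rfl | rfl | rfl | rfl | rfl | rfl | rfl | rfl | rfl | rfl
  · rw [vb_3510]; norm_num
  · rw [vb_693]; push_cast; linear_combination (1/7020) * hA3510
  · rw [vb_351]; push_cast; linear_combination (-78759653/4499484318720) * hA3510 + (330785/2940839424) * hA693 + (1687915/7030444248) * hA351 + (-8363719/11109837824) * hA4180 + (-1579591/781160472) * hA8126 + (299637/86795608) * hA12063 + (6773/43397804) * hA16063 + (1148693/878805531) * hA16108 + (-53170/32548353) * hA16000 + (1521/638203) * hA24036 + (-1521/173591216) * hA36360 + (-266175/86795608) * hA36072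
  · rw [vb_4180]; push_cast; linear_combination (-322619941/61075226793438) * hA3510 + (10971542/15353249571) * hA693 + (-150740992/213549744033) * hA351 + (-77171/585870354) * hA4180 + (192337408/23727749337) * hA8126 + (-21320128/2636416593) * hA12063 + (-8644096/2636416593) * hA16063 + (-1162158592/213549744033) * hA16108 + (58193920/7909249779) * hA16000 + (-865792/155083329) * hA24036 + (54112/2636416593) * hA36360 + (18939200/2636416593) * hA36072
  · rw [vb_8126]; push_cast; linear_combination (-2860425985/3474501790915584) * hA3510 + (58321925/873429308928) * hA693 + (-12599113/189821994696) * hA351 + (1539503/1960559616) * hA4180 + (575149/21091332744) * hA8126 + (-3426421/2343481416) * hA12063 + (762577/1171740708) * hA16063 + (763063/23727749337) * hA16108 + (-155650/878805531) * hA16000 + (-17393/17231481) * hA24036 + (17393/4686962832) * hA36360 + (3043775/2343481416) * hA36072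
  · rw [vb_12063]; push_cast; linear_combination (5944174531/19544072573900160) * hA3510 + (-37389619/982607972544) * hA693 + (16132105/427099488066) * hA351 + (-4890809/37495702656) * hA4180 + (-5083057/47455498674) * hA8126 + (7852223/10545666372) * hA12063 + (-661279/2636416593) * hA16063 + (10566794/213549744033) * hA16108 + (-59360/7909249779) * hA16000 + (79718/155083329) * hA24036 + (-39859/21091332744) * hA36360 + (-6975325/10545666372) * hA36072
  · rw [vb_16063]; push_cast; linear_combination (1412493091/19544072573900160) * hA3510 + (-107107795/982607972544) * hA693 + (91485047/854198976132) * hA351 + (22221815/37495702656) * hA4180 + (173042161/94910997348) * hA8126 + (-7791547/2636416593) * hA12063 + (-1124495/5272833186) * hA16063 + (-252856996/213549744033) * hA16108 + (11824420/7909249779) * hA16000 + (-316408/155083329) * hA24036 + (39551/5272833186) * hA36360 + (6921425/2636416593) * hA36072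
  · rw [vb_16108]; push_cast; linear_combination (2022835091/1930278772730880) * hA3510 + (8321965/97047700992) * hA693 + (-1847267/21091332744) * hA351 + (-19826107/11109837824) * hA4180 + (-6439519/2343481416) * hA8126 + (1583683/260386824) * hA12063 + (1451641/260386824) * hA16063 + (37403543/10545666372) * hA16108 + (-908315/97645059) * hA16000 + (8039/1914609) * hA24036 + (-8039/520773648) * hA36360 + (-1406825/260386824) * hA36072
  · rw [vb_16000]; push_cast; linear_combination (-32930899/2004520263989760) * hA3510 + (179513815/1310143963392) * hA693 + (-77724049/569465984088) * hA351 + (-107818529/149982810624) * hA4180 + (-143365235/63273998232) * hA8126 + (12797317/3515222124) * hA12063 + (5111249/1757611062) * hA16063 + (-11580023/71183248011) * hA16108 + (-26605333/10545666372) * hA16000 + (129922/51694443) * hA24036 + (-64961/7030444248) * hA36360 + (-11368175/3515222124) * hA36072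
  · rw [vb_24036]; push_cast; linear_combination (-16096381/2043824582891520) * hA3510 + (6924365/1746858617856) * hA693 + (-178601/47455498674) * hA351 + (-42099827/1799793727488) * hA4180 + (-1437031/21091332744) * hA8126 + (1584865/14060888496) * hA12063 + (-2508437/14060888496) * hA16063 + (15136331/94910997348) * hA16108 + (891535/5272833186) * hA16000 + (8045/103388886) * hA24036 + (-8045/28121776992) * hA36360 + (-1407875/14060888496) * hA36072
  · rw [vb_36360]; push_cast; linear_combination (4375255741/977203628695008) * hA3510 + (408135055/245651993136) * hA693 + (-20981350/12561749649) * hA351 + (-134638595/9373925664) * hA4180 + (-45160010/1395749961) * hA8126 + (154879390/2636416593) * hA12063 + (9227060/155083329) * hA16063 + (317324840/12561749649) * hA16108 + (-20249600/465249987) * hA16000 + (-7316840/155083329) * hA24036 + (-8158438/2636416593) * hA36360 + (-14944825/5272833186) * hA36072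
  · rw [vb_36072]; push_cast; linear_combination (595152367/3257345428983360) * hA3510 + (13927985/163767995424) * hA693 + (-6082145/71183248011) * hA351 + (-12799703/18747851328) * hA4180 + (-12332935/7909249779) * hA8126 + (2432788/878805531) * hA12063 + (2564830/878805531) * hA16063 + (86937340/71183248011) * hA16108 + (-5571200/2636416593) * hA16000 + (-1500/638203) * hA24036 + (375/43397804) * hA36360 + (-218201/3515222124) * hA36072
  · rw [vb_36036]; push_cast; linear_combination (-1542657839/32190237180541440) * hA3510 + (-2518360237/137565116156160) * hA693 + (627013753/34167959045280) * hA351 + (23886451/149982810624) * hA4180 + (274247815/759287978784) * hA8126 + (-485377397/738196646040) * hA12063 + (-429919757/738196646040) * hA16063 + (-2639857889/8541989761320) * hA16108 + (46251223/110729496906) * hA16000 + (2950219/6203333160) * hA24036 + (-855013/2952786584160) * hA36360 + (23998223/84365330976) * hA36072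

/-- the degree 159402880 -/
theorem exists_b : ∃ χ : IrrCharacter Fi24, charDegree (χ : Fi24 → ℂ) = 159402880 := by
  have : Finite Fi24 := Cfsg.Agent.R08.FiTwentyFour.finite_Fi24
  set w : ℕ → ℂ := fun k => ((vb k : ℚ) : ℂ) with hw
  have hv := orbs.isFn w
  have hab := (chkCl_spec cl_02)
  refine Ctx.exists_deg (X := X) (P := False) (τ := (306)) (ω := 0) (v := fn X X.cl w) hv ?_ ?_ (fun h => h.elim) ?_
    (n2 := 9720970056) (s2 := 63423/1040) ?_ sum_one ?_
  · show fn X X.cl w 0 136 = 1
    rw [Ctx.fn_of hab.1, hab.2, hw]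
    simp only [vb_3510]
    norm_num
  · intro c d h
    rw [A1_val (orbs.kInv w) (fun x y h => if_pos h) h, vb_A (cl_mem h), Ctx.fn_of h]
  · intro ψ hψ hK h1 _ c d h
    obtain ⟨β, hβ⟩ := orbs.exists_beta hψ hK
    rw [hβ c d h, vb_lin (fun k hk => eqA hK hβ h1 hk) (cl_mem h), Ctx.fn_of h]
    show _ = ψ 0 136 * _
    rw [hβ _ _ hab.1, hab.2]
  · have e : ∀ x y, fn X X.cl w x y * conj (fn X X.cl w x y) = fn X X.cl (fun k => ((vb k ^ 2 : ℚ) : ℂ)) x y := by
      intro x y
      by_cases h : X.com x y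
      · rw [Ctx.fn_of h, Ctx.fn_of h, hw]
        simp only [map_ratCast]
        push_cast
        ring
      · have e1 : fn X X.cl w x y = 0 := if_neg h
        have e2 : fn X X.cl (fun k => ((vb k ^ 2 : ℚ) : ℂ)) x y = 0 := if_neg h
        rw [e1, e2, zero_mul]
    simp only [e]
    rw [sum_fn]
    simp only [vb_3510, vb_693, vb_351, vb_4180, vb_8126, vb_12063, vb_16063, vb_16108, vb_16000, vb_24036, vb_36360, vb_36072, vb_36036]
    norm_num
  · norm_num

/-! ### The degree 112168056 -/

/-- the eigenfunction -/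
def vc (k : ℕ) : ℚ :=
  if k = 3510 then 1 else
  if k = 693 then -1/390 else
  if k = 351 then 1/3520 else
  if k = 4180 then -47/15015 else
  if k = 8126 then 107/137280 else
  if k = 12063 then -1/11440 else
  if k = 16063 then -1/11440 else
  if k = 16108 then 29/640640 else
  if k = 16000 then 1/3520 else
  if k = 24036 then -7/274560 else
  if k = 36360 then 4/429 else
  if k = 36072 then -1/60060 else
  if k = 36036 then 19/1921920 else
  0
theorem vc_3510 : vc 3510 = 1 := by unfold vc; norm_num only [if_true, if_false]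
theorem vc_693 : vc 693 = -1/390 := by unfold vc; norm_num only [if_true, if_false]
theorem vc_351 : vc 351 = 1/3520 := by unfold vc; norm_num only [if_true, if_false]
theorem vc_4180 : vc 4180 = -47/15015 := by unfold vc; norm_num only [if_true, if_false]
theorem vc_8126 : vc 8126 = 107/137280 := by unfold vc; norm_num only [if_true, if_false]
theorem vc_12063 : vc 12063 = -1/11440 := by unfold vc; norm_num only [if_true, if_false]
theorem vc_16063 : vc 16063 = -1/11440 := by unfold vc; norm_num only [if_true, if_false]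
theorem vc_16108 : vc 16108 = 29/640640 := by unfold vc; norm_num only [if_true, if_false]
theorem vc_16000 : vc 16000 = 1/3520 := by unfold vc; norm_num only [if_true, if_false]
theorem vc_24036 : vc 24036 = -7/274560 := by unfold vc; norm_num only [if_true, if_false]
theorem vc_36360 : vc 36360 = 4/429 := by unfold vc; norm_num only [if_true, if_false]
theorem vc_36072 : vc 36072 = -1/60060 := by unfold vc; norm_num only [if_true, if_false]
theorem vc_36036 : vc 36036 = 19/1921920 := by unfold vc; norm_num only [if_true, if_false]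

theorem vc_A {k : ℕ} (hk : k ∈ [3510, 693, 351, 4180, 8126, 12063, 16063, 16108, 16000, 24036, 36360, 36072, 36036]) : rowA (fun k => ((vc k : ℚ) : ℂ)) k = (-18) * ((vc k : ℚ) : ℂ) := by
  simp only [List.mem_cons, List.not_mem_nil, or_false] at hk
  rcases hk with rfl | rfl | rfl | rfl | rfl | rfl | rfl | rfl | rfl | rfl | rfl | rfl | rfl
  · rw [rowA_3510]; simp only [vc_3510, vc_693]; norm_num
  · rw [rowA_693]; simp only [vc_3510, vc_693, vc_351, vc_4180, vc_8126]; norm_num
  · rw [rowA_351]; simp only [vc_693, vc_351, vc_8126, vc_16063]; norm_num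
  · rw [rowA_4180]; simp only [vc_693, vc_4180, vc_8126, vc_12063]; norm_num
  · rw [rowA_8126]; simp only [vc_693, vc_351, vc_4180, vc_8126, vc_12063, vc_16063, vc_16108, vc_24036]; norm_num
  · rw [rowA_12063]; simp only [vc_4180, vc_8126, vc_12063, vc_24036, vc_36360, vc_36072, vc_36036]; norm_num
  · rw [rowA_16063]; simp only [vc_351, vc_8126, vc_16063, vc_16108, vc_16000, vc_24036]; norm_num
  · rw [rowA_16108]; simp only [vc_8126, vc_16063, vc_16108, vc_24036]; norm_num
  · rw [rowA_16000]; simp only [vc_16063, vc_16000, vc_24036]; norm_num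
  · rw [rowA_24036]; simp only [vc_8126, vc_12063, vc_16063, vc_16108, vc_16000, vc_24036, vc_36072, vc_36036]; norm_num
  · rw [rowA_36360]; simp only [vc_12063, vc_36360, vc_36072]; norm_num
  · rw [rowA_36072]; simp only [vc_12063, vc_24036, vc_36360, vc_36072, vc_36036]; norm_num
  · rw [rowA_36036]; simp only [vc_12063, vc_24036, vc_36072, vc_36036]; norm_num

theorem vc_lin {β : ℕ → ℂ} (hA : ∀ k ∈ [3510, 693, 351, 4180, 8126, 12063, 16063, 16108, 16000, 24036, 36360, 36072, 36036], rowA β k = (-18) * β k)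
    (hC3510 : 3512 * β 3510 + 56320 * β 351 + 247104 * β 36360 = 5832 * β 3510)
    (hC4180 : 6840 * β 4180 + 9216 * β 8126 + 46080 * β 12063 + 46080 * β 16063 + 163840 * β 36036 + 34560 * β 36072 + 320 * β 36360 = 5832 * β 4180)
    (hC16108 : 10312 * β 16108 + 2 * β 351 + 486 * β 8126 + 122472 * β 24036 + 5832 * β 16063 + 4320 * β 16000 + 5832 * β 12063 + 91800 * β 36036 + 65610 * β 36072 + 270 * β 36360 = 5832 * β 16108)
    (hC36360 : 6664 * β 36360 + 11520 * β 24036 + 151200 * β 36072 + 89600 * β 36036 + 2 * β 3510 + 3150 * β 4180 + 44800 * β 16108 = 5832 * β 36360)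
    {k : ℕ} (hk : k ∈ [3510, 693, 351, 4180, 8126, 12063, 16063, 16108, 16000, 24036, 36360, 36072, 36036]) : β k = β 3510 * ((vc k : ℚ) : ℂ) := by
  have hA3510 := hA 3510 (by simp)
  rw [rowA_3510] at hA3510
  have hA693 := hA 693 (by simp)
  rw [rowA_693] at hA693
  have hA351 := hA 351 (by simp)
  rw [rowA_351] at hA351
  have hA4180 := hA 4180 (by simp)
  rw [rowA_4180] at hA4180
  have hA8126 := hA 8126 (by simp)
  rw [rowA_8126] at hA8126
  have hA12063 := hA 12063 (by simp)
  rw [rowA_12063] at hA12063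
  have hA16063 := hA 16063 (by simp)
  rw [rowA_16063] at hA16063
  have hA16108 := hA 16108 (by simp)
  rw [rowA_16108] at hA16108
  have hA16000 := hA 16000 (by simp)
  rw [rowA_16000] at hA16000
  have hA24036 := hA 24036 (by simp)
  rw [rowA_24036] at hA24036
  have hA36360 := hA 36360 (by simp)
  rw [rowA_36360] at hA36360
  have hA36072 := hA 36072 (by simp)
  rw [rowA_36072] at hA36072
  have hA36036 := hA 36036 (by simp)
  rw [rowA_36036] at hA36036
  simp only [List.mem_cons, List.not_mem_nil, or_false] at hk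
  rcases hk with rfl | rfl | rfl | rfl | rfl | rfl | rfl | rfl | rfl | rfl | rfl | rfl | rfl
  · rw [vc_3510]; norm_num
  · rw [vc_693]; push_cast; linear_combination (1/7020) * hA3510
  · rw [vc_351]; push_cast; linear_combination (-7/337920) * hA3510 + (1/11264) * hA693 + (1/4224) * hA351 + (-9/22528) * hA4180 + (1/1408) * hA8126 + (-1/704) * hA16063 + (1/1056) * hA16000
  · rw [vc_4180]; push_cast; linear_combination (727003/218918700) * hA3510 + (-6550717/109459350) * hA693 + (2913692/54729675) * hA351 + (3369643/24324300) * hA4180 + (3132308/54729675) * hA8126 + (-3968/14175) * hA12063 + (-66776/225225) * hA16063 + (497872/3648645) * hA16000 + (2176/14175) * hA24036 + (-151/109459350) * hC3510 + (1/1890) * hC4180 + (128/76545) * hC16108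
  · rw [vc_8126]; push_cast; linear_combination (-1481231/1779148800) * hA3510 + (13338359/889574400) * hA693 + (-1483171/111196800) * hA351 + (-6660311/197683200) * hA4180 + (-1645129/111196800) * hA8126 + (31/450) * hA12063 + (17019/228800) * hA16063 + (-63989/1853280) * hA16000 + (-17/450) * hA24036 + (151/444787200) * hC3510 + (-1/7680) * hC4180 + (-1/2430) * hC16108
  · rw [vc_12063]; push_cast; linear_combination (780463/8006169600) * hA3510 + (-638597/363916800) * hA693 + (781073/500385600) * hA351 + (3404743/889574400) * hA4180 + (941027/500385600) * hA8126 + (-31/4050) * hA12063 + (-2999/343200) * hA16063 + (34627/8339760) * hA16000 + (17/4050) * hA24036 + (-151/4003084800) * hC3510 + (1/69120) * hC4180 + (1/21870) * hC16108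
  · rw [vc_16063]; push_cast; linear_combination (48793/500385600) * hA3510 + (-219581/125096400) * hA693 + (48803/31274100) * hA351 + (230473/55598400) * hA4180 + (7268/7818525) * hA8126 + (-31/4050) * hA12063 + (-5279/772200) * hA16063 + (6013/2084940) * hA16000 + (17/4050) * hA24036 + (-151/4003084800) * hC3510 + (1/69120) * hC4180 + (1/21870) * hC16108
  · rw [vc_16108]; push_cast; linear_combination (-391409/461260800) * hA3510 + (7042027/461260800) * hA693 + (-195497/14414400) * hA351 + (-2039579/51251200) * hA4180 + (47111/7207200) * hA8126 + (2481/44800) * hA12063 + (20627/457600) * hA16063 + (-12347/960960) * hA16000 + (-249/5600) * hA24036 + (11/670924800) * hC3510 + (171/1146880) * hC4180 + (-1/2520) * hC16108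
  · rw [vc_16000]; push_cast; linear_combination (-1067/1296000) * hA3510 + (3379691/228096000) * hA693 + (-187727/14256000) * hA351 + (-458891/12672000) * hA4180 + (-45323/14256000) * hA8126 + (1911/32000) * hA12063 + (85687/1584000) * hA16063 + (-8641/475200) * hA16000 + (-169/4000) * hA24036 + (443/3649536000) * hC3510 + (143/2457600) * hC4180 + (-13/32400) * hC16108
  · rw [vc_24036]; push_cast; linear_combination (373739/4003084800) * hA3510 + (-26903923/16012339200) * hA693 + (1494331/1000771200) * hA351 + (3669073/889574400) * hA4180 + (291619/1000771200) * hA8126 + (-3473/518400) * hA12063 + (-25043/4118400) * hA16063 + (71683/33359040) * hA16000 + (317/64800) * hA24036 + (-2779/256197427200) * hC3510 + (-41/4423680) * hC4180 + (1/21870) * hC16108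
  · rw [vc_36360]; push_cast; linear_combination (7/1482624) * hA3510 + (-5/247104) * hA693 + (-5/92664) * hA351 + (5/54912) * hA4180 + (-5/30888) * hA8126 + (5/15444) * hA16063 + (-5/23166) * hA16000 + (1/247104) * hC3510
  · rw [vc_36072]; push_cast; linear_combination (-832417/17513496000) * hA3510 + (7490233/8756748000) * hA693 + (-1664329/2189187000) * hA351 + (-3805357/1945944000) * hA4180 + (-1511971/2189187000) * hA8126 + (529/141750) * hA12063 + (52093/13513500) * hA16063 + (-55901/36486450) * hA16000 + (-214/70875) * hA24036 + (-127/17513496000) * hC3510 + (-1/604800) * hC4180 + (-2/382725) * hC16108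
  · rw [vc_36036]; push_cast; linear_combination (-1147361/62270208000) * hA3510 + (20648653/62270208000) * hA693 + (-286729/972972000) * hA351 + (-5446031/6918912000) * hA4180 + (-319667/1945944000) * hA8126 + (2753/2016000) * hA12063 + (521771/432432000) * hA16063 + (-71693/129729600) * hA16000 + (-137/252000) * hA24036 + (4219/996323328000) * hC3510 + (41/17203200) * hC4180 + (-1/85050) * hC16108

theorem zero_lin {β : ℕ → ℂ} (hA : ∀ k ∈ [3510, 693, 351, 4180, 8126, 12063, 16063, 16108, 16000, 24036, 36360, 36072, 36036], rowA β k = (-18) * β k) (h0_3510 : β 3510 = 0) (h0_4180 : β 4180 = 0)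
    (h0_16108 : β 16108 = 0) (h0_36360 : β 36360 = 0) {k : ℕ} (hk : k ∈ [3510, 693, 351, 4180, 8126, 12063, 16063, 16108, 16000, 24036, 36360, 36072, 36036]) : β k = 0 := by
  have hA3510 := hA 3510 (by simp)
  rw [rowA_3510] at hA3510
  have hA693 := hA 693 (by simp)
  rw [rowA_693] at hA693
  have hA351 := hA 351 (by simp)
  rw [rowA_351] at hA351
  have hA4180 := hA 4180 (by simp)
  rw [rowA_4180] at hA4180
  have hA8126 := hA 8126 (by simp)
  rw [rowA_8126] at hA8126
  have hA12063 := hA 12063 (by simp)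
  rw [rowA_12063] at hA12063
  have hA16063 := hA 16063 (by simp)
  rw [rowA_16063] at hA16063
  have hA16108 := hA 16108 (by simp)
  rw [rowA_16108] at hA16108
  have hA16000 := hA 16000 (by simp)
  rw [rowA_16000] at hA16000
  have hA24036 := hA 24036 (by simp)
  rw [rowA_24036] at hA24036
  have hA36360 := hA 36360 (by simp)
  rw [rowA_36360] at hA36360
  have hA36072 := hA 36072 (by simp)
  rw [rowA_36072] at hA36072
  have hA36036 := hA 36036 (by simp)
  rw [rowA_36036] at hA36036
  simp only [List.mem_cons, List.not_mem_nil, or_false] at hk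
  rcases hk with rfl | rfl | rfl | rfl | rfl | rfl | rfl | rfl | rfl | rfl | rfl | rfl | rfl
  · linear_combination (1) * h0_3510
  · linear_combination (1/7020) * hA3510 + (-1/390) * h0_3510
  · linear_combination (-7/337920) * hA3510 + (1/11264) * hA693 + (1/4224) * hA351 + (-9/22528) * hA4180 + (1/1408) * hA8126 + (-1/704) * hA16063 + (1/1056) * hA16000 + (1/3520) * h0_3510
  · linear_combination (1) * h0_4180
  · linear_combination (-11/718848) * hA3510 + (3/11264) * hA693 + (-1/4224) * hA351 + (9/22528) * hA4180 + (-1/1408) * hA8126 + (1/704) * hA16063 + (-1/1056) * hA16000 + (1/109824) * h0_3510 + (-63/256) * h0_4180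
  · linear_combination (1/149760) * hA3510 + (-1/8448) * hA693 + (1/9504) * hA351 + (1/25344) * hA4180 + (1/3168) * hA8126 + (-1/1584) * hA16063 + (1/2376) * hA16000 + (-1/549120) * h0_3510 + (7/256) * h0_4180
  · linear_combination (1193/177914880) * hA3510 + (-235/1976832) * hA693 + (233/2223936) * hA351 + (157/439296) * hA4180 + (-157/247104) * hA8126 + (157/123552) * hA16063 + (-157/185328) * hA16000 + (-1/549120) * h0_3510 + (7/256) * h0_4180
  · linear_combination (1) * h0_16108
  · linear_combination (2609/182476800) * hA3510 + (-317/1216512) * hA693 + (529/2280960) * hA351 + (2287/1351680) * hA4180 + (-2287/760320) * hA8126 + (-1/380160) * hA16063 + (793/570240) * hA16000 + (49/15206400) * h0_3510 + (-819/10240) * h0_4180 + (91/135) * h0_16108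
  · linear_combination (-1901/711659520) * hA3510 + (1145/23721984) * hA693 + (-127/2965248) * hA351 + (-1379/5271552) * hA4180 + (1379/2965248) * hA8126 + (-235/1482624) * hA16063 + (235/2223936) * hA16000 + (-1/5391360) * h0_3510 + (7/1024) * h0_4180 + (-7/81) * h0_16108
  · linear_combination (1) * h0_36360
  · linear_combination (-73/1965600) * hA3510 + (247/369600) * hA693 + (-247/415800) * hA351 + (-211/138600) * hA4180 + (-71/138600) * hA8126 + (1/350) * hA12063 + (29/9900) * hA16063 + (-23/20790) * hA16000 + (-4/1575) * hA24036 + (1/4804800) * h0_3510 + (-1/320) * h0_4180 + (-1/350) * h0_36360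
  · linear_combination (3469/553512960) * hA3510 + (-52057/461260800) * hA693 + (5783/57657600) * hA351 + (4989/14643200) * hA4180 + (-12043/57657600) * hA8126 + (-1/2800) * hA12063 + (-1303/4118400) * hA16063 + (-47/1729728) * hA16000 + (1/1400) * hA24036 + (1/20966400) * h0_3510 + (-9/5120) * h0_4180 + (1/45) * h0_16108 + (1/2800) * h0_36360

theorem vc_C : let w : ℕ → ℂ := fun k => ((vc k : ℚ) : ℂ)
    ∀ c d, X.com c d → X.CC (fn X X.cl w) c d = 5832 * fn X X.cl w c d := by
  intro w
  have hv := orbs.isFn w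
  have hk := orbs.kInv w
  have hw : ∀ x y, X.com x y → fn X X.cl w x y = w (X.cl x y) := fun x y h => if_pos h
  set ψ : ℕ → ℕ → ℂ := fun c d => X.CC (fn X X.cl w) c d - 5832 * fn X X.cl w c d with hψ
  have hF : IsFn X ψ := by
    refine ⟨fun c d => ?_, fun c d h => ?_⟩
    · show _ - _ = _ - _
      rw [hv.CC.symm, hv.symm]
    · show _ - _ = (0 : ℂ)
      rw [hv.CC.zero c d h, hv.zero c d h]; ring
  have hK : X.KInv ψ := by
    intro g hg c d
    show _ - _ = _ - _
    rw [hk.CC g hg, hk g hg]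
  have hA0 : ∀ c d, X.com c d → X.A1 (fn X X.cl w) c d = (-18) * fn X X.cl w c d := by
    intro c d h
    rw [A1_val hk hw h, vc_A (cl_mem h), hw c d h]
  have hA : ∀ c d, X.com c d → X.A1 ψ c d = (-18) * ψ c d := by
    intro c d h
    have e : ψ = fun c d => X.CC (fn X X.cl w) c d + (fun c d => (-5832) * fn X X.cl w c d) c d := by
      funext c d; show _ - _ = _ + _; ring
    rw [e, Ctx.A1_add, Ctx.A1_mul, Ctx.A1_CC, hA0 c d h]
    have e2 : X.CC (X.A1 (fn X X.cl w)) c d = (-18) * X.CC (fn X X.cl w) c d := by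
      show ∑ x ∈ X.PT, X.A1 (fn X X.cl w) (X.ρ (X.t x) c) (X.ρ (X.t x) d) = _ * ∑ x ∈ X.PT, _
      rw [Finset.mul_sum]
      exact Finset.sum_congr rfl fun x _ => hA0 _ _ (X.inv _ h)
    rw [e2]
    ring
  obtain ⟨β, hβ⟩ := orbs.exists_beta hF hK
  have z3510 : β 3510 = 0 := by
    have hcd := chkCl_spec cl_02
    rw [← hcd.2, ← hβ _ _ hcd.1]
    show X.CC (fn X X.cl w) 0 136 - 5832 * fn X X.cl w 0 136 = 0
    rw [CC_0 hv hk hw, hw _ _ hcd.1, hcd.2]
    show 3512 * ((vc 3510 : ℚ) : ℂ) + 56320 * ((vc 351 : ℚ) : ℂ) + 247104 * ((vc 36360 : ℚ) : ℂ) - 5832 * ((vc 3510 : ℚ) : ℂ) = 0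
    simp only [vc_351, vc_3510, vc_36360]
    norm_num
  have z4180 : β 4180 = 0 := by
    have hcd := chkCl_spec cl_10
    rw [← hcd.2, ← hβ _ _ hcd.1]
    show X.CC (fn X X.cl w) 1 4 - 5832 * fn X X.cl w 1 4 = 0
    rw [CC_3 hv hk hw, hw _ _ hcd.1, hcd.2]
    show 6840 * ((vc 4180 : ℚ) : ℂ) + 9216 * ((vc 8126 : ℚ) : ℂ) + 46080 * ((vc 12063 : ℚ) : ℂ) + 46080 * ((vc 16063 : ℚ) : ℂ) + 320 * ((vc 36360 : ℚ) : ℂ) + 34560 * ((vc 36072 : ℚ) : ℂ) + 163840 * ((vc 36036 : ℚ) : ℂ) - 5832 * ((vc 4180 : ℚ) : ℂ) = 0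
    simp only [vc_4180, vc_8126, vc_12063, vc_16063, vc_36036, vc_36072, vc_36360]
    norm_num
  have z16108 : β 16108 = 0 := by
    have hcd := chkCl_spec cl_20
    rw [← hcd.2, ← hβ _ _ hcd.1]
    show X.CC (fn X X.cl w) 8 307872 - 5832 * fn X X.cl w 8 307872 = 0
    rw [CC_7 hv hk hw, hw _ _ hcd.1, hcd.2]
    show 2 * ((vc 351 : ℚ) : ℂ) + 486 * ((vc 8126 : ℚ) : ℂ) + 5832 * ((vc 12063 : ℚ) : ℂ) + 5832 * ((vc 16063 : ℚ) : ℂ) + 10312 * ((vc 16108 : ℚ) : ℂ) + 4320 * ((vc 16000 : ℚ) : ℂ) + 122472 * ((vc 24036 : ℚ) : ℂ) + 270 * ((vc 36360 : ℚ) : ℂ) + 65610 * ((vc 36072 : ℚ) : ℂ) + 91800 * ((vc 36036 : ℚ) : ℂ) - 5832 * ((vc 16108 : ℚ) : ℂ) = 0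
    simp only [vc_351, vc_8126, vc_12063, vc_16000, vc_16063, vc_16108, vc_24036, vc_36036, vc_36072, vc_36360]
    norm_num
  have z36360 : β 36360 = 0 := by
    have hcd := chkCl_spec cl_30
    rw [← hcd.2, ← hβ _ _ hcd.1]
    show X.CC (fn X X.cl w) 307496 308352 - 5832 * fn X X.cl w 307496 308352 = 0
    rw [CC_10 hv hk hw, hw _ _ hcd.1, hcd.2]
    show 2 * ((vc 3510 : ℚ) : ℂ) + 3150 * ((vc 4180 : ℚ) : ℂ) + 44800 * ((vc 16108 : ℚ) : ℂ) + 11520 * ((vc 24036 : ℚ) : ℂ) + 6664 * ((vc 36360 : ℚ) : ℂ) + 151200 * ((vc 36072 : ℚ) : ℂ) + 89600 * ((vc 36036 : ℚ) : ℂ) - 5832 * ((vc 36360 : ℚ) : ℂ) = 0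
    simp only [vc_3510, vc_4180, vc_16108, vc_24036, vc_36036, vc_36072, vc_36360]
    norm_num
  intro c d h
  have h1 := zero_lin (fun k hk => eqA hK hβ hA hk) z3510 z4180 z16108 z36360 (cl_mem h)
  rw [← hβ c d h] at h1
  exact sub_eq_zero.1 h1

/-- the degree 112168056 -/
theorem exists_c : ∃ χ : IrrCharacter Fi24, charDegree (χ : Fi24 → ℂ) = 112168056 := by
  have : Finite Fi24 := Cfsg.Agent.R08.FiTwentyFour.finite_Fi24
  set w : ℕ → ℂ := fun k => ((vc k : ℚ) : ℂ) with hw
  have hv := orbs.isFn w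
  have hab := (chkCl_spec cl_02)
  refine Ctx.exists_deg (X := X) (P := True) (τ := (-18)) (ω := 5832) (v := fn X X.cl w) hv ?_ ?_ (fun _ => vc_C) ?_
    (n2 := 9720970056) (s2 := 12393/143) ?_ sum_one ?_
  · show fn X X.cl w 0 136 = 1
    rw [Ctx.fn_of hab.1, hab.2, hw]
    simp only [vc_3510]
    norm_num
  · intro c d h
    rw [A1_val (orbs.kInv w) (fun x y h => if_pos h) h, vc_A (cl_mem h), Ctx.fn_of h]
  · intro ψ hψ hK h1 h2 c d h
    obtain ⟨β, hβ⟩ := orbs.exists_beta hψ hK
    have k0 := h2 trivial _ _ (chkCl_spec cl_02).1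
    have k3 := h2 trivial _ _ (chkCl_spec cl_10).1
    have k7 := h2 trivial _ _ (chkCl_spec cl_20).1
    have k10 := h2 trivial _ _ (chkCl_spec cl_30).1
    rw [CC_0 hψ hK hβ, hβ _ _ (chkCl_spec cl_02).1, (chkCl_spec cl_02).2] at k0
    rw [CC_3 hψ hK hβ, hβ _ _ (chkCl_spec cl_10).1, (chkCl_spec cl_10).2] at k3
    rw [CC_7 hψ hK hβ, hβ _ _ (chkCl_spec cl_20).1, (chkCl_spec cl_20).2] at k7
    rw [CC_10 hψ hK hβ, hβ _ _ (chkCl_spec cl_30).1, (chkCl_spec cl_30).2] at k10
    rw [hβ c d h, vc_lin (fun k hk => eqA hK hβ h1 hk) (by linear_combination k0) (by linear_combination k3)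
      (by linear_combination k7) (by linear_combination k10) (cl_mem h), Ctx.fn_of h]
    show _ = ψ 0 136 * _
    rw [hβ _ _ hab.1, hab.2]
  · have e : ∀ x y, fn X X.cl w x y * conj (fn X X.cl w x y) = fn X X.cl (fun k => ((vc k ^ 2 : ℚ) : ℂ)) x y := by
      intro x y
      by_cases h : X.com x y
      · rw [Ctx.fn_of h, Ctx.fn_of h, hw]
        simp only [map_ratCast]
        push_cast
        ring
      · have e1 : fn X X.cl w x y = 0 := if_neg h
        have e2 : fn X X.cl (fun k => ((vc k ^ 2 : ℚ) : ℂ)) x y = 0 := if_neg h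
        rw [e1, e2, zero_mul]
    simp only [e]
    rw [sum_fn]
    simp only [vc_3510, vc_693, vc_351, vc_4180, vc_8126, vc_12063, vc_16063, vc_16108, vc_16000, vc_24036, vc_36360, vc_36072, vc_36036]
    norm_num
  · norm_num

end Cfsg.Agent.H30.FiE
end

private theorem dce_459a10059d3d : _root_.True := by
  try have : _root_.True := by simp only [_root_.Cfsg.Agent.H30.FiE.e31.eq_1]
  try have : _root_.True := by simp only [_root_.Cfsg.Agent.H30.FiE.S10_10.eq_1]
  try have : _root_.True := by simp only [_root_.Cfsg.Agent.H30.FiE.e23.eq_1]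
  try have : _root_.True := by simp only [_root_.Cfsg.Agent.H30.FiE.e34.eq_1]
  try have : _root_.True := by simp only [_root_.Cfsg.Agent.H30.FiE.S7_5.eq_1]
  try have : _root_.True := by simp only [_root_.Cfsg.Agent.H30.FiE.S7_9.eq_1]
  try have : _root_.True := by simp only [_root_.Cfsg.Agent.H30.FiE.ms.eq_2]
  try have : _root_.True := by simp only [_root_.Cfsg.Agent.H30.FiE.S7_8.eq_1]
  try have : _root_.True := by simp only [_root_.Cfsg.Agent.H30.FiE.S3_0.eq_1]
  try have : _root_.True := by simp only [_root_.Cfsg.Agent.H30.FiE.S10_9.eq_1]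
  try have : _root_.True := by simp only [_root_.Cfsg.Agent.H30.FiE.S3_5.eq_1]
  try have : _root_.True := by simp only [_root_.Cfsg.Agent.H30.FiE.S7_2.eq_1]
  try have : _root_.True := by simp only [_root_.Cfsg.Agent.H30.FiE.S3_3.eq_1]
  try have : _root_.True := by simp only [_root_.Cfsg.Agent.H30.FiE.S7_4.eq_1]
  try have : _root_.True := by simp only [_root_.Cfsg.Agent.H30.FiE.e12.eq_1]
  try have : _root_.True := by simp only [_root_.Cfsg.Agent.H30.FiE.e24.eq_1]
  try have : _root_.True := by simp only [_root_.Cfsg.Agent.H30.FiE.e01.eq_1]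
  try have : _root_.True := by simp only [_root_.Cfsg.Agent.H30.FiE.S7_0.eq_1]
  try have : _root_.True := by simp only [_root_.Cfsg.Agent.H30.FiE.e33.eq_1]
  try have : _root_.True := by simp only [_root_.Cfsg.Agent.H30.FiE.ms.eq_4]
  try have : _root_.True := by simp only [_root_.Cfsg.Agent.H30.FiE.S0_0.eq_1]
  try have : _root_.True := by simp only [_root_.Cfsg.Agent.H30.FiE.S7_1.eq_1]
  try have : _root_.True := by simp only [_root_.Cfsg.Agent.H30.FiE.S10_5.eq_1]
  try have : _root_.True := by simp only [_root_.Cfsg.Agent.H30.FiE.S10_0.eq_1]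
  try have : _root_.True := by simp only [_root_.Cfsg.Agent.H30.FiE.S10_7.eq_1]
  try have : _root_.True := by simp only [_root_.Cfsg.Agent.H30.FiE.e02.eq_1]
  try have : _root_.True := by simp only [_root_.Cfsg.Agent.H30.FiE.S10_2.eq_1]
  try have : _root_.True := by simp only [_root_.Cfsg.Agent.H30.FiE.S10_4.eq_1]
  try have : _root_.True := by simp only [_root_.Cfsg.Agent.H30.FiE.e21.eq_1]
  try have : _root_.True := by simp only [_root_.Cfsg.Agent.H30.FiE.S7_7.eq_1]
  try have : _root_.True := by simp only [_root_.Cfsg.Agent.H30.FiE.ms.eq_1]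
  try have : _root_.True := by simp only [_root_.Cfsg.Agent.H30.FiE.S7_11.eq_1]
  try have : _root_.True := by simp only [_root_.Cfsg.Agent.H30.FiE.e13.eq_1]
  try have : _root_.True := by simp only [_root_.Cfsg.Agent.H30.FiE.S3_1.eq_1]
  try have : _root_.True := by simp only [_root_.Cfsg.Agent.H30.FiE.S7_6.eq_1]
  try have : _root_.True := by simp only [_root_.Cfsg.Agent.H30.FiE.S10_6.eq_1]
  try have : _root_.True := by simp only [_root_.Cfsg.Agent.H30.FiE.S7_10.eq_1]
  try have : _root_.True := by simp only [_root_.Cfsg.Agent.H30.FiE.e10.eq_1]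
  try have : _root_.True := by simp only [_root_.Cfsg.Agent.H30.FiE.S10_3.eq_1]
  try have : _root_.True := by simp only [_root_.Cfsg.Agent.H30.FiE.S10_1.eq_1]
  try have : _root_.True := by simp only [_root_.Cfsg.Agent.H30.FiE.S7_3.eq_1]
  try have : _root_.True := by simp only [_root_.Cfsg.Agent.H30.FiE.e32.eq_1]
  try have : _root_.True := by simp only [_root_.Cfsg.Agent.H30.FiE.e11.eq_1]
  try have : _root_.True := by simp only [_root_.Cfsg.Agent.H30.FiE.e20.eq_1]
  try have : _root_.True := by simp only [_root_.Cfsg.Agent.H30.FiE.S3_2.eq_1]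
  try have : _root_.True := by simp only [_root_.Cfsg.Agent.H30.FiE.S3_4.eq_1]
  try have : _root_.True := by simp only [_root_.Cfsg.Agent.H30.FiE.e30.eq_1]
  try have : _root_.True := by simp only [_root_.Cfsg.Agent.H30.FiE.S7_12.eq_1]
  try have : _root_.True := by simp only [_root_.Cfsg.Agent.H30.FiE.e25.eq_1]
  try have : _root_.True := by simp only [_root_.Cfsg.Agent.H30.FiE.e00.eq_1]
  try have : _root_.True := by simp only [_root_.Cfsg.Agent.H30.FiE.S10_8.eq_1]
  try have : _root_.True := by simp only [_root_.Cfsg.Agent.H30.FiE.ms.eq_3]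
  try have : _root_.True := by simp only [_root_.Cfsg.Agent.H30.FiE.e22.eq_1]
  exact _root_.True.intro
end

-- part: H30/FiE/DegE
section
prune_inst 0x4000000008180000000000001000000200004001004000000048004020458000002000000000145028400000000000200028000000000800000200000004000080080000000000000000000000000000000000000000000000000000000000000
set_option linter.all false
open scoped Cfsg.Agent.FastGrp

/-!
# Degrees of `Fi24` from the commuting pairs of transpositions (helper30). Generated.
-/

set_option autoImplicit false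
set_option maxRecDepth 100000
set_option linter.all false

namespace Cfsg.Agent.H30.FiE

open Cfsg Cfsg.Agent.Lib.PermNet Cfsg.Agent.Lib.PermNetPt Cfsg.Agent.Lib.PermNetOrbit
open Cfsg.Agent.Fischer.Fi24RepOrb (UG)
open Cfsg.Spor (Fi24)
open Cfsg.Agent.H30.PairFn (Ctx)
open Cfsg.Agent.H30.PairFn.Ctx (Ent Orbs IsFn KInv hf rs fn)
open scoped ComplexConjugate

attribute [local instance] Classical.propDecidable


/-! ### The degree 3208653525 -/

/-- the eigenfunction -/
def ve (k : ℕ) : ℚ :=
  if k = 3510 then 1 else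
  if k = 693 then -1/390 else
  if k = 351 then 1/3520 else
  if k = 4180 then 1/15015 else
  if k = 8126 then -1/137280 else
  if k = 12063 then 0 else
  if k = 16063 then 0 else
  if k = 16108 then -1/12320 else
  if k = 16000 then -1/17600 else
  if k = 24036 then 1/137280 else
  if k = 36360 then 1/1716 else
  if k = 36072 then -1/600600 else
  if k = 36036 then -1/600600 else
  0
theorem ve_3510 : ve 3510 = 1 := by unfold ve; norm_num only [if_true, if_false]
theorem ve_693 : ve 693 = -1/390 := by unfold ve; norm_num only [if_true, if_false]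
theorem ve_351 : ve 351 = 1/3520 := by unfold ve; norm_num only [if_true, if_false]
theorem ve_4180 : ve 4180 = 1/15015 := by unfold ve; norm_num only [if_true, if_false]
theorem ve_8126 : ve 8126 = -1/137280 := by unfold ve; norm_num only [if_true, if_false]
theorem ve_12063 : ve 12063 = 0 := by unfold ve; norm_num only [if_true, if_false]
theorem ve_16063 : ve 16063 = 0 := by unfold ve; norm_num only [if_true, if_false]
theorem ve_16108 : ve 16108 = -1/12320 := by unfold ve; norm_num only [if_true, if_false]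
theorem ve_16000 : ve 16000 = -1/17600 := by unfold ve; norm_num only [if_true, if_false]
theorem ve_24036 : ve 24036 = 1/137280 := by unfold ve; norm_num only [if_true, if_false]
theorem ve_36360 : ve 36360 = 1/1716 := by unfold ve; norm_num only [if_true, if_false]
theorem ve_36072 : ve 36072 = -1/600600 := by unfold ve; norm_num only [if_true, if_false]
theorem ve_36036 : ve 36036 = -1/600600 := by unfold ve; norm_num only [if_true, if_false]

theorem ve_A {k : ℕ} (hk : k ∈ [3510, 693, 351, 4180, 8126, 12063, 16063, 16108, 16000, 24036, 36360, 36072, 36036]) : rowA (fun k => ((ve k : ℚ) : ℂ)) k = (-18) * ((ve k : ℚ) : ℂ) := by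
  simp only [List.mem_cons, List.not_mem_nil, or_false] at hk
  rcases hk with rfl | rfl | rfl | rfl | rfl | rfl | rfl | rfl | rfl | rfl | rfl | rfl | rfl
  · rw [rowA_3510]; simp only [ve_3510, ve_693]; norm_num
  · rw [rowA_693]; simp only [ve_3510, ve_693, ve_351, ve_4180, ve_8126]; norm_num
  · rw [rowA_351]; simp only [ve_693, ve_351, ve_8126, ve_16063]; norm_num
  · rw [rowA_4180]; simp only [ve_693, ve_4180, ve_8126, ve_12063]; norm_num
  · rw [rowA_8126]; simp only [ve_693, ve_351, ve_4180, ve_8126, ve_12063, ve_16063, ve_16108, ve_24036]; norm_num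
  · rw [rowA_12063]; simp only [ve_4180, ve_8126, ve_12063, ve_24036, ve_36360, ve_36072, ve_36036]; norm_num
  · rw [rowA_16063]; simp only [ve_351, ve_8126, ve_16063, ve_16108, ve_16000, ve_24036]; norm_num
  · rw [rowA_16108]; simp only [ve_8126, ve_16063, ve_16108, ve_24036]; norm_num
  · rw [rowA_16000]; simp only [ve_16063, ve_16000, ve_24036]; norm_num
  · rw [rowA_24036]; simp only [ve_8126, ve_12063, ve_16063, ve_16108, ve_16000, ve_24036, ve_36072, ve_36036]; norm_num
  · rw [rowA_36360]; simp only [ve_12063, ve_36360, ve_36072]; norm_num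
  · rw [rowA_36072]; simp only [ve_12063, ve_24036, ve_36360, ve_36072, ve_36036]; norm_num
  · rw [rowA_36036]; simp only [ve_12063, ve_24036, ve_36072, ve_36036]; norm_num

theorem ve_lin {β : ℕ → ℂ} (hA : ∀ k ∈ [3510, 693, 351, 4180, 8126, 12063, 16063, 16108, 16000, 24036, 36360, 36072, 36036], rowA β k = (-18) * β k)
    (hC3510 : 3512 * β 3510 + 56320 * β 351 + 247104 * β 36360 = 3672 * β 3510)
    (hC4180 : 6840 * β 4180 + 9216 * β 8126 + 46080 * β 12063 + 46080 * β 16063 + 163840 * β 36036 + 34560 * β 36072 + 320 * β 36360 = 3672 * β 4180)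
    (hC16108 : 10312 * β 16108 + 2 * β 351 + 486 * β 8126 + 122472 * β 24036 + 5832 * β 16063 + 4320 * β 16000 + 5832 * β 12063 + 91800 * β 36036 + 65610 * β 36072 + 270 * β 36360 = 3672 * β 16108)
    (hC36360 : 6664 * β 36360 + 11520 * β 24036 + 151200 * β 36072 + 89600 * β 36036 + 2 * β 3510 + 3150 * β 4180 + 44800 * β 16108 = 3672 * β 36360)
    {k : ℕ} (hk : k ∈ [3510, 693, 351, 4180, 8126, 12063, 16063, 16108, 16000, 24036, 36360, 36072, 36036]) : β k = β 3510 * ((ve k : ℚ) : ℂ) := by
  have hA3510 := hA 3510 (by simp)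
  rw [rowA_3510] at hA3510
  have hA693 := hA 693 (by simp)
  rw [rowA_693] at hA693
  have hA351 := hA 351 (by simp)
  rw [rowA_351] at hA351
  have hA4180 := hA 4180 (by simp)
  rw [rowA_4180] at hA4180
  have hA8126 := hA 8126 (by simp)
  rw [rowA_8126] at hA8126
  have hA12063 := hA 12063 (by simp)
  rw [rowA_12063] at hA12063
  have hA16063 := hA 16063 (by simp)
  rw [rowA_16063] at hA16063
  have hA16108 := hA 16108 (by simp)
  rw [rowA_16108] at hA16108
  have hA16000 := hA 16000 (by simp)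
  rw [rowA_16000] at hA16000
  have hA24036 := hA 24036 (by simp)
  rw [rowA_24036] at hA24036
  have hA36360 := hA 36360 (by simp)
  rw [rowA_36360] at hA36360
  have hA36072 := hA 36072 (by simp)
  rw [rowA_36072] at hA36072
  have hA36036 := hA 36036 (by simp)
  rw [rowA_36036] at hA36036
  simp only [List.mem_cons, List.not_mem_nil, or_false] at hk
  rcases hk with rfl | rfl | rfl | rfl | rfl | rfl | rfl | rfl | rfl | rfl | rfl | rfl | rfl
  · rw [ve_3510]; norm_num
  · rw [ve_693]; push_cast; linear_combination (1/7020) * hA3510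
  · rw [ve_351]; push_cast; linear_combination (-7/337920) * hA3510 + (1/11264) * hA693 + (1/4224) * hA351 + (-9/22528) * hA4180 + (1/1408) * hA8126 + (-1/704) * hA16063 + (1/1056) * hA16000
  · rw [ve_4180]; push_cast; linear_combination (-5423911/1313512200) * hA3510 + (48802879/656756100) * hA693 + (-10840702/164189025) * hA351 + (-27844591/145945800) * hA4180 + (2956502/164189025) * hA8126 + (11908/42525) * hA12063 + (1455604/6081075) * hA16063 + (-841592/10945935) * hA16000 + (-9056/42525) * hA24036 + (1571/5254048800) * hC3510 + (7/12960) * hC4180 + (-64/32805) * hC16108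
  · rw [ve_8126]; push_cast; linear_combination (1335559/1334361600) * hA3510 + (-6011513/333590400) * hA693 + (83459/5212350) * hA351 + (7020379/148262400) * hA4180 + (-214397/41698800) * hA8126 + (-2977/43200) * hA12063 + (-177563/3088800) * hA16063 + (49967/2779920) * hA16000 + (283/5400) * hA24036 + (-1571/21349785600) * hC3510 + (-49/368640) * hC4180 + (7/14580) * hC16108
  · rw [ve_12063]; push_cast; linear_combination (-5103151/48037017600) * hA3510 + (45959779/24018508800) * hA693 + (-464041/272937600) * hA351 + (-2512181/485222400) * hA4180 + (220541/272937600) * hA8126 + (2977/388800) * hA12063 + (29891/5054400) * hA16063 + (-7649/4548960) * hA16000 + (-283/48600) * hA24036 + (1571/192148070400) * hC3510 + (49/3317760) * hC4180 + (-7/131220) * hC16108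
  · rw [ve_16063]; push_cast; linear_combination (-5101801/48037017600) * hA3510 + (3534433/1847577600) * hA693 + (-5105801/3002313600) * hA351 + (-1995157/410572800) * hA4180 + (-33023/230947200) * hA8126 + (2977/388800) * hA12063 + (33427/4276800) * hA16063 + (-11353/3849120) * hA16000 + (-283/48600) * hA24036 + (1571/192148070400) * hC3510 + (49/3317760) * hC4180 + (-7/131220) * hC16108
  · rw [ve_16108]; push_cast; linear_combination (37297597/11070259200) * hA3510 + (-30520403/503193600) * hA693 + (37299677/691891200) * hA351 + (186397957/1230028800) * hA4180 + (3571823/691891200) * hA8126 + (-21829/89600) * hA12063 + (-2871227/12812800) * hA16063 + (961633/11531520) * hA16000 + (1891/11200) * hA24036 + (-24767/44281036800) * hC3510 + (-57/327680) * hC4180 + (7/4320) * hC16108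
  · rw [ve_16000]; push_cast; linear_combination (21478159/8211456000) * hA3510 + (-193333531/4105728000) * hA693 + (21479039/513216000) * hA351 + (108664999/912384000) * hA4180 + (-496939/513216000) * hA8126 + (-161239/864000) * hA12063 + (-1617589/9504000) * hA16063 + (545311/8553600) * hA16000 + (14131/108000) * hA24036 + (-13169/32845824000) * hC3510 + (-1183/7372800) * hC4180 + (91/72900) * hC16108
  · rw [ve_24036]; push_cast; linear_combination (-123767153/384296140800) * hA3510 + (1114053557/192148070400) * hA693 + (-123768433/24018508800) * hA351 + (-626052953/42699571200) * hA4180 + (3410933/24018508800) * hA8126 + (71441/3110400) * hA12063 + (9270983/444787200) * hA16063 + (-3052997/400308480) * hA16000 + (-6239/388800) * hA24036 + (77443/1537184563200) * hC3510 + (497/26542080) * hC4180 + (-161/1049760) * hC16108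
  · rw [ve_36360]; push_cast; linear_combination (7/1482624) * hA3510 + (-5/247104) * hA693 + (-5/92664) * hA351 + (5/54912) * hA4180 + (-5/30888) * hA8126 + (5/15444) * hA16063 + (-5/23166) * hA16000 + (1/247104) * hC3510
  · rw [ve_36072]; push_cast; linear_combination (-10192079/420323904000) * hA3510 + (7050647/16166304000) * hA693 + (-1454437/3752892000) * hA351 + (-3328163/3592512000) * hA4180 + (-1147957/2020788000) * hA8126 + (6743/3402000) * hA12063 + (81593/37422000) * hA16063 + (-29147/33679800) * hA16000 + (-797/425250) * hA24036 + (-21011/1681295616000) * hC3510 + (-7/4147200) * hC4180 + (1/164025) * hC16108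
  · rw [ve_36036]; push_cast; linear_combination (132109433/1494484992000) * hA3510 + (-108101527/67931136000) * hA693 + (132106393/93405312000) * hA351 + (671463713/166053888000) * hA4180 + (-11756093/93405312000) * hA8126 + (-10823/1728000) * hA12063 + (-156961/27456000) * hA16063 + (3052877/1556755200) * hA16000 + (7319/1512000) * hA24036 + (-9829/853991424000) * hC3510 + (-71/14745600) * hC4180 + (23/583200) * hC16108

theorem ve_C : let w : ℕ → ℂ := fun k => ((ve k : ℚ) : ℂ)
    ∀ c d, X.com c d → X.CC (fn X X.cl w) c d = 3672 * fn X X.cl w c d := by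
  intro w
  have hv := orbs.isFn w
  have hk := orbs.kInv w
  have hw : ∀ x y, X.com x y → fn X X.cl w x y = w (X.cl x y) := fun x y h => if_pos h
  set ψ : ℕ → ℕ → ℂ := fun c d => X.CC (fn X X.cl w) c d - 3672 * fn X X.cl w c d with hψ
  have hF : IsFn X ψ := by
    refine ⟨fun c d => ?_, fun c d h => ?_⟩
    · show _ - _ = _ - _
      rw [hv.CC.symm, hv.symm]
    · show _ - _ = (0 : ℂ)
      rw [hv.CC.zero c d h, hv.zero c d h]; ring
  have hK : X.KInv ψ := by
    intro g hg c d
    show _ - _ = _ - _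
    rw [hk.CC g hg, hk g hg]
  have hA0 : ∀ c d, X.com c d → X.A1 (fn X X.cl w) c d = (-18) * fn X X.cl w c d := by
    intro c d h
    rw [A1_val hk hw h, ve_A (cl_mem h), hw c d h]
  have hA : ∀ c d, X.com c d → X.A1 ψ c d = (-18) * ψ c d := by
    intro c d h
    have e : ψ = fun c d => X.CC (fn X X.cl w) c d + (fun c d => (-3672) * fn X X.cl w c d) c d := by
      funext c d; show _ - _ = _ + _; ring
    rw [e, Ctx.A1_add, Ctx.A1_mul, Ctx.A1_CC, hA0 c d h]
    have e2 : X.CC (X.A1 (fn X X.cl w)) c d = (-18) * X.CC (fn X X.cl w) c d := by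
      show ∑ x ∈ X.PT, X.A1 (fn X X.cl w) (X.ρ (X.t x) c) (X.ρ (X.t x) d) = _ * ∑ x ∈ X.PT, _
      rw [Finset.mul_sum]
      exact Finset.sum_congr rfl fun x _ => hA0 _ _ (X.inv _ h)
    rw [e2]
    ring
  obtain ⟨β, hβ⟩ := orbs.exists_beta hF hK
  have z3510 : β 3510 = 0 := by
    have hcd := chkCl_spec cl_02
    rw [← hcd.2, ← hβ _ _ hcd.1]
    show X.CC (fn X X.cl w) 0 136 - 3672 * fn X X.cl w 0 136 = 0
    rw [CC_0 hv hk hw, hw _ _ hcd.1, hcd.2]
    show 3512 * ((ve 3510 : ℚ) : ℂ) + 56320 * ((ve 351 : ℚ) : ℂ) + 247104 * ((ve 36360 : ℚ) : ℂ) - 3672 * ((ve 3510 : ℚ) : ℂ) = 0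
    simp only [ve_351, ve_3510, ve_36360]
    norm_num
  have z4180 : β 4180 = 0 := by
    have hcd := chkCl_spec cl_10
    rw [← hcd.2, ← hβ _ _ hcd.1]
    show X.CC (fn X X.cl w) 1 4 - 3672 * fn X X.cl w 1 4 = 0
    rw [CC_3 hv hk hw, hw _ _ hcd.1, hcd.2]
    show 6840 * ((ve 4180 : ℚ) : ℂ) + 9216 * ((ve 8126 : ℚ) : ℂ) + 46080 * ((ve 12063 : ℚ) : ℂ) + 46080 * ((ve 16063 : ℚ) : ℂ) + 320 * ((ve 36360 : ℚ) : ℂ) + 34560 * ((ve 36072 : ℚ) : ℂ) + 163840 * ((ve 36036 : ℚ) : ℂ) - 3672 * ((ve 4180 : ℚ) : ℂ) = 0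
    simp only [ve_4180, ve_8126, ve_12063, ve_16063, ve_36036, ve_36072, ve_36360]
    norm_num
  have z16108 : β 16108 = 0 := by
    have hcd := chkCl_spec cl_20
    rw [← hcd.2, ← hβ _ _ hcd.1]
    show X.CC (fn X X.cl w) 8 307872 - 3672 * fn X X.cl w 8 307872 = 0
    rw [CC_7 hv hk hw, hw _ _ hcd.1, hcd.2]
    show 2 * ((ve 351 : ℚ) : ℂ) + 486 * ((ve 8126 : ℚ) : ℂ) + 5832 * ((ve 12063 : ℚ) : ℂ) + 5832 * ((ve 16063 : ℚ) : ℂ) + 10312 * ((ve 16108 : ℚ) : ℂ) + 4320 * ((ve 16000 : ℚ) : ℂ) + 122472 * ((ve 24036 : ℚ) : ℂ) + 270 * ((ve 36360 : ℚ) : ℂ) + 65610 * ((ve 36072 : ℚ) : ℂ) + 91800 * ((ve 36036 : ℚ) : ℂ) - 3672 * ((ve 16108 : ℚ) : ℂ) = 0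
    simp only [ve_351, ve_8126, ve_12063, ve_16000, ve_16063, ve_16108, ve_24036, ve_36036, ve_36072, ve_36360]
    norm_num
  have z36360 : β 36360 = 0 := by
    have hcd := chkCl_spec cl_30
    rw [← hcd.2, ← hβ _ _ hcd.1]
    show X.CC (fn X X.cl w) 307496 308352 - 3672 * fn X X.cl w 307496 308352 = 0
    rw [CC_10 hv hk hw, hw _ _ hcd.1, hcd.2]
    show 2 * ((ve 3510 : ℚ) : ℂ) + 3150 * ((ve 4180 : ℚ) : ℂ) + 44800 * ((ve 16108 : ℚ) : ℂ) + 11520 * ((ve 24036 : ℚ) : ℂ) + 6664 * ((ve 36360 : ℚ) : ℂ) + 151200 * ((ve 36072 : ℚ) : ℂ) + 89600 * ((ve 36036 : ℚ) : ℂ) - 3672 * ((ve 36360 : ℚ) : ℂ) = 0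
    simp only [ve_3510, ve_4180, ve_16108, ve_24036, ve_36036, ve_36072, ve_36360]
    norm_num
  intro c d h
  have h1 := zero_lin (fun k hk => eqA hK hβ hA hk) z3510 z4180 z16108 z36360 (cl_mem h)
  rw [← hβ c d h] at h1
  exact sub_eq_zero.1 h1

/-- the degree 3208653525 -/
theorem exists_e : ∃ χ : IrrCharacter Fi24, charDegree (χ : Fi24 → ℂ) = 3208653525 := by
  have : Finite Fi24 := Cfsg.Agent.R08.FiTwentyFour.finite_Fi24
  set w : ℕ → ℂ := fun k => ((ve k : ℚ) : ℂ) with hw
  have hv := orbs.isFn w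
  have hab := (chkCl_spec cl_02)
  refine Ctx.exists_deg (X := X) (P := True) (τ := (-18)) (ω := 3672) (v := fn X X.cl w) hv ?_ ?_ (fun _ => ve_C) ?_
    (n2 := 9720970056) (s2 := 5832/1925) ?_ sum_one ?_
  · show fn X X.cl w 0 136 = 1
    rw [Ctx.fn_of hab.1, hab.2, hw]
    simp only [ve_3510]
    norm_num
  · intro c d h
    rw [A1_val (orbs.kInv w) (fun x y h => if_pos h) h, ve_A (cl_mem h), Ctx.fn_of h]
  · intro ψ hψ hK h1 h2 c d h
    obtain ⟨β, hβ⟩ := orbs.exists_beta hψ hK
    have k0 := h2 trivial _ _ (chkCl_spec cl_02).1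
    have k3 := h2 trivial _ _ (chkCl_spec cl_10).1
    have k7 := h2 trivial _ _ (chkCl_spec cl_20).1
    have k10 := h2 trivial _ _ (chkCl_spec cl_30).1
    rw [CC_0 hψ hK hβ, hβ _ _ (chkCl_spec cl_02).1, (chkCl_spec cl_02).2] at k0
    rw [CC_3 hψ hK hβ, hβ _ _ (chkCl_spec cl_10).1, (chkCl_spec cl_10).2] at k3
    rw [CC_7 hψ hK hβ, hβ _ _ (chkCl_spec cl_20).1, (chkCl_spec cl_20).2] at k7
    rw [CC_10 hψ hK hβ, hβ _ _ (chkCl_spec cl_30).1, (chkCl_spec cl_30).2] at k10
    rw [hβ c d h, ve_lin (fun k hk => eqA hK hβ h1 hk) (by linear_combination k0) (by linear_combination k3)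
      (by linear_combination k7) (by linear_combination k10) (cl_mem h), Ctx.fn_of h]
    show _ = ψ 0 136 * _
    rw [hβ _ _ hab.1, hab.2]
  · have e : ∀ x y, fn X X.cl w x y * conj (fn X X.cl w x y) = fn X X.cl (fun k => ((ve k ^ 2 : ℚ) : ℂ)) x y := by
      intro x y
      by_cases h : X.com x y
      · rw [Ctx.fn_of h, Ctx.fn_of h, hw]
        simp only [map_ratCast]
        push_cast
        ring
      · have e1 : fn X X.cl w x y = 0 := if_neg h
        have e2 : fn X X.cl (fun k => ((ve k ^ 2 : ℚ) : ℂ)) x y = 0 := if_neg h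
        rw [e1, e2, zero_mul]
    simp only [e]
    rw [sum_fn]
    simp only [ve_3510, ve_693, ve_351, ve_4180, ve_8126, ve_12063, ve_16063, ve_16108, ve_16000, ve_24036, ve_36360, ve_36072, ve_36036]
    norm_num
  · norm_num

end Cfsg.Agent.H30.FiE
end

-- part: H30/FiE/Down
section
prune_inst 0x180000000000000000000000000001000000000000000000008000002000000000004000400000000000200000000000000000000000000000000000000000000000000000000000000000000000000000000000000000000000000
set_option linter.all false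
open scoped Cfsg.Agent.FastGrp

-- part: H30/FiE/DegD
section
/-!
# Degrees of `Fi24` from the commuting pairs of transpositions (helper30). Generated.
-/

set_option autoImplicit false
set_option maxRecDepth 100000
set_option linter.all false

namespace Cfsg.Agent.H30.FiE

open Cfsg Cfsg.Agent.Lib.PermNet Cfsg.Agent.Lib.PermNetPt Cfsg.Agent.Lib.PermNetOrbit
open Cfsg.Agent.Fischer.Fi24RepOrb (UG)
open Cfsg.Spor (Fi24)
open Cfsg.Agent.H30.PairFn (Ctx)
open Cfsg.Agent.H30.PairFn.Ctx (Ent Orbs IsFn KInv hf rs fn)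
open scoped ComplexConjugate

attribute [local instance] Classical.propDecidable


/-! ### The degree 1264015025 -/

/-- the eigenfunction -/
def vd (k : ℕ) : ℚ :=
  if k = 3510 then 1 else
  if k = 693 then -1/390 else
  if k = 351 then 1/3520 else
  if k = 4180 then 1/15015 else
  if k = 8126 then -1/137280 else
  if k = 12063 then 0 else
  if k = 16063 then 0 else
  if k = 16108 then 1/5824 else
  if k = 16000 then 1/8800 else
  if k = 24036 then -1/68640 else
  if k = 36360 then -5/1716 else
  if k = 36072 then 1/120120 else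
  if k = 36036 then 1/369600 else
  0
theorem vd_3510 : vd 3510 = 1 := by unfold vd; norm_num only [if_true, if_false]
theorem vd_693 : vd 693 = -1/390 := by unfold vd; norm_num only [if_true, if_false]
theorem vd_351 : vd 351 = 1/3520 := by unfold vd; norm_num only [if_true, if_false]
theorem vd_4180 : vd 4180 = 1/15015 := by unfold vd; norm_num only [if_true, if_false]
theorem vd_8126 : vd 8126 = -1/137280 := by unfold vd; norm_num only [if_true, if_false]
theorem vd_12063 : vd 12063 = 0 := by unfold vd; norm_num only [if_true, if_false]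
theorem vd_16063 : vd 16063 = 0 := by unfold vd; norm_num only [if_true, if_false]
theorem vd_16108 : vd 16108 = 1/5824 := by unfold vd; norm_num only [if_true, if_false]
theorem vd_16000 : vd 16000 = 1/8800 := by unfold vd; norm_num only [if_true, if_false]
theorem vd_24036 : vd 24036 = -1/68640 := by unfold vd; norm_num only [if_true, if_false]
theorem vd_36360 : vd 36360 = -5/1716 := by unfold vd; norm_num only [if_true, if_false]
theorem vd_36072 : vd 36072 = 1/120120 := by unfold vd; norm_num only [if_true, if_false]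
theorem vd_36036 : vd 36036 = 1/369600 := by unfold vd; norm_num only [if_true, if_false]

theorem vd_A {k : ℕ} (hk : k ∈ [3510, 693, 351, 4180, 8126, 12063, 16063, 16108, 16000, 24036, 36360, 36072, 36036]) : rowA (fun k => ((vd k : ℚ) : ℂ)) k = (-18) * ((vd k : ℚ) : ℂ) := by
  simp only [List.mem_cons, List.not_mem_nil, or_false] at hk
  rcases hk with rfl | rfl | rfl | rfl | rfl | rfl | rfl | rfl | rfl | rfl | rfl | rfl | rfl
  · rw [rowA_3510]; simp only [vd_3510, vd_693]; norm_num
  · rw [rowA_693]; simp only [vd_3510, vd_693, vd_351, vd_4180, vd_8126]; norm_num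
  · rw [rowA_351]; simp only [vd_693, vd_351, vd_8126, vd_16063]; norm_num
  · rw [rowA_4180]; simp only [vd_693, vd_4180, vd_8126, vd_12063]; norm_num
  · rw [rowA_8126]; simp only [vd_693, vd_351, vd_4180, vd_8126, vd_12063, vd_16063, vd_16108, vd_24036]; norm_num
  · rw [rowA_12063]; simp only [vd_4180, vd_8126, vd_12063, vd_24036, vd_36360, vd_36072, vd_36036]; norm_num
  · rw [rowA_16063]; simp only [vd_351, vd_8126, vd_16063, vd_16108, vd_16000, vd_24036]; norm_num
  · rw [rowA_16108]; simp only [vd_8126, vd_16063, vd_16108, vd_24036]; norm_num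
  · rw [rowA_16000]; simp only [vd_16063, vd_16000, vd_24036]; norm_num
  · rw [rowA_24036]; simp only [vd_8126, vd_12063, vd_16063, vd_16108, vd_16000, vd_24036, vd_36072, vd_36036]; norm_num
  · rw [rowA_36360]; simp only [vd_12063, vd_36360, vd_36072]; norm_num
  · rw [rowA_36072]; simp only [vd_12063, vd_24036, vd_36360, vd_36072, vd_36036]; norm_num
  · rw [rowA_36036]; simp only [vd_12063, vd_24036, vd_36072, vd_36036]; norm_num

theorem vd_lin {β : ℕ → ℂ} (hA : ∀ k ∈ [3510, 693, 351, 4180, 8126, 12063, 16063, 16108, 16000, 24036, 36360, 36072, 36036], rowA β k = (-18) * β k)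
    (hC3510 : 3512 * β 3510 + 56320 * β 351 + 247104 * β 36360 = 2808 * β 3510)
    (hC4180 : 6840 * β 4180 + 9216 * β 8126 + 46080 * β 12063 + 46080 * β 16063 + 163840 * β 36036 + 34560 * β 36072 + 320 * β 36360 = 2808 * β 4180)
    (hC16108 : 10312 * β 16108 + 2 * β 351 + 486 * β 8126 + 122472 * β 24036 + 5832 * β 16063 + 4320 * β 16000 + 5832 * β 12063 + 91800 * β 36036 + 65610 * β 36072 + 270 * β 36360 = 2808 * β 16108)
    (hC36360 : 6664 * β 36360 + 11520 * β 24036 + 151200 * β 36072 + 89600 * β 36036 + 2 * β 3510 + 3150 * β 4180 + 44800 * β 16108 = 2808 * β 36360)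
    {k : ℕ} (hk : k ∈ [3510, 693, 351, 4180, 8126, 12063, 16063, 16108, 16000, 24036, 36360, 36072, 36036]) : β k = β 3510 * ((vd k : ℚ) : ℂ) := by
  have hA3510 := hA 3510 (by simp)
  rw [rowA_3510] at hA3510
  have hA693 := hA 693 (by simp)
  rw [rowA_693] at hA693
  have hA351 := hA 351 (by simp)
  rw [rowA_351] at hA351
  have hA4180 := hA 4180 (by simp)
  rw [rowA_4180] at hA4180
  have hA8126 := hA 8126 (by simp)
  rw [rowA_8126] at hA8126
  have hA12063 := hA 12063 (by simp)
  rw [rowA_12063] at hA12063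
  have hA16063 := hA 16063 (by simp)
  rw [rowA_16063] at hA16063
  have hA16108 := hA 16108 (by simp)
  rw [rowA_16108] at hA16108
  have hA16000 := hA 16000 (by simp)
  rw [rowA_16000] at hA16000
  have hA24036 := hA 24036 (by simp)
  rw [rowA_24036] at hA24036
  have hA36360 := hA 36360 (by simp)
  rw [rowA_36360] at hA36360
  have hA36072 := hA 36072 (by simp)
  rw [rowA_36072] at hA36072
  have hA36036 := hA 36036 (by simp)
  rw [rowA_36036] at hA36036
  simp only [List.mem_cons, List.not_mem_nil, or_false] at hk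
  rcases hk with rfl | rfl | rfl | rfl | rfl | rfl | rfl | rfl | rfl | rfl | rfl | rfl | rfl
  · rw [vd_3510]; norm_num
  · rw [vd_693]; push_cast; linear_combination (1/7020) * hA3510
  · rw [vd_351]; push_cast; linear_combination (-7/337920) * hA3510 + (1/11264) * hA693 + (1/4224) * hA351 + (-9/22528) * hA4180 + (1/1408) * hA8126 + (-1/704) * hA16063 + (1/1056) * hA16000
  · rw [vd_4180]; push_cast; linear_combination (-793981/612972360) * hA3510 + (549253/23575860) * hA693 + (-17422/841995) * hA351 + (-324697/5239080) * hA4180 + (13382/841995) * hA8126 + (1588/19845) * hA12063 + (13148/218295) * hA16063 + (-5288/392931) * hA16000 + (-1376/19845) * hA24036 + (-13/188606880) * hC3510 + (13/42336) * hC4180 + (-64/107163) * hC16108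
  · rw [vd_8126]; push_cast; linear_combination (377933/1245404160) * hA3510 + (-261869/47900160) * hA693 + (4153/855360) * hA351 + (166601/10644480) * hA4180 + (-3953/855360) * hA8126 + (-397/20160) * hA12063 + (-743/55440) * hA16063 + (59/24948) * hA16000 + (43/2520) * hA24036 + (13/766402560) * hC3510 + (-13/172032) * hC4180 + (1/6804) * hC16108
  · rw [vd_12063]; push_cast; linear_combination (-49561/1724405760) * hA3510 + (447193/862202880) * hA693 + (-7091/15396480) * hA351 + (-317137/191600640) * hA4180 + (11551/15396480) * hA8126 + (397/181440) * hA12063 + (2027/1995840) * hA16063 + (95/1796256) * hA16000 + (-43/22680) * hA24036 + (-13/6897623040) * hC3510 + (13/1548288) * hC4180 + (-1/61236) * hC16108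
  · rw [vd_16063]; push_cast; linear_combination (-643663/22417274880) * hA3510 + (5807839/11208637440) * hA693 + (-92273/200154240) * hA351 + (-3330871/2490808320) * hA4180 + (-40187/200154240) * hA8126 + (397/181440) * hA12063 + (75701/25945920) * hA16063 + (-28375/23351328) * hA16000 + (-43/22680) * hA24036 + (-13/6897623040) * hC3510 + (13/1548288) * hC4180 + (-1/61236) * hC16108
  · rw [vd_16108]; push_cast; linear_combination (455551/344408064) * hA3510 + (-1366917/57401344) * hA693 + (65089/3075072) * hA351 + (6803253/114802688) * hA4180 + (3225/1025024) * hA8126 + (-2421/25088) * hA12063 + (-321445/3587584) * hA16063 + (182449/5381376) * hA16000 + (207/3136) * hA24036 + (-109/459210752) * hC3510 + (-171/3211264) * hC4180 + (1/1568) * hC16108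
  · rw [vd_16000]; push_cast; linear_combination (967103/958003200) * hA3510 + (-8706263/479001600) * hA693 + (138181/8553600) * hA351 + (4959767/106444800) * hA4180 + (-18461/8553600) * hA8126 + (-3601/50400) * hA12063 + (-3013/46200) * hA16063 + (6317/249480) * hA16000 + (1261/25200) * hA24036 + (-37/239500800) * hC3510 + (-13/215040) * hC4180 + (13/27216) * hC16108
  · rw [vd_24036]; push_cast; linear_combination (-22566809/179338199040) * hA3510 + (203142473/89669099520) * hA693 + (-3224071/1601233920) * hA351 + (-115703537/19926466560) * hA4180 + (483251/1601233920) * hA8126 + (12899/1451520) * hA12063 + (1659787/207567360) * hA16063 + (-544793/186810624) * hA16000 + (-1121/181440) * hA24036 + (1307/65213890560) * hC3510 + (83/12386304) * hC4180 + (-29/489888) * hC16108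
  · rw [vd_36360]; push_cast; linear_combination (7/1482624) * hA3510 + (-5/247104) * hA693 + (-5/92664) * hA351 + (5/54912) * hA4180 + (-5/30888) * hA8126 + (5/15444) * hA16063 + (-5/23166) * hA16000 + (1/247104) * hC3510
  · rw [vd_36072]; push_cast; linear_combination (-6493481/196151155200) * hA3510 + (58408313/98075577600) * hA693 + (-926851/1751349600) * hA351 + (-28963937/21794572800) * hA4180 + (-983329/1751349600) * hA8126 + (4139/1587600) * hA12063 + (622087/227026800) * hA16063 + (-43465/40864824) * hA16000 + (-461/198450) * hA24036 + (-8903/784604620800) * hC3510 + (-13/13547520) * hC4180 + (1/535815) * hC16108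
  · rw [vd_36036]; push_cast; linear_combination (2405443/63402393600) * hA3510 + (-47634397/69742632960) * hA693 + (755987/1245404160) * hA351 + (5475809/3099672576) * hA4180 + (-207919/1245404160) * hA8126 + (-2983/1128960) * hA12063 + (-1168789/484323840) * hA16063 + (181579/242161920) * hA16000 + (65/28224) * hA24036 + (-2069/557941063680) * hC3510 + (-83/48168960) * hC4180 + (29/1905120) * hC16108

theorem vd_C : let w : ℕ → ℂ := fun k => ((vd k : ℚ) : ℂ)
    ∀ c d, X.com c d → X.CC (fn X X.cl w) c d = 2808 * fn X X.cl w c d := by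
  intro w
  have hv := orbs.isFn w
  have hk := orbs.kInv w
  have hw : ∀ x y, X.com x y → fn X X.cl w x y = w (X.cl x y) := fun x y h => if_pos h
  set ψ : ℕ → ℕ → ℂ := fun c d => X.CC (fn X X.cl w) c d - 2808 * fn X X.cl w c d with hψ
  have hF : IsFn X ψ := by
    refine ⟨fun c d => ?_, fun c d h => ?_⟩
    · show _ - _ = _ - _
      rw [hv.CC.symm, hv.symm]
    · show _ - _ = (0 : ℂ)
      rw [hv.CC.zero c d h, hv.zero c d h]; ring
  have hK : X.KInv ψ := by
    intro g hg c d
    show _ - _ = _ - _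
    rw [hk.CC g hg, hk g hg]
  have hA0 : ∀ c d, X.com c d → X.A1 (fn X X.cl w) c d = (-18) * fn X X.cl w c d := by
    intro c d h
    rw [A1_val hk hw h, vd_A (cl_mem h), hw c d h]
  have hA : ∀ c d, X.com c d → X.A1 ψ c d = (-18) * ψ c d := by
    intro c d h
    have e : ψ = fun c d => X.CC (fn X X.cl w) c d + (fun c d => (-2808) * fn X X.cl w c d) c d := by
      funext c d; show _ - _ = _ + _; ring
    rw [e, Ctx.A1_add, Ctx.A1_mul, Ctx.A1_CC, hA0 c d h]
    have e2 : X.CC (X.A1 (fn X X.cl w)) c d = (-18) * X.CC (fn X X.cl w) c d := by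
      show ∑ x ∈ X.PT, X.A1 (fn X X.cl w) (X.ρ (X.t x) c) (X.ρ (X.t x) d) = _ * ∑ x ∈ X.PT, _
      rw [Finset.mul_sum]
      exact Finset.sum_congr rfl fun x _ => hA0 _ _ (X.inv _ h)
    rw [e2]
    ring
  obtain ⟨β, hβ⟩ := orbs.exists_beta hF hK
  have z3510 : β 3510 = 0 := by
    have hcd := chkCl_spec cl_02
    rw [← hcd.2, ← hβ _ _ hcd.1]
    show X.CC (fn X X.cl w) 0 136 - 2808 * fn X X.cl w 0 136 = 0
    rw [CC_0 hv hk hw, hw _ _ hcd.1, hcd.2]
    show 3512 * ((vd 3510 : ℚ) : ℂ) + 56320 * ((vd 351 : ℚ) : ℂ) + 247104 * ((vd 36360 : ℚ) : ℂ) - 2808 * ((vd 3510 : ℚ) : ℂ) = 0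
    simp only [vd_351, vd_3510, vd_36360]
    norm_num
  have z4180 : β 4180 = 0 := by
    have hcd := chkCl_spec cl_10
    rw [← hcd.2, ← hβ _ _ hcd.1]
    show X.CC (fn X X.cl w) 1 4 - 2808 * fn X X.cl w 1 4 = 0
    rw [CC_3 hv hk hw, hw _ _ hcd.1, hcd.2]
    show 6840 * ((vd 4180 : ℚ) : ℂ) + 9216 * ((vd 8126 : ℚ) : ℂ) + 46080 * ((vd 12063 : ℚ) : ℂ) + 46080 * ((vd 16063 : ℚ) : ℂ) + 320 * ((vd 36360 : ℚ) : ℂ) + 34560 * ((vd 36072 : ℚ) : ℂ) + 163840 * ((vd 36036 : ℚ) : ℂ) - 2808 * ((vd 4180 : ℚ) : ℂ) = 0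
    simp only [vd_4180, vd_8126, vd_12063, vd_16063, vd_36036, vd_36072, vd_36360]
    norm_num
  have z16108 : β 16108 = 0 := by
    have hcd := chkCl_spec cl_20
    rw [← hcd.2, ← hβ _ _ hcd.1]
    show X.CC (fn X X.cl w) 8 307872 - 2808 * fn X X.cl w 8 307872 = 0
    rw [CC_7 hv hk hw, hw _ _ hcd.1, hcd.2]
    show 2 * ((vd 351 : ℚ) : ℂ) + 486 * ((vd 8126 : ℚ) : ℂ) + 5832 * ((vd 12063 : ℚ) : ℂ) + 5832 * ((vd 16063 : ℚ) : ℂ) + 10312 * ((vd 16108 : ℚ) : ℂ) + 4320 * ((vd 16000 : ℚ) : ℂ) + 122472 * ((vd 24036 : ℚ) : ℂ) + 270 * ((vd 36360 : ℚ) : ℂ) + 65610 * ((vd 36072 : ℚ) : ℂ) + 91800 * ((vd 36036 : ℚ) : ℂ) - 2808 * ((vd 16108 : ℚ) : ℂ) = 0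
    simp only [vd_351, vd_8126, vd_12063, vd_16000, vd_16063, vd_16108, vd_24036, vd_36036, vd_36072, vd_36360]
    norm_num
  have z36360 : β 36360 = 0 := by
    have hcd := chkCl_spec cl_30
    rw [← hcd.2, ← hβ _ _ hcd.1]
    show X.CC (fn X X.cl w) 307496 308352 - 2808 * fn X X.cl w 307496 308352 = 0
    rw [CC_10 hv hk hw, hw _ _ hcd.1, hcd.2]
    show 2 * ((vd 3510 : ℚ) : ℂ) + 3150 * ((vd 4180 : ℚ) : ℂ) + 44800 * ((vd 16108 : ℚ) : ℂ) + 11520 * ((vd 24036 : ℚ) : ℂ) + 6664 * ((vd 36360 : ℚ) : ℂ) + 151200 * ((vd 36072 : ℚ) : ℂ) + 89600 * ((vd 36036 : ℚ) : ℂ) - 2808 * ((vd 36360 : ℚ) : ℂ) = 0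
    simp only [vd_3510, vd_4180, vd_16108, vd_24036, vd_36036, vd_36072, vd_36360]
    norm_num
  intro c d h
  have h1 := zero_lin (fun k hk => eqA hK hβ hA hk) z3510 z4180 z16108 z36360 (cl_mem h)
  rw [← hβ c d h] at h1
  exact sub_eq_zero.1 h1

/-- the degree 1264015025 -/
theorem exists_d : ∃ χ : IrrCharacter Fi24, charDegree (χ : Fi24 → ℂ) = 1264015025 := by
  have : Finite Fi24 := Cfsg.Agent.R08.FiTwentyFour.finite_Fi24
  set w : ℕ → ℂ := fun k => ((vd k : ℚ) : ℂ) with hw
  have hv := orbs.isFn w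
  have hab := (chkCl_spec cl_02)
  refine Ctx.exists_deg (X := X) (P := True) (τ := (-18)) (ω := 2808) (v := fn X X.cl w) hv ?_ ?_ (fun _ => vd_C) ?_
    (n2 := 9720970056) (s2 := 17496/2275) ?_ sum_one ?_
  · show fn X X.cl w 0 136 = 1
    rw [Ctx.fn_of hab.1, hab.2, hw]
    simp only [vd_3510]
    norm_num
  · intro c d h
    rw [A1_val (orbs.kInv w) (fun x y h => if_pos h) h, vd_A (cl_mem h), Ctx.fn_of h]
  · intro ψ hψ hK h1 h2 c d h
    obtain ⟨β, hβ⟩ := orbs.exists_beta hψ hK
    have k0 := h2 trivial _ _ (chkCl_spec cl_02).1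
    have k3 := h2 trivial _ _ (chkCl_spec cl_10).1
    have k7 := h2 trivial _ _ (chkCl_spec cl_20).1
    have k10 := h2 trivial _ _ (chkCl_spec cl_30).1
    rw [CC_0 hψ hK hβ, hβ _ _ (chkCl_spec cl_02).1, (chkCl_spec cl_02).2] at k0
    rw [CC_3 hψ hK hβ, hβ _ _ (chkCl_spec cl_10).1, (chkCl_spec cl_10).2] at k3
    rw [CC_7 hψ hK hβ, hβ _ _ (chkCl_spec cl_20).1, (chkCl_spec cl_20).2] at k7
    rw [CC_10 hψ hK hβ, hβ _ _ (chkCl_spec cl_30).1, (chkCl_spec cl_30).2] at k10
    rw [hβ c d h, vd_lin (fun k hk => eqA hK hβ h1 hk) (by linear_combination k0) (by linear_combination k3)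
      (by linear_combination k7) (by linear_combination k10) (cl_mem h), Ctx.fn_of h]
    show _ = ψ 0 136 * _
    rw [hβ _ _ hab.1, hab.2]
  · have e : ∀ x y, fn X X.cl w x y * conj (fn X X.cl w x y) = fn X X.cl (fun k => ((vd k ^ 2 : ℚ) : ℂ)) x y := by
      intro x y
      by_cases h : X.com x y
      · rw [Ctx.fn_of h, Ctx.fn_of h, hw]
        simp only [map_ratCast]
        push_cast
        ring
      · have e1 : fn X X.cl w x y = 0 := if_neg h
        have e2 : fn X X.cl (fun k => ((vd k ^ 2 : ℚ) : ℂ)) x y = 0 := if_neg h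
        rw [e1, e2, zero_mul]
    simp only [e]
    rw [sum_fn]
    simp only [vd_3510, vd_693, vd_351, vd_4180, vd_8126, vd_12063, vd_16063, vd_16108, vd_16000, vd_24036, vd_36360, vd_36072, vd_36036]
    norm_num
  · norm_num

end Cfsg.Agent.H30.FiE
end

-- part: H30/FiE/DegF
section
/-!
# Degrees of `Fi24` from the commuting pairs of transpositions (helper30). Generated.
-/

set_option autoImplicit false
set_option maxRecDepth 100000
set_option linter.all false

namespace Cfsg.Agent.H30.FiE

open Cfsg Cfsg.Agent.Lib.PermNet Cfsg.Agent.Lib.PermNetPt Cfsg.Agent.Lib.PermNetOrbit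
open Cfsg.Agent.Fischer.Fi24RepOrb (UG)
open Cfsg.Spor (Fi24)
open Cfsg.Agent.H30.PairFn (Ctx)
open Cfsg.Agent.H30.PairFn.Ctx (Ent Orbs IsFn KInv hf rs fn)
open scoped ComplexConjugate

attribute [local instance] Classical.propDecidable


/-! ### The degree 35873145 -/

/-- the eigenfunction -/
def vf (k : ℕ) : ℚ :=
  if k = 3510 then 1 else
  if k = 693 then -1/390 else
  if k = 351 then 1/3520 else
  if k = 4180 then 1/231 else
  if k = 8126 then -29/27456 else
  if k = 12063 then 1/8580 else
  if k = 16063 then 1/8580 else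
  if k = 16108 then 149/160160 else
  if k = 16000 then 1/3520 else
  if k = 24036 then -7/137280 else
  if k = 36360 then 37/1716 else
  if k = 36072 then -3/40040 else
  if k = 36036 then 1/48048 else
  0
theorem vf_3510 : vf 3510 = 1 := by unfold vf; norm_num only [if_true, if_false]
theorem vf_693 : vf 693 = -1/390 := by unfold vf; norm_num only [if_true, if_false]
theorem vf_351 : vf 351 = 1/3520 := by unfold vf; norm_num only [if_true, if_false]
theorem vf_4180 : vf 4180 = 1/231 := by unfold vf; norm_num only [if_true, if_false]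
theorem vf_8126 : vf 8126 = -29/27456 := by unfold vf; norm_num only [if_true, if_false]
theorem vf_12063 : vf 12063 = 1/8580 := by unfold vf; norm_num only [if_true, if_false]
theorem vf_16063 : vf 16063 = 1/8580 := by unfold vf; norm_num only [if_true, if_false]
theorem vf_16108 : vf 16108 = 149/160160 := by unfold vf; norm_num only [if_true, if_false]
theorem vf_16000 : vf 16000 = 1/3520 := by unfold vf; norm_num only [if_true, if_false]
theorem vf_24036 : vf 24036 = -7/137280 := by unfold vf; norm_num only [if_true, if_false]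
theorem vf_36360 : vf 36360 = 37/1716 := by unfold vf; norm_num only [if_true, if_false]
theorem vf_36072 : vf 36072 = -3/40040 := by unfold vf; norm_num only [if_true, if_false]
theorem vf_36036 : vf 36036 = 1/48048 := by unfold vf; norm_num only [if_true, if_false]

theorem vf_A {k : ℕ} (hk : k ∈ [3510, 693, 351, 4180, 8126, 12063, 16063, 16108, 16000, 24036, 36360, 36072, 36036]) : rowA (fun k => ((vf k : ℚ) : ℂ)) k = (-18) * ((vf k : ℚ) : ℂ) := by
  simp only [List.mem_cons, List.not_mem_nil, or_false] at hk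
  rcases hk with rfl | rfl | rfl | rfl | rfl | rfl | rfl | rfl | rfl | rfl | rfl | rfl | rfl
  · rw [rowA_3510]; simp only [vf_3510, vf_693]; norm_num
  · rw [rowA_693]; simp only [vf_3510, vf_693, vf_351, vf_4180, vf_8126]; norm_num
  · rw [rowA_351]; simp only [vf_693, vf_351, vf_8126, vf_16063]; norm_num
  · rw [rowA_4180]; simp only [vf_693, vf_4180, vf_8126, vf_12063]; norm_num
  · rw [rowA_8126]; simp only [vf_693, vf_351, vf_4180, vf_8126, vf_12063, vf_16063, vf_16108, vf_24036]; norm_num
  · rw [rowA_12063]; simp only [vf_4180, vf_8126, vf_12063, vf_24036, vf_36360, vf_36072, vf_36036]; norm_num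
  · rw [rowA_16063]; simp only [vf_351, vf_8126, vf_16063, vf_16108, vf_16000, vf_24036]; norm_num
  · rw [rowA_16108]; simp only [vf_8126, vf_16063, vf_16108, vf_24036]; norm_num
  · rw [rowA_16000]; simp only [vf_16063, vf_16000, vf_24036]; norm_num
  · rw [rowA_24036]; simp only [vf_8126, vf_12063, vf_16063, vf_16108, vf_16000, vf_24036, vf_36072, vf_36036]; norm_num
  · rw [rowA_36360]; simp only [vf_12063, vf_36360, vf_36072]; norm_num
  · rw [rowA_36072]; simp only [vf_12063, vf_24036, vf_36360, vf_36072, vf_36036]; norm_num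
  · rw [rowA_36036]; simp only [vf_12063, vf_24036, vf_36072, vf_36036]; norm_num

theorem vf_lin {β : ℕ → ℂ} (hA : ∀ k ∈ [3510, 693, 351, 4180, 8126, 12063, 16063, 16108, 16000, 24036, 36360, 36072, 36036], rowA β k = (-18) * β k)
    (hC3510 : 3512 * β 3510 + 56320 * β 351 + 247104 * β 36360 = 8856 * β 3510)
    (hC4180 : 6840 * β 4180 + 9216 * β 8126 + 46080 * β 12063 + 46080 * β 16063 + 163840 * β 36036 + 34560 * β 36072 + 320 * β 36360 = 8856 * β 4180)
    (hC16108 : 10312 * β 16108 + 2 * β 351 + 486 * β 8126 + 122472 * β 24036 + 5832 * β 16063 + 4320 * β 16000 + 5832 * β 12063 + 91800 * β 36036 + 65610 * β 36072 + 270 * β 36360 = 8856 * β 16108)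
    (hC36360 : 6664 * β 36360 + 11520 * β 24036 + 151200 * β 36072 + 89600 * β 36036 + 2 * β 3510 + 3150 * β 4180 + 44800 * β 16108 = 8856 * β 36360)
    {k : ℕ} (hk : k ∈ [3510, 693, 351, 4180, 8126, 12063, 16063, 16108, 16000, 24036, 36360, 36072, 36036]) : β k = β 3510 * ((vf k : ℚ) : ℂ) := by
  have hA3510 := hA 3510 (by simp)
  rw [rowA_3510] at hA3510
  have hA693 := hA 693 (by simp)
  rw [rowA_693] at hA693
  have hA351 := hA 351 (by simp)
  rw [rowA_351] at hA351
  have hA4180 := hA 4180 (by simp)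
  rw [rowA_4180] at hA4180
  have hA8126 := hA 8126 (by simp)
  rw [rowA_8126] at hA8126
  have hA12063 := hA 12063 (by simp)
  rw [rowA_12063] at hA12063
  have hA16063 := hA 16063 (by simp)
  rw [rowA_16063] at hA16063
  have hA16108 := hA 16108 (by simp)
  rw [rowA_16108] at hA16108
  have hA16000 := hA 16000 (by simp)
  rw [rowA_16000] at hA16000
  have hA24036 := hA 24036 (by simp)
  rw [rowA_24036] at hA24036
  have hA36360 := hA 36360 (by simp)
  rw [rowA_36360] at hA36360
  have hA36072 := hA 36072 (by simp)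
  rw [rowA_36072] at hA36072
  have hA36036 := hA 36036 (by simp)
  rw [rowA_36036] at hA36036
  simp only [List.mem_cons, List.not_mem_nil, or_false] at hk
  rcases hk with rfl | rfl | rfl | rfl | rfl | rfl | rfl | rfl | rfl | rfl | rfl | rfl | rfl
  · rw [vf_3510]; norm_num
  · rw [vf_693]; push_cast; linear_combination (1/7020) * hA3510
  · rw [vf_351]; push_cast; linear_combination (-7/337920) * hA3510 + (1/11264) * hA693 + (1/4224) * hA351 + (-9/22528) * hA4180 + (1/1408) * hA8126 + (-1/704) * hA16063 + (1/1056) * hA16000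
  · rw [vf_4180]; push_cast; linear_combination (-132005/157621464) * hA3510 + (1192229/78810732) * hA693 + (-265658/19702683) * hA351 + (-503645/17513496) * hA4180 + (-870014/19702683) * hA8126 + (68/729) * hA12063 + (86012/729729) * hA16063 + (-61304/938223) * hA16000 + (-160/5103) * hA24036 + (47/57316896) * hC3510 + (-29/54432) * hC4180 + (-64/137781) * hC16108
  · rw [vf_8126]; push_cast; linear_combination (30551/160123392) * hA3510 + (-138367/40030848) * hA693 + (15419/5003856) * hA351 + (133019/17791488) * hA4180 + (25411/2501928) * hA8126 + (-119/5184) * hA12063 + (-10225/370656) * hA16063 + (25241/1667952) * hA16000 + (5/648) * hA24036 + (-47/232906752) * hC3510 + (29/221184) * hC4180 + (1/8748) * hC16108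
  · rw [vf_12063]; push_cast; linear_combination (-467569/28822210560) * hA3510 + (851057/2882221056) * hA693 + (-94921/360277632) * hA351 + (-478373/640493568) * hA4180 + (-321283/360277632) * hA8126 + (119/46656) * hA12063 + (17291/6671808) * hA16063 + (-41005/30023136) * hA16000 + (-5/5832) * hA24036 + (47/2096160768) * hC3510 + (-29/1990656) * hC4180 + (-1/78732) * hC16108
  · rw [vf_16063]; push_cast; linear_combination (-466759/28822210560) * hA3510 + (849599/2882221056) * hA693 + (-95083/360277632) * hA351 + (-274739/640493568) * hA4180 + (-663913/360277632) * hA8126 + (119/46656) * hA12063 + (29981/6671808) * hA16063 + (-79075/30023136) * hA16000 + (-5/5832) * hA24036 + (47/2096160768) * hC3510 + (-29/1990656) * hC4180 + (-1/78732) * hC16108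
  · rw [vf_16108]; push_cast; linear_combination (-3701993/6642155520) * hA3510 + (33343157/3321077760) * hA693 + (-3706393/415134720) * hA351 + (-2528519/105431040) * hA4180 + (-2523427/415134720) * hA8126 + (2381/53760) * hA12063 + (343223/7687680) * hA16063 + (-133061/6918912) * hA16000 + (-179/6720) * hA24036 + (4663/26568622080) * hC3510 + (-19/458752) * hC4180 + (-5/18144) * hC16108
  · rw [vf_16000]; push_cast; linear_combination (-1450541/4926873600) * hA3510 + (13049081/2463436800) * hA693 + (-1449709/307929600) * hA351 + (-6664469/547430400) * hA4180 + (-1100431/307929600) * hA8126 + (11609/518400) * hA12063 + (117839/5702400) * hA16063 + (-32573/5132160) * hA16000 + (-1001/64800) * hA24036 + (1039/19707494400) * hC3510 + (13/884736) * hC4180 + (-13/87480) * hC16108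
  · rw [vf_24036]; push_cast; linear_combination (141077/3547348992) * hA3510 + (-82542481/115288842240) * hA693 + (9173669/14411105280) * hA351 + (41360509/25619742720) * hA4180 + (9922151/14411105280) * hA8126 + (-5953/1866240) * hA12063 + (-856939/266872320) * hA16063 + (317281/240185088) * hA16000 + (487/233280) * hA24036 + (-8819/922310737920) * hC3510 + (-1/15925248) * hC4180 + (13/629856) * hC16108
  · rw [vf_36360]; push_cast; linear_combination (7/1482624) * hA3510 + (-5/247104) * hA693 + (-5/92664) * hA351 + (5/54912) * hA4180 + (-5/30888) * hA8126 + (5/15444) * hA16063 + (-5/23166) * hA16000 + (1/247104) * hC3510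
  · rw [vf_36072]; push_cast; linear_combination (-791779/22926758400) * hA3510 + (11187947/18013881600) * hA693 + (-668977/1212472800) * hA351 + (-40148201/28021593600) * hA4180 + (-5892079/15762146400) * hA8126 + (5237/2041200) * hA12063 + (747251/291891600) * hA16063 + (-47365/52540488) * hA16000 + (-89/36450) * hA24036 + (-14249/1008777369600) * hC3510 + (29/17418240) * hC4180 + (1/688905) * hC16108
  · rw [vf_36036]; push_cast; linear_combination (-4164637/896690995200) * hA3510 + (5357791/64049356800) * hA693 + (-4170893/56043187200) * hA351 + (-14114053/99632332800) * hA4180 + (-14929247/56043187200) * hA8126 + (3361/7257600) * hA12063 + (486403/1037836800) * hA16063 + (-317353/934053120) * hA16000 + (23/129600) * hA24036 + (1273/326069452800) * hC3510 + (1/61931520) * hC4180 + (-13/2449440) * hC16108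

theorem vf_C : let w : ℕ → ℂ := fun k => ((vf k : ℚ) : ℂ)
    ∀ c d, X.com c d → X.CC (fn X X.cl w) c d = 8856 * fn X X.cl w c d := by
  intro w
  have hv := orbs.isFn w
  have hk := orbs.kInv w
  have hw : ∀ x y, X.com x y → fn X X.cl w x y = w (X.cl x y) := fun x y h => if_pos h
  set ψ : ℕ → ℕ → ℂ := fun c d => X.CC (fn X X.cl w) c d - 8856 * fn X X.cl w c d with hψ
  have hF : IsFn X ψ := by
    refine ⟨fun c d => ?_, fun c d h => ?_⟩
    · show _ - _ = _ - _
      rw [hv.CC.symm, hv.symm]
    · show _ - _ = (0 : ℂ)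
      rw [hv.CC.zero c d h, hv.zero c d h]; ring
  have hK : X.KInv ψ := by
    intro g hg c d
    show _ - _ = _ - _
    rw [hk.CC g hg, hk g hg]
  have hA0 : ∀ c d, X.com c d → X.A1 (fn X X.cl w) c d = (-18) * fn X X.cl w c d := by
    intro c d h
    rw [A1_val hk hw h, vf_A (cl_mem h), hw c d h]
  have hA : ∀ c d, X.com c d → X.A1 ψ c d = (-18) * ψ c d := by
    intro c d h
    have e : ψ = fun c d => X.CC (fn X X.cl w) c d + (fun c d => (-8856) * fn X X.cl w c d) c d := by
      funext c d; show _ - _ = _ + _; ring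
    rw [e, Ctx.A1_add, Ctx.A1_mul, Ctx.A1_CC, hA0 c d h]
    have e2 : X.CC (X.A1 (fn X X.cl w)) c d = (-18) * X.CC (fn X X.cl w) c d := by
      show ∑ x ∈ X.PT, X.A1 (fn X X.cl w) (X.ρ (X.t x) c) (X.ρ (X.t x) d) = _ * ∑ x ∈ X.PT, _
      rw [Finset.mul_sum]
      exact Finset.sum_congr rfl fun x _ => hA0 _ _ (X.inv _ h)
    rw [e2]
    ring
  obtain ⟨β, hβ⟩ := orbs.exists_beta hF hK
  have z3510 : β 3510 = 0 := by
    have hcd := chkCl_spec cl_02
    rw [← hcd.2, ← hβ _ _ hcd.1]
    show X.CC (fn X X.cl w) 0 136 - 8856 * fn X X.cl w 0 136 = 0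
    rw [CC_0 hv hk hw, hw _ _ hcd.1, hcd.2]
    show 3512 * ((vf 3510 : ℚ) : ℂ) + 56320 * ((vf 351 : ℚ) : ℂ) + 247104 * ((vf 36360 : ℚ) : ℂ) - 8856 * ((vf 3510 : ℚ) : ℂ) = 0
    simp only [vf_351, vf_3510, vf_36360]
    norm_num
  have z4180 : β 4180 = 0 := by
    have hcd := chkCl_spec cl_10
    rw [← hcd.2, ← hβ _ _ hcd.1]
    show X.CC (fn X X.cl w) 1 4 - 8856 * fn X X.cl w 1 4 = 0
    rw [CC_3 hv hk hw, hw _ _ hcd.1, hcd.2]
    show 6840 * ((vf 4180 : ℚ) : ℂ) + 9216 * ((vf 8126 : ℚ) : ℂ) + 46080 * ((vf 12063 : ℚ) : ℂ) + 46080 * ((vf 16063 : ℚ) : ℂ) + 320 * ((vf 36360 : ℚ) : ℂ) + 34560 * ((vf 36072 : ℚ) : ℂ) + 163840 * ((vf 36036 : ℚ) : ℂ) - 8856 * ((vf 4180 : ℚ) : ℂ) = 0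
    simp only [vf_4180, vf_8126, vf_12063, vf_16063, vf_36036, vf_36072, vf_36360]
    norm_num
  have z16108 : β 16108 = 0 := by
    have hcd := chkCl_spec cl_20
    rw [← hcd.2, ← hβ _ _ hcd.1]
    show X.CC (fn X X.cl w) 8 307872 - 8856 * fn X X.cl w 8 307872 = 0
    rw [CC_7 hv hk hw, hw _ _ hcd.1, hcd.2]
    show 2 * ((vf 351 : ℚ) : ℂ) + 486 * ((vf 8126 : ℚ) : ℂ) + 5832 * ((vf 12063 : ℚ) : ℂ) + 5832 * ((vf 16063 : ℚ) : ℂ) + 10312 * ((vf 16108 : ℚ) : ℂ) + 4320 * ((vf 16000 : ℚ) : ℂ) + 122472 * ((vf 24036 : ℚ) : ℂ) + 270 * ((vf 36360 : ℚ) : ℂ) + 65610 * ((vf 36072 : ℚ) : ℂ) + 91800 * ((vf 36036 : ℚ) : ℂ) - 8856 * ((vf 16108 : ℚ) : ℂ) = 0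
    simp only [vf_351, vf_8126, vf_12063, vf_16000, vf_16063, vf_16108, vf_24036, vf_36036, vf_36072, vf_36360]
    norm_num
  have z36360 : β 36360 = 0 := by
    have hcd := chkCl_spec cl_30
    rw [← hcd.2, ← hβ _ _ hcd.1]
    show X.CC (fn X X.cl w) 307496 308352 - 8856 * fn X X.cl w 307496 308352 = 0
    rw [CC_10 hv hk hw, hw _ _ hcd.1, hcd.2]
    show 2 * ((vf 3510 : ℚ) : ℂ) + 3150 * ((vf 4180 : ℚ) : ℂ) + 44800 * ((vf 16108 : ℚ) : ℂ) + 11520 * ((vf 24036 : ℚ) : ℂ) + 6664 * ((vf 36360 : ℚ) : ℂ) + 151200 * ((vf 36072 : ℚ) : ℂ) + 89600 * ((vf 36036 : ℚ) : ℂ) - 8856 * ((vf 36360 : ℚ) : ℂ) = 0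
    simp only [vf_3510, vf_4180, vf_16108, vf_24036, vf_36036, vf_36072, vf_36360]
    norm_num
  intro c d h
  have h1 := zero_lin (fun k hk => eqA hK hβ hA hk) z3510 z4180 z16108 z36360 (cl_mem h)
  rw [← hβ c d h] at h1
  exact sub_eq_zero.1 h1

/-- the degree 35873145 -/
theorem exists_f : ∃ χ : IrrCharacter Fi24, charDegree (χ : Fi24 → ℂ) = 35873145 := by
  have : Finite Fi24 := Cfsg.Agent.R08.FiTwentyFour.finite_Fi24
  set w : ℕ → ℂ := fun k => ((vf k : ℚ) : ℂ) with hw
  have hv := orbs.isFn w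
  have hab := (chkCl_spec cl_02)
  refine Ctx.exists_deg (X := X) (P := True) (τ := (-18)) (ω := 8856) (v := fn X X.cl w) hv ?_ ?_ (fun _ => vf_C) ?_
    (n2 := 9720970056) (s2 := 14904/55) ?_ sum_one ?_
  · show fn X X.cl w 0 136 = 1
    rw [Ctx.fn_of hab.1, hab.2, hw]
    simp only [vf_3510]
    norm_num
  · intro c d h
    rw [A1_val (orbs.kInv w) (fun x y h => if_pos h) h, vf_A (cl_mem h), Ctx.fn_of h]
  · intro ψ hψ hK h1 h2 c d h
    obtain ⟨β, hβ⟩ := orbs.exists_beta hψ hK
    have k0 := h2 trivial _ _ (chkCl_spec cl_02).1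
    have k3 := h2 trivial _ _ (chkCl_spec cl_10).1
    have k7 := h2 trivial _ _ (chkCl_spec cl_20).1
    have k10 := h2 trivial _ _ (chkCl_spec cl_30).1
    rw [CC_0 hψ hK hβ, hβ _ _ (chkCl_spec cl_02).1, (chkCl_spec cl_02).2] at k0
    rw [CC_3 hψ hK hβ, hβ _ _ (chkCl_spec cl_10).1, (chkCl_spec cl_10).2] at k3
    rw [CC_7 hψ hK hβ, hβ _ _ (chkCl_spec cl_20).1, (chkCl_spec cl_20).2] at k7
    rw [CC_10 hψ hK hβ, hβ _ _ (chkCl_spec cl_30).1, (chkCl_spec cl_30).2] at k10
    rw [hβ c d h, vf_lin (fun k hk => eqA hK hβ h1 hk) (by linear_combination k0) (by linear_combination k3)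
      (by linear_combination k7) (by linear_combination k10) (cl_mem h), Ctx.fn_of h]
    show _ = ψ 0 136 * _
    rw [hβ _ _ hab.1, hab.2]
  · have e : ∀ x y, fn X X.cl w x y * conj (fn X X.cl w x y) = fn X X.cl (fun k => ((vf k ^ 2 : ℚ) : ℂ)) x y := by
      intro x y
      by_cases h : X.com x y
      · rw [Ctx.fn_of h, Ctx.fn_of h, hw]
        simp only [map_ratCast]
        push_cast
        ring
      · have e1 : fn X X.cl w x y = 0 := if_neg h
        have e2 : fn X X.cl (fun k => ((vf k ^ 2 : ℚ) : ℂ)) x y = 0 := if_neg h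
        rw [e1, e2, zero_mul]
    simp only [e]
    rw [sum_fn]
    simp only [vf_3510, vf_693, vf_351, vf_4180, vf_8126, vf_12063, vf_16063, vf_16108, vf_16000, vf_24036, vf_36360, vf_36072, vf_36036]
    norm_num
  · norm_num

end Cfsg.Agent.H30.FiE
end

-- part: H30/FiE/Down
section
/-!
# Odd degrees of `Fi24` are degrees of `Fi24'` (helper30)

* `exists_down_d`, `exists_down_e`, `exists_down_f` : the degrees 1264015025, 3208653525, 35873145 of `Fi24'`;
* `hasDZ` : `Fi24'` has a character of defect zero for `p = 5, 7, 13, 17, 23, 29`;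
* `hasDZ_five` : the case `p = 5`, for every group isomorphic to `Fi24'`.
-/

set_option autoImplicit false

namespace Cfsg.Agent.H30.FiE.Down

open Cfsg
open Cfsg.Spor (Fi24)
open Cfsg.Agent.H665.NoPQ (HasDZ)

universe u

theorem exists_down {D : ℕ} (h : ∃ χ : IrrCharacter Fi24, charDegree (χ : Fi24 → ℂ) = D) (hD : ¬ 2 ∣ D) :
    ∃ θ : IrrCharacter Spor.Fi24', charDegree (θ : Spor.Fi24' → ℂ) = D := by
  have hfin : Finite Fi24 := Cfsg.Agent.R08.FiTwentyFour.finite_Fi24
  obtain ⟨χ, hχ⟩ := h
  obtain ⟨c, ⟨θ, hθ⟩, ⟨k, hk⟩, h2⟩ := Cfsg.Agent.H424.DegTools.clifford_down (commutator Fi24)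
    (d := charDegree (χ : Fi24 → ℂ)) ⟨χ, rfl⟩
  rw [Cfsg.Agent.R08.FiTwentyFour.index_commutator] at h2
  rw [hχ] at hk h2
  have hc : 0 < c := by
    rcases Nat.eq_zero_or_pos c with h | h
    · rw [h, zero_mul] at hk
      exact absurd (hk ▸ dvd_zero 2) hD
    · exact h
  rw [hk, Nat.mul_div_cancel_left _ hc] at h2
  refine ⟨θ, ?_⟩
  have h3 : charDegree (θ : Spor.Fi24' → ℂ) = c := hθ
  rw [h3]
  rcases (Nat.dvd_prime Nat.prime_two).1 h2 with rfl | rfl
  · rw [hk, mul_one]
  · exact absurd ⟨c, by rw [hk, mul_comm]⟩ hD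

theorem exists_down_d : ∃ θ : IrrCharacter Spor.Fi24', charDegree (θ : Spor.Fi24' → ℂ) = 1264015025 :=
  exists_down exists_d (by norm_num)

theorem exists_down_e : ∃ θ : IrrCharacter Spor.Fi24', charDegree (θ : Spor.Fi24' → ℂ) = 3208653525 :=
  exists_down exists_e (by norm_num)

theorem exists_down_f : ∃ θ : IrrCharacter Spor.Fi24', charDegree (θ : Spor.Fi24' → ℂ) = 35873145 :=
  exists_down exists_f (by norm_num)

theorem card_eq : Nat.card Spor.Fi24' = 2 ^ 21 * 3 ^ 16 * 5 ^ 2 * 7 ^ 3 * 11 * 13 * 17 * 23 * 29 := by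
  have h : Nat.card Spor.Fi24' = 1255205709190661721292800 := Cfsg.Agent.R08.FiTwentyFour.card_commutator
  rw [h]
  norm_num

theorem hasDZ_of_dvd {G : Type u} [Group G] [Finite G] {p n : ℕ} (hp : p.Prime)
    (h : ∃ χ : IrrCharacter G, p ^ n ∣ charDegree (χ : G → ℂ)) (hn : ¬ p ^ (n + 1) ∣ Nat.card G) : HasDZ p G := by
  obtain ⟨χ, hχ⟩ := h
  refine ⟨χ, le_antisymm ?_ ?_⟩
  · exact (Nat.factorization_le_iff_dvd (Blocks.Basic.charDegree_pos χ.2).ne' Nat.card_pos.ne').2
      (Cfsg.Agent.Blocks.Knorr.charDegree_dvd χ.2) p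
  · have h1 : (Nat.card G).factorization p ≤ n := by
      by_contra hc
      exact hn ((hp.pow_dvd_iff_le_factorization Nat.card_pos.ne').2 (by omega))
    exact h1.trans ((hp.pow_dvd_iff_le_factorization (Blocks.Basic.charDegree_pos χ.2).ne').1 hχ)

theorem hasDZ_congr {G H : Type*} [Group G] [Group H] (e : G ≃* H) {p : ℕ} (h : HasDZ p G) : HasDZ p H := by
  obtain ⟨χ, h⟩ := h
  refine ⟨⟨(χ : G → ℂ) ∘ e.symm, Cfsg.Agent.Characters.Core.isIrr_comp (e.symm : H →* G) e.symm.surjective χ.2⟩, ?_⟩
  rw [← Nat.card_congr e.toEquiv, ← h]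
  congr 1
  rw [Blocks.Basic.charDegree_def, Blocks.Basic.charDegree_def]
  simp

/-- Characters of defect zero of `Fi24'` -/
theorem hasDZ {p : ℕ} (h : p ∈ [5, 7, 13, 17, 23, 29]) : HasDZ p Spor.Fi24' := by
  have hc : Nat.card Spor.Fi24' = 1255205709190661721292800 := Cfsg.Agent.R08.FiTwentyFour.card_commutator
  have hfin : Finite Spor.Fi24' := Nat.finite_of_card_ne_zero (by rw [hc]; norm_num)
  obtain ⟨χ, hχ⟩ := exists_down_d
  simp only [List.mem_cons, List.not_mem_nil, or_false] at h
  rcases h with rfl | rfl | rfl | rfl | rfl | rfl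
  · exact hasDZ_of_dvd (n := 2) (by norm_num) ⟨χ, by rw [hχ]; norm_num⟩ (by rw [hc]; norm_num)
  · exact hasDZ_of_dvd (n := 3) (by norm_num) ⟨χ, by rw [hχ]; norm_num⟩ (by rw [hc]; norm_num)
  · exact hasDZ_of_dvd (n := 1) (by norm_num) ⟨χ, by rw [hχ]; norm_num⟩ (by rw [hc]; norm_num)
  · exact hasDZ_of_dvd (n := 1) (by norm_num) ⟨χ, by rw [hχ]; norm_num⟩ (by rw [hc]; norm_num)
  · exact hasDZ_of_dvd (n := 1) (by norm_num) ⟨χ, by rw [hχ]; norm_num⟩ (by rw [hc]; norm_num)
  · exact hasDZ_of_dvd (n := 1) (by norm_num) ⟨χ, by rw [hχ]; norm_num⟩ (by rw [hc]; norm_num)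

/-- **`Fi24'` has an irreducible character of 5-defect zero.** -/
theorem hasDZ_five {S : Type u} [Group S] (h : Spor.IsoFi24' S) : HasDZ 5 S := by
  obtain ⟨e⟩ := h
  exact hasDZ_congr e.symm (hasDZ (by simp))

end Cfsg.Agent.H30.FiE.Down
end
end
end
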