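import Cfsg.Agent.H30.FiE.Ctx
import Cfsg.Agent.FastGrp
import Cfsg.Agent.Prune
set_option linter.all false
prune_inst 0x7f00000000000000000000000000000000000000000000000000000000000000000000000000000000000000000000000000000000000000000000000000000000000000000000000000000000000000003fffffffffffffffffffffffffffbeffbdffffffff
open scoped Cfsg.Agent.FastGrp

section
set_option autoImplicit false
namespace Cfsg.Agent.PCF.H30Orb

/-- the multiples of `32` below `32 * 2 ^ t` -/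
private noncomputable def msk (t : ℕ) : ℕ :=
  Nat.rec (motive := fun _ => ℕ) 1 (fun i ih => Nat.lor ih (Nat.shiftLeft ih (Nat.shiftLeft 32 i))) t

private theorem tb_msk (t : ℕ) : ∀ p, (msk t).testBit p = true ↔ 32 ∣ p ∧ p < 32 * 2 ^ t := by
  induction t with
  | zero =>
    intro p
    show (2 ^ 0).testBit p = true ↔ _
    rw [Nat.testBit_two_pow, decide_eq_true_eq]
    omega
  | succ t ih =>
    intro p
    show (msk t ||| msk t <<< (32 <<< t)).testBit p = true ↔ _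
    rw [Nat.testBit_or, Nat.testBit_shiftLeft, Bool.or_eq_true, Bool.and_eq_true, decide_eq_true_eq, ih, ih,
      Nat.shiftLeft_eq, pow_succ]
    omega

private theorem bitsum (y n : ℕ) : y % 2 ^ n = ∑ p ∈ Finset.range n, (y.testBit p).toNat * 2 ^ p := by
  induction n with
  | zero => simp [Nat.mod_one]
  | succ n ih => rw [Finset.sum_range_succ, ← ih, Nat.mod_pow_succ, Nat.toNat_testBit, Nat.mul_comm]

private theorem blocks (f : ℕ → ℕ) (m : ℕ) :
    ∑ q ∈ Finset.range (32 * m), f q = ∑ j ∈ Finset.range m, ∑ i ∈ Finset.range 32, f (32 * j + i) := by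
  induction m with
  | zero => rw [Nat.mul_zero, Finset.sum_range_zero, Finset.sum_range_zero]
  | succ m ih => rw [Nat.mul_succ, Finset.sum_range_add, ih, Finset.sum_range_succ _ m]

private theorem lane (t x i : ℕ) : (x >>> i &&& msk t) ≡
    ∑ j ∈ Finset.range (2 ^ t), (x.testBit (32 * j + i)).toNat [MOD 4294967295] := by
  have hm : ∀ p, ¬ (32 ∣ p ∧ p < 32 * 2 ^ t) → (msk t).testBit p = false := fun p h =>
    Bool.eq_false_iff.2 fun h' => h ((tb_msk t p).1 h')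
  have h : x >>> i &&& msk t < 2 ^ (32 * 2 ^ t) := Nat.lt_pow_two_of_testBit _ fun p hp => by
    rw [Nat.testBit_and, hm p (by omega), Bool.and_false]
  rw [← Nat.mod_eq_of_lt h, bitsum, blocks]
  unfold Nat.ModEq
  rw [Finset.sum_nat_mod, Finset.sum_nat_mod _ _ fun j => (x.testBit (32 * j + i)).toNat]
  refine congrArg (· % 4294967295) (Finset.sum_congr rfl fun j hj => ?_)
  rw [Finset.sum_eq_single_of_mem 0 (by simp) fun r hr h0 => by
    rw [Nat.testBit_and, hm _ (by have := Finset.mem_range.1 hr; omega), Bool.and_false]; simp,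
    Nat.testBit_and, (tb_msk t _).2 ⟨by omega, by have := Finset.mem_range.1 hj; omega⟩, Bool.and_true,
    Nat.testBit_shiftRight, Nat.add_zero, Nat.add_comm i, pow_mul, Nat.mul_mod, Nat.pow_mod]
  simp

/-- the number of bits below `32 * 2 ^ t` -/
private noncomputable def pcF (t x : ℕ) : ℕ := Nat.mod (Nat.rec (motive := fun _ => ℕ) 0
  (fun i ih => Nat.add ih (Nat.land (Nat.shiftRight x i) (msk t))) 32) 4294967295

private theorem card_pcF (t x : ℕ) (ht : t ≤ 20) :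
    ((Finset.range (2 ^ (t + 5))).filter (fun p => x.testBit p = true)).card = pcF t x := by
  have h1 : ∀ n, (Nat.rec (motive := fun _ => ℕ) 0 (fun i ih => Nat.add ih (Nat.land (Nat.shiftRight x i) (msk t))) n : ℕ) ≡
      ∑ i ∈ Finset.range n, ∑ j ∈ Finset.range (2 ^ t), (x.testBit (32 * j + i)).toNat [MOD 4294967295] := fun n => by
    induction n with
    | zero => rw [Finset.sum_range_zero]; exact Nat.ModEq.refl 0
    | succ n ih => rw [Finset.sum_range_succ]; exact ih.add (lane t x n)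
  have h2 : ((Finset.range (2 ^ (t + 5))).filter (fun p => x.testBit p = true)).card =
      ∑ i ∈ Finset.range 32, ∑ j ∈ Finset.range (2 ^ t), (x.testBit (32 * j + i)).toNat := by
    rw [Finset.sum_comm, ← blocks (fun q => (x.testBit q).toNat), Finset.card_filter, pow_add, Nat.mul_comm]
    exact Finset.sum_congr rfl fun p _ => by cases x.testBit p <;> rfl
  have h3 := Finset.card_filter_le (Finset.range (2 ^ (t + 5))) (fun p => x.testBit p = true)
  have h4 : 2 ^ (t + 5) ≤ 2 ^ 25 := Nat.pow_le_pow_right (by norm_num) (by omega)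
  rw [Finset.card_range] at h3
  exact ((Nat.mod_eq_of_lt (by omega)).symm.trans (congrArg (· % 4294967295) h2)).trans (h1 32).symm


open Cfsg.Agent.Lib.PermNetOrbit in
private theorem pc_top (k : ℕ) : pc k 0 = 0 ∧ ∀ x, pc k x = pc k (x % 2 ^ 2 ^ k) + 2 * (x >>> 2 ^ k) := by
  induction k with
  | zero => exact ⟨rfl, fun x => by rw [pc_zero, pc_zero, Nat.shiftRight_eq_div_pow]; omega⟩
  | succ k ih =>
    have e : ∀ x, pc (k + 1) x = pc k (x % 2 ^ 2 ^ k) + pc k (x >>> 2 ^ k) := fun x => by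
      rw [pc_succ]
      split
      · next h => rw [h, Nat.zero_mod, Nat.zero_shiftRight, ih.1]
      · rfl
    refine ⟨by rw [pc_succ, if_pos rfl], fun x => ?_⟩
    rw [e, e, ih.2 (x >>> 2 ^ k), pow_succ, Nat.mul_two, ← Nat.shiftRight_add, pow_add,
      Nat.mod_mod_of_dvd _ (Dvd.intro _ rfl), Nat.shiftRight_eq_div_pow (x % _), Nat.mod_mul_right_div_self,
      ← Nat.shiftRight_eq_div_pow, Nat.add_assoc]

/-- the value of `PermNetOrbit.pc (t + 5)` -/
private noncomputable def pcO (t x : ℕ) : ℕ :=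
  Nat.add (pcF t x) (Nat.mul 2 (Nat.shiftRight x (Nat.pow 2 (Nat.add t 5))))

open Cfsg.Agent.Lib.PermNetOrbit in
/-- use : `rw [pcO_eq 19 14 rfl (by norm_num)]` -/
private theorem pcO_eq (k t : ℕ) (hk : k = t + 5) (ht : t ≤ 20) : pc k = pcO t := by
  subst hk
  funext x
  rw [(pc_top _).2, pc_eq _ _ (Nat.mod_lt _ (by positivity))]
  refine congrArg (· + 2 * (x >>> 2 ^ (t + 5))) (Eq.trans ?_ (card_pcF t x ht))
  refine congrArg Finset.card (Finset.filter_congr fun p hp => ?_)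
  rw [Nat.testBit_mod_two_pow, decide_eq_true (Finset.mem_range.1 hp), Bool.true_and]

end Cfsg.Agent.PCF.H30Orb
end

section
set_option autoImplicit false
namespace Cfsg.Agent.H30.FiE
open Cfsg.Agent.Lib.PermNet Cfsg.Agent.Lib.PermNetOrbit Cfsg.Agent.PCF.H30Orb

/-- `peelB` with a given way to count -/
noncomputable def peelFn (f : ℕ → ℕ) (l : List (ℕ × ℕ)) : ℕ → Bool :=
  List.rec (motive := fun _ => ℕ → Bool) (fun m => Nat.beq m 0)
    (fun p _ ih m => seqB (Nat.land m p.1) fun y => and (Nat.beq (f y) p.2) (seqB (Nat.xor m y) ih)) l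

/-- the fast count -/
noncomputable def pcFast19 : ℕ → ℕ := pcO 14

theorem peelB_fast {l : List (ℕ × ℕ)} {m : ℕ} (h : peelFn pcFast19 l m = true) : peelB 19 l m = true := by
  have e : pcFast19 = pc 19 := (pcO_eq 19 14 rfl (by norm_num)).symm
  have e2 : ∀ k l m, peelB k l m = peelFn (pc k) l m := fun k l => by
    induction l with
    | nil => exact fun m => peelB_nil k m
    | cons p l ih =>
      intro m
      rw [peelB_cons, ih]
      show _ = seqB (Nat.land m p.1) fun y => and (Nat.beq (pc k y) p.2) (seqB (Nat.xor m y) (peelFn (pc k) l))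
      rw [seqB_eq, seqB_eq]
      rfl
  rwa [e2, ← e]

private noncomputable def peelRestO (r : ℕ) (l : List (ℕ × ℕ)) : ℕ → Bool :=
  List.rec (motive := fun _ => ℕ → Bool) (fun m => Nat.beq m r)
    (fun p _ ih m => seqB (Nat.land m p.1) fun y => and (Nat.beq (pcFast19 y) p.2) (seqB (Nat.xor m y) ih)) l

/-- the check in two pieces: the first `k` sets take away the part of the mask inside `T` -/
private theorem peel_cutO (k T : ℕ) {l : List (ℕ × ℕ)} {m : ℕ}
    (h1 : peelRestO (Nat.xor m (Nat.land m T)) (l.take k) m = true)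
    (h2 : peelFn pcFast19 (l.drop k) (Nat.xor m (Nat.land m T)) = true) : peelFn pcFast19 l m = true := by
  have h : ∀ (r : ℕ) (l₂ l₁ : List (ℕ × ℕ)) (m : ℕ), peelRestO r l₁ m = true → peelFn pcFast19 l₂ r = true →
      peelFn pcFast19 (l₁ ++ l₂) m = true := fun r l₂ l₁ => by
    induction l₁ with
    | nil => exact fun m h1 h2 => (Nat.eq_of_beq_eq_true h1 : m = r) ▸ h2
    | cons p l ih =>
      intro m h1 h2
      have h3 := (seqB_eq (Nat.land m p.1) fun y => and (Nat.beq (pcFast19 y) p.2)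
        (seqB (Nat.xor m y) (peelRestO r l))).symm.trans h1
      refine (seqB_eq (Nat.land m p.1) fun y => and (Nat.beq (pcFast19 y) p.2)
        (seqB (Nat.xor m y) (peelFn pcFast19 (l ++ l₂)))).trans ?_
      obtain ⟨h4, h5⟩ := Bool.and_eq_true_iff.1 h3
      exact Bool.and_eq_true_iff.2 ⟨h4, (seqB_eq _ _).trans (ih _ ((seqB_eq _ _).symm.trans h5) h2)⟩
  exact List.take_append_drop k l ▸ h _ _ _ _ h1 h2

end Cfsg.Agent.H30.FiE
end


-- part: H30/FiE/Row
section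
/-!
# `Fi24` on the commuting pairs of transpositions: evaluation of the rows (helper30)
-/

set_option autoImplicit false
set_option maxRecDepth 100000

namespace Cfsg.Agent.H30.FiE

open Cfsg Cfsg.Agent.Lib.PermNet Cfsg.Agent.Lib.PermNetPt Cfsg.Agent.Lib.PermNetOrbit
open Cfsg.Agent.Fischer.Fi24RepDef Cfsg.Agent.Fischer.Fi24Rep
open Cfsg.Agent.Fischer.Fi24RepOrb (UG)
open Cfsg.Agent.Fischer.Fi24RepOrbData (UW)
open Cfsg.Spor (Fi24)
open Cfsg.Spor.Fi24 (Gen)
open Cfsg.Agent.KFacts.FiTF.Pts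
open Cfsg.Agent.KFacts.FiTF.FixMask (isPt_tr pn)
open Cfsg.Agent.KFacts.FiTF.Defs (tr)
open Cfsg.Agent.H30.PairFn (Ctx papply_inv pinv_apply)
open Cfsg.Agent.H30.PairFn.Ctx (IsFn KInv Orbs Ent hf rs s5 T cl n4)

attribute [local instance] Classical.propDecidable

/-! ### Words in the stabiliser -/

/-- the word fixes the points of the list -/
noncomputable def fixL (n : List Net) (cs : List ℕ) : Bool :=
  List.rec (motive := fun _ => Bool) true (fun c _ ih => and (chkPt n c c) ih) cs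

/-- the word is in the stabiliser of `{a, b}` and fixes the points of the list -/
noncomputable def inK (cs : List ℕ) (w : List Gen) : Bool :=
  and (or (and (chkPt (nw w false) 0 0) (chkPt (nw w false) 136 136))
    (and (chkPt (nw w false) 0 136) (chkPt (nw w false) 136 0))) (fixL (nw w false) cs)

/-- all the words -/
noncomputable def allK (cs : List ℕ) (ws : List (List Gen)) : Bool :=
  List.rec (motive := fun _ => Bool) true (fun w _ ih => and (inK cs w) ih) ws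

theorem fixL_spec {w : List Gen} {cs : List ℕ} (h : fixL (nw w false) cs = true) : ∀ c ∈ cs, rho (word w) c = c := by
  induction cs with
  | nil => intro c hc; exact absurd hc (by simp)
  | cons d cs ih =>
    have h' : and (chkPt (nw w false) d d) (fixL (nw w false) cs) = true := h
    rw [Bool.and_eq_true] at h'
    intro c hc
    rcases List.mem_cons.1 hc with rfl | hc
    · exact rho_of_chkPt h'.1
    · exact ih h'.2 c hc

/-- the stabiliser -/
noncomputable def St (cs : List ℕ) : Subgroup Fi24 := K ⊓ stabL rho cs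

theorem mem_St {cs : List ℕ} {g : Fi24} : g ∈ St cs ↔ g ∈ K ∧ ∀ c ∈ cs, rho g c = c := Iff.rfl

theorem inK_spec {cs : List ℕ} {w : List Gen} (h : inK cs w = true) : word w ∈ St cs := by
  unfold inK at h
  simp only [Bool.and_eq_true, Bool.or_eq_true] at h
  rw [mem_St]
  refine ⟨?_, fixL_spec h.2⟩
  rw [mem_K]
  rcases h.1 with h1 | h1
  · exact Or.inl ⟨rho_of_chkPt h1.1, rho_of_chkPt h1.2⟩
  · exact Or.inr ⟨rho_of_chkPt h1.1, rho_of_chkPt h1.2⟩

theorem allK_spec {cs : List ℕ} {ws : List (List Gen)} (h : allK cs ws = true) : ∀ w ∈ ws, word w ∈ St cs := by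
  induction ws with
  | nil => intro w hw; exact absurd hw (by simp)
  | cons v ws ih =>
    have h' : and (inK cs v) (allK cs ws) = true := h
    rw [Bool.and_eq_true] at h'
    intro w hw
    rcases List.mem_cons.1 hw with rfl | hw
    · exact inK_spec h'.1
    · exact ih h'.2 w hw

theorem orb_of {cs : List ℕ} {ws : List (List Gen)} (h : allK cs ws = true) {d x : ℕ}
    (hx : (sqp ws d).testBit x = true) : ∃ g ∈ K, (∀ c ∈ cs, rho g c = c) ∧ rho g d = x := by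
  obtain ⟨g, hg, hgx⟩ := sqp_point (allK_spec h) hx
  rw [mem_St] at hg
  exact ⟨g, hg.1, hg.2, hgx⟩

/-! ### Types and invariants -/

/-- the word for `b` -/
def wj : List Gen := [.k, .l, .a, .k, .b, .c, .a, .d, .b, .e, .c, .f, .d, .g, .e, .j, .f, .g]

theorem chk_wj : chkPt (nw wj false) 136 0 = true := by decide +kernel

theorem Mj_spec (x : ℕ) : (M wj).testBit x = true ↔ Com 136 x := M_spec chk_wj x

/-- the type of a point -/
noncomputable def tval (p : ℕ) : ℕ :=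
  Bool.rec (Bool.rec (Bool.rec 3 2 (or (tb UW p) (tb (M wj) p))) 1 (and (tb UW p) (tb (M wj) p))) 0
    (or (Nat.beq p 0) (Nat.beq p 136))

theorem T_eq (p : ℕ) : X.T p = tval p := by
  unfold T tval
  rw [tb_eq, tb_eq]
  have e1 : (UW.testBit p = true) = X.com X.a p := propext (UW_spec p)
  have e2 : ((M wj).testBit p = true) = X.com X.b p := propext (Mj_spec p)
  rw [← e1, ← e2]
  by_cases h0 : p = X.a ∨ p = X.b
  · rw [if_pos h0]
    have : (Nat.beq p 0 || Nat.beq p 136) = true := by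
      rw [Bool.or_eq_true]
      rcases h0 with h | h
      · exact Or.inl (by rw [h]; rfl)
      · exact Or.inr (by rw [h]; rfl)
    rw [this]
  · rw [if_neg h0]
    have : (Nat.beq p 0 || Nat.beq p 136) = false := by
      rw [Bool.eq_false_iff, Ne, Bool.or_eq_true]
      rintro (h | h)
      · exact h0 (Or.inl (Nat.eq_of_beq_eq_true h))
      · exact h0 (Or.inr (Nat.eq_of_beq_eq_true h))
    rw [this]
    cases hA : UW.testBit p <;> cases hB : (M wj).testBit p <;> simp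

theorem lt_of_sub {m : ℕ} (h : ∀ x, m.testBit x = true → UG.testBit x = true) : m < 2 ^ 2 ^ 19 := by
  refine Nat.lt_pow_two_of_testBit _ fun i hi => ?_
  by_contra hc
  rw [Bool.not_eq_false] at hc
  exact absurd (lt_of_bit (h i hc)) (not_lt.2 hi)

/-- the invariant of a pair -/
noncomputable def clval (p q : ℕ) (wp wq : List Gen) : ℕ :=
  Nat.add (pc 19 (Nat.land (Nat.land UW (M wj)) (Nat.land (M wp) (M wq)))) (Nat.mul 4000 (Nat.mul (tval p) (tval q)))

theorem n4_eq {p q : ℕ} {wp wq : List Gen} (hp : chkPt (nw wp false) p 0 = true)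
    (hq : chkPt (nw wq false) q 0 = true) :
    X.n4 p q = pc 19 (Nat.land (Nat.land UW (M wj)) (Nat.land (M wp) (M wq))) := by
  have h1 : ∀ z, (Nat.land (Nat.land UW (M wj)) (Nat.land (M wp) (M wq))).testBit z = true ↔
      (X.com X.a z ∧ X.com X.b z ∧ X.com p z ∧ X.com q z) := by
    intro z
    show ((UW &&& M wj) &&& (M wp &&& M wq)).testBit z = true ↔ _
    rw [Nat.testBit_and, Nat.testBit_and, Nat.testBit_and, Bool.and_eq_true, Bool.and_eq_true, Bool.and_eq_true,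
      UW_spec, Mj_spec, M_spec hp, M_spec hq, and_assoc]
    exact Iff.rfl
  rw [pc_eq 19 _ (lt_of_sub fun x hx => ((h1 x).1 hx).1.2.1)]
  unfold n4
  refine congrArg Finset.card ?_
  ext z
  rw [Finset.mem_filter, mem_bits, h1, mem_PT]
  constructor
  · rintro ⟨h2, h3⟩
    exact ⟨lt_of_bit h2, h3⟩
  · rintro ⟨-, h3⟩
    exact ⟨h3.1.2.1, h3⟩

theorem cl_eq {p q : ℕ} {wp wq : List Gen} (hp : chkPt (nw wp false) p 0 = true)
    (hq : chkPt (nw wq false) q 0 = true) : X.cl p q = clval p q wp wq := by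
  unfold cl clval
  rw [T_eq, T_eq, Nat.add_eq, Nat.mul_eq, Nat.mul_eq, n4_eq hp hq]

/-- check of a related pair -/
noncomputable def chkCl (p q : ℕ) (wp wq : List Gen) (k : ℕ) : Bool :=
  and (chkPt (nw wp false) p 0) (and (chkPt (nw wq false) q 0) (and (Nat.beq (clval p q wp wq) k) (tb (M wp) q)))

theorem chkCl_spec {p q : ℕ} {wp wq : List Gen} {k : ℕ} (h : chkCl p q wp wq k = true) :
    X.com p q ∧ X.cl p q = k := by
  unfold chkCl at h
  simp only [Bool.and_eq_true] at h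
  obtain ⟨h1, h2, h3, h4⟩ := h
  rw [cl_eq h1 h2]
  rw [tb_eq, M_spec h1] at h4
  exact ⟨h4, Nat.eq_of_beq_eq_true h3⟩

/-! ### The rows -/

theorem hf_row {ψ : ℕ → ℕ → ℂ} {β : ℕ → ℂ} (hβ : ∀ x y, X.com x y → ψ x y = β (X.cl x y)) {c d : ℕ}
    {wc wd : List Gen} (hc : chkPt (nw wc false) c 0 = true) (hd : chkPt (nw wd false) d 0 = true)
    (l : List (Ent × ℕ)) (hQ : ∀ p ∈ l, ∀ x, p.1.Q.testBit x = true → X.com c x ∧ X.cl c x = p.1.k)
    (h : peelB 19 (l.map fun p => (p.1.Q, p.2)) (Nat.land (M wc) (M wd)) = true) :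
    X.hf ψ c d = (l.map fun p => (p.2 : ℂ) * β p.1.k).sum := by
  have h1 : ∀ z, (Nat.land (M wc) (M wd)).testBit z = true ↔ X.com c z ∧ X.com d z := by
    intro z
    show (M wc &&& M wd).testBit z = true ↔ _
    rw [Nat.testBit_and, Bool.and_eq_true, M_spec hc, M_spec hd]
    exact Iff.rfl
  unfold hf
  have h2 : X.PT.filter (fun x => X.com c x ∧ X.com d x) = bits (2 ^ 19) (Nat.land (M wc) (M wd)) := by
    ext z
    rw [Finset.mem_filter, mem_bits, h1, mem_PT]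
    constructor
    · rintro ⟨h2, h3⟩
      exact ⟨lt_of_bit h2, h3⟩
    · rintro ⟨-, h3⟩
      exact ⟨h3.1.2.1, h3⟩
  rw [h2]
  refine peel_sum l (q := fun p => p.1.Q) (s := fun p => p.2) (v := fun p => β p.1.k) ?_ ?_ h
  · intro p hp x hx _
    obtain ⟨h3, h4⟩ := hQ p hp x hx
    rw [hβ c x h3, h4]
  · exact lt_of_sub fun x hx => ((h1 x).1 hx).1.2.1

theorem bits_M {c : ℕ} {wc : List Gen} (hc : chkPt (nw wc false) c 0 = true) :
    X.PT.filter (fun x => X.com c x) = bits (2 ^ 19) (M wc) := by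
  ext z
  rw [Finset.mem_filter, mem_bits, M_spec hc, mem_PT]
  constructor
  · rintro ⟨h2, h3⟩
    exact ⟨lt_of_bit h2, h3⟩
  · rintro ⟨-, h3⟩
    exact ⟨h3.2.1, h3⟩

theorem M_row {F : ℕ → ℂ} {β : ℕ → ℂ} {c : ℕ} (hβ : ∀ x, X.com c x → F x = β (X.cl c x))
    {wc : List Gen} (hc : chkPt (nw wc false) c 0 = true)
    (l : List (Ent × ℕ)) (hQ : ∀ p ∈ l, ∀ x, p.1.Q.testBit x = true → X.com c x ∧ X.cl c x = p.1.k)
    (h : peelB 19 (l.map fun p => (p.1.Q, p.2)) (M wc) = true) :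
    ∑ x ∈ X.PT.filter (fun x => X.com c x), F x = (l.map fun p => (p.2 : ℂ) * β p.1.k).sum := by
  rw [bits_M hc]
  refine peel_sum l (q := fun p => p.1.Q) (s := fun p => p.2) (v := fun p => β p.1.k) ?_ ?_ h
  · intro p hp x hx _
    obtain ⟨h3, h4⟩ := hQ p hp x hx
    rw [hβ x h3, h4]
  · exact lt_of_sub fun x hx => ((M_spec hc x).1 hx).2.1

/-- the mask of the points which are not related to `c` and `d` -/
noncomputable def m5 (c d : ℕ) (wc wd : List Gen) : ℕ :=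
  Nat.xor UG (Nat.lor (Nat.lor (M wc) (M wd)) (Nat.lor (Nat.pow 2 c) (Nat.pow 2 d)))

theorem m5_spec {c d : ℕ} {wc wd : List Gen} (hc : chkPt (nw wc false) c 0 = true)
    (hd : chkPt (nw wd false) d 0 = true) (hcd : X.com c d) (z : ℕ) : (m5 c d wc wd).testBit z = true ↔
      UG.testBit z = true ∧ z ≠ c ∧ z ≠ d ∧ ¬ X.com c z ∧ ¬ X.com d z := by
  show (UG ^^^ ((M wc ||| M wd) ||| (2 ^ c ||| 2 ^ d))).testBit z = true ↔ _
  rw [Nat.testBit_xor, Nat.testBit_or, Nat.testBit_or, Nat.testBit_or, Nat.testBit_two_pow, Nat.testBit_two_pow]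
  have e1 : X.com c z ↔ (M wc).testBit z = true := (M_spec hc z).symm
  have e2 : X.com d z ↔ (M wd).testBit z = true := (M_spec hd z).symm
  rw [e1, e2]
  have f1 : (M wc).testBit z = true → UG.testBit z = true := fun h => (e1.2 h).2.1
  have f2 : (M wd).testBit z = true → UG.testBit z = true := fun h => (e2.2 h).2.1
  have f3 : c = z → UG.testBit z = true := fun h => h ▸ hcd.1
  have f4 : d = z → UG.testBit z = true := fun h => h ▸ hcd.2.1
  by_cases hU : UG.testBit z = true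
  · rw [hU, ne_comm, @ne_comm ℕ z d]
    by_cases a1 : (M wc).testBit z = true <;> by_cases a2 : (M wd).testBit z = true <;> by_cases a3 : c = z <;>
      by_cases a4 : d = z <;> simp [a1, a2, a3, a4]
  · have g1 : (M wc).testBit z = false := Bool.eq_false_iff.2 fun h => hU (f1 h)
    have g2 : (M wd).testBit z = false := Bool.eq_false_iff.2 fun h => hU (f2 h)
    have g3 : c ≠ z := fun h => hU (f3 h)
    have g4 : d ≠ z := fun h => hU (f4 h)
    have g5 : UG.testBit z = false := Bool.eq_false_iff.2 hU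
    simp [g1, g2, g3, g4, g5]

/-- an orbit in the generic part of a row: representative, image, words -/
structure SEnt where
  S : ℕ
  k : ℕ

theorem s5_row {ψ : ℕ → ℕ → ℂ} {β : ℕ → ℂ} (hβ : ∀ x y, X.com x y → ψ x y = β (X.cl x y)) {c d : ℕ}
    {wc wd : List Gen} (hc : chkPt (nw wc false) c 0 = true) (hd : chkPt (nw wd false) d 0 = true)
    (hcd : X.com c d) (l : List (SEnt × ℕ)) (hS : ∀ p ∈ l, ∀ y, p.1.S.testBit y = true →
      X.com y (X.ρ (X.t d * X.t c) y) ∧ X.cl y (X.ρ (X.t d * X.t c) y) = p.1.k)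
    (h : peelB 19 (l.map fun p => (p.1.S, p.2)) (m5 c d wc wd) = true) :
    X.s5 ψ c d = (l.map fun p => (p.2 : ℂ) * β p.1.k).sum := by
  have h1 := m5_spec hc hd hcd
  unfold s5
  have h2 : X.PT.filter (fun y => y ≠ c ∧ y ≠ d ∧ ¬ X.com c y ∧ ¬ X.com d y) = bits (2 ^ 19) (m5 c d wc wd) := by
    ext z
    rw [Finset.mem_filter, mem_bits, h1, mem_PT]
    constructor
    · rintro ⟨h2, h3⟩
      exact ⟨lt_of_bit h2, h2, h3⟩
    · rintro ⟨-, h2, h3⟩
      exact ⟨h2, h3⟩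
  rw [h2]
  refine peel_sum l (q := fun p => p.1.S) (s := fun p => p.2) (v := fun p => β p.1.k) ?_ ?_ h
  · intro p hp x hx _
    obtain ⟨h3, h4⟩ := hS p hp x hx
    rw [hβ _ _ h3, h4]
  · exact lt_of_sub fun x hx => ((h1 x).1 hx).1

/-- check of an orbit -/
noncomputable def chkS (c d : ℕ) (tc td : List Gen) (ws : List (List Gen)) (y z : ℕ) (wy wz : List Gen) (k : ℕ) : Bool :=
  and (allK [c, d] ws) (and (chkPt (nw (td ++ tc) false) y z) (chkCl y z wy wz k))

theorem chkS_spec {c d : ℕ} {tc td : List Gen} {ws : List (List Gen)} {y z : ℕ} {wy wz : List Gen} {k : ℕ}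
    (h : chkS c d tc td ws y z wy wz k = true) (hcd : X.com c d) (htc : tp c = word tc) (htd : tp d = word td) :
    ∀ x, (sqp ws y).testBit x = true →
      X.com x (X.ρ (X.t d * X.t c) x) ∧ X.cl x (X.ρ (X.t d * X.t c) x) = k := by
  unfold chkS at h
  rw [Bool.and_eq_true, Bool.and_eq_true] at h
  obtain ⟨h1, h2, h3⟩ := h
  obtain ⟨h4, h5⟩ := chkCl_spec h3
  intro x hx
  obtain ⟨g, hg, hgc, hgx⟩ := orb_of h1 hx
  have e1 : rho (tp d * tp c) y = z := by
    rw [htc, htd, ← Cfsg.Agent.Fischer.Fi24Spider.word_append]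
    exact rho_of_chkPt h2
  have c1 : g * tp c = tp c * g := by
    have h6 := tp_act g hcd.1
    rw [hgc c (by simp)] at h6
    calc g * tp c = (g * tp c * g⁻¹) * g := by group
      _ = tp c * g := by rw [← h6]
  have c2 : g * tp d = tp d * g := by
    have h6 := tp_act g hcd.2.1
    rw [hgc d (by simp)] at h6
    calc g * tp d = (g * tp d * g⁻¹) * g := by group
      _ = tp d * g := by rw [← h6]
  have e2 : X.ρ (X.t d * X.t c) x = X.ρ g z := by
    show rho (tp d * tp c) x = rho g z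
    rw [← hgx, ← e1, ← Equiv.Perm.mul_apply, ← Equiv.Perm.mul_apply, ← map_mul, ← map_mul]
    have : tp d * tp c * g = g * (tp d * tp c) := by
      rw [mul_assoc, ← c1, ← mul_assoc, ← c2, mul_assoc]
    rw [this]
  rw [e2, ← hgx]
  exact ⟨X.inv g h4, (Ctx.cl_inv (X := X) hg y z).trans h5⟩

end Cfsg.Agent.H30.FiE
end

-- part: H30/FiE/Data
section
/-! # `Fi24` on the commuting pairs of transpositions: data (helper30). Generated. -/

set_option autoImplicit false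
set_option maxRecDepth 100000
set_option Elab.async false

namespace Cfsg.Agent.H30.FiE

open Cfsg Cfsg.Agent.Lib.PermNet Cfsg.Agent.Lib.PermNetPt Cfsg.Agent.Lib.PermNetOrbit
open Cfsg.Agent.Fischer.Fi24RepDef Cfsg.Agent.Fischer.Fi24Rep
open Cfsg.Agent.Fischer.Fi24RepOrb (UG)
open Cfsg.Agent.Fischer.Fi24RepOrbData (UW)
open Cfsg.Spor (Fi24)
open Cfsg.Spor.Fi24 (Gen)
open Cfsg.Agent.H30.PairFn.Ctx (Ent)

def g0 : List Gen := [.l, .g, .f, .k, .a, .e, .b, .d, .c, .d, .b, .e, .a, .k, .f, .g, .l, .g, .f, .k, .a, .e, .b, .d, .c, .d, .b, .e, .a, .k, .f, .g, .j, .g, .f, .k, .a, .e, .b, .d, .c, .d, .b, .e, .a, .k, .f, .g]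
def g1 : List Gen := [.b]
def g2 : List Gen := [.c]
def g3 : List Gen := [.a]
def g4 : List Gen := [.d]
def g5 : List Gen := [.h]
def g6 : List Gen := [.e]
def g7 : List Gen := [.i]
def g8 : List Gen := [.f]
def g9 : List Gen := [.g, .b, .f, .j, .e, .g, .d, .f, .c, .e, .h, .d, .h, .e, .c, .f, .d, .g, .e, .j, .f, .b, .g]
def g10 : List Gen := [.h, .d, .h]
def g11 : List Gen := [.e, .f, .e]
def g12 : List Gen := [.c, .e, .h, .d, .h, .e, .c]
def g13 : List Gen := [.e, .h, .d, .h, .e]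
def g14 : List Gen := [.d, .i, .h, .i, .d]
def g15 : List Gen := [.e, .d, .e]
def g16 : List Gen := [.g, .f, .j, .e, .g, .h, .d, .f, .i, .c, .e, .h, .d, .h, .e, .c, .i, .f, .d, .h, .g, .e, .j, .f, .g]
def g17 : List Gen := [.c, .b, .c]
def g18 : List Gen := [.g, .h, .b, .d, .f, .j, .a, .c, .e, .g, .b, .d, .f, .c, .e, .h, .d, .h, .e, .c, .f, .d, .b, .g, .e, .c, .a, .j, .f, .d, .b, .h, .g]
def g19 : List Gen := [.d, .e, .h, .d, .f, .i, .c, .e, .h, .d, .h, .e, .c, .i, .f, .d, .h, .e, .d]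
def g20 : List Gen := [.g, .f, .j, .e, .g, .d, .f, .c, .e, .h, .d, .h, .e, .c, .f, .d, .g, .e, .j, .f, .g]
def g21 : List Gen := [.b, .a, .c, .b, .d, .c, .e, .h, .d, .h, .e, .c, .d, .b, .c, .a, .b]
def g22 : List Gen := [.h, .i, .h]
def g23 : List Gen := [.d, .c, .e, .h, .d, .h, .e, .c, .d]
def g24 : List Gen := [.d, .f, .e, .f, .d]
def g25 : List Gen := [.f, .e, .g, .h, .d, .f, .j, .c, .e, .g, .b, .d, .f, .c, .e, .h, .d, .h, .e, .c, .f, .d, .b, .g, .e, .c, .j, .f, .d, .h, .g, .e, .f]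
def g26 : List Gen := [.c, .e, .d, .e, .c]
def g27 : List Gen := [.d, .f, .c, .e, .g, .b, .d, .f, .j, .e, .g, .h, .d, .f, .i, .c, .e, .h, .d, .h, .e, .c, .i, .f, .d, .h, .g, .e, .j, .f, .d, .b, .g, .e, .c, .f, .d]
def g28 : List Gen := [.d, .c, .h, .b, .d, .i, .c, .e, .h, .d, .h, .e, .c, .i, .d, .b, .h, .c, .d]
def g29 : List Gen := [.f, .e, .g, .h, .d, .f, .j, .c, .e, .g, .b, .d, .f, .i, .c, .e, .h, .d, .h, .e, .c, .i, .f, .d, .b, .g, .e, .c, .j, .f, .d, .h, .g, .e, .f]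
def g30 : List Gen := [.h, .d, .c, .e, .b, .d, .f, .c, .e, .h, .d, .h, .e, .c, .f, .d, .b, .e, .c, .d, .h]
def g31 : List Gen := [.h, .d, .f, .i, .c, .e, .h, .b, .d, .f, .c, .e, .g, .h, .b, .d, .f, .j, .a, .c, .e, .g, .h, .b, .d, .f, .i, .c, .e, .h, .d, .h, .e, .c, .i, .f, .d, .b, .h, .g, .e, .c, .a, .j, .f, .d, .b, .h, .g, .e, .c, .f, .d, .b, .h, .e, .c, .i, .f, .d, .h]
def g32 : List Gen := [.g, .f, .k, .a, .e, .b, .d, .c, .d, .b, .e, .a, .k, .f, .g, .l, .g, .f, .k, .a, .e, .b, .d, .c, .d, .b, .e, .a, .k, .f, .g, .j, .g, .f, .k, .a, .e, .b, .d, .c, .d, .b, .e, .a, .k, .f, .g, .l]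
def g33 : List Gen := [.l]
def g34 : List Gen := [.j]
def g35 : List Gen := [.c, .h, .d, .h, .c]
def g36 : List Gen := [.c, .d, .c]
def g37 : List Gen := [.g, .b, .f, .j, .a, .c, .e, .g, .b, .d, .f, .c, .e, .h, .d, .h, .e, .c, .f, .d, .b, .g, .e, .c, .a, .j, .f, .b, .g]
def g38 : List Gen := [.f, .i, .e, .h, .d, .h, .e, .i, .f]
def g39 : List Gen := [.b, .d, .a, .c, .h, .b, .d, .i, .c, .e, .h, .d, .h, .e, .c, .i, .d, .b, .h, .c, .a, .d, .b]
def g40 : List Gen := [.g, .d, .f, .j, .e, .g, .h, .d, .f, .i, .c, .e, .h, .d, .h, .e, .c, .i, .f, .d, .h, .g, .e, .j, .f, .d, .g]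
def g41 : List Gen := [.b, .a, .c, .b, .d, .f, .c, .e, .h, .d, .h, .e, .c, .f, .d, .b, .c, .a, .b]
def g42 : List Gen := [.e, .d, .i, .h, .i, .d, .e]
def g43 : List Gen := [.f, .e, .g, .d, .f, .j, .e, .g, .h, .d, .f, .i, .c, .e, .h, .d, .h, .e, .c, .i, .f, .d, .h, .g, .e, .j, .f, .d, .g, .e, .f]
def g44 : List Gen := [.f, .c, .e, .g, .d, .f, .j, .e, .g, .h, .d, .f, .i, .c, .e, .h, .d, .h, .e, .c, .i, .f, .d, .h, .g, .e, .j, .f, .d, .g, .e, .c, .f]
def g45 : List Gen := [.b, .d, .i, .c, .e, .h, .d, .h, .e, .c, .i, .d, .b]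
def g46 : List Gen := [.f, .e, .g, .d, .f, .j, .c, .e, .g, .b, .d, .f, .c, .e, .h, .d, .h, .e, .c, .f, .d, .b, .g, .e, .c, .j, .f, .d, .g, .e, .f]
def g47 : List Gen := [.g, .d, .f, .j, .c, .e, .g, .b, .d, .f, .c, .e, .h, .d, .h, .e, .c, .f, .d, .b, .g, .e, .c, .j, .f, .d, .g]

def w0 : List Gen := []
def w1 : List Gen := [.k, .l, .a, .k]
def w4 : List Gen := [.k, .l, .a, .k, .b, .c, .a, .d, .b, .h, .c, .d]
def w8 : List Gen := [.k, .l, .a, .k, .b, .c, .a, .d, .b, .e, .c, .f, .d, .g, .e, .f]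
def w136 : List Gen := [.k, .l, .a, .k, .b, .c, .a, .d, .b, .e, .c, .f, .d, .g, .e, .j, .f, .g]
def w484 : List Gen := [.k, .l, .a, .b, .c, .d, .h, .e, .i, .k, .f, .d, .h, .g, .c, .d, .e, .f]
def w492 : List Gen := [.k, .l, .a, .b, .c, .d, .h, .e, .i, .k, .f, .d, .h, .g, .c, .d, .e, .f, .g]
def w768 : List Gen := [.k, .l, .a, .b, .c, .d, .e, .f, .g, .j, .k]
def w2624 : List Gen := [.k, .l, .a, .k, .b, .c, .d]
def w2640 : List Gen := [.k, .l, .a, .k, .b, .c, .d, .h]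
def w2641 : List Gen := [.k, .l, .a, .k, .b, .c, .d, .h, .a]
def w3232 : List Gen := [.k, .l, .a, .k, .b, .c, .d, .e, .f]
def w3240 : List Gen := [.k, .l, .a, .k, .b, .c, .d, .e, .f, .g]
def w3241 : List Gen := [.k, .l, .a, .k, .b, .c, .d, .e, .f, .g, .a]
def w3256 : List Gen := [.k, .l, .a, .k, .b, .c, .d, .h, .e, .f, .g]
def w3612 : List Gen := [.k, .a, .b, .c, .d, .h, .e, .i, .f, .d, .h, .g, .e, .c, .f, .d, .b, .h, .e, .a, .i, .j, .k, .f, .d, .h, .g]
def w9017 : List Gen := [.k, .l, .a, .b, .c, .d, .h, .e, .f, .d, .g, .e, .c, .j, .k, .f, .d, .h, .g, .a]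
def w33337 : List Gen := [.k, .l, .a, .b, .c, .d, .h, .e, .i, .f, .d, .h, .e, .c, .d, .h, .g, .e, .c, .f, .b, .g, .a]
def w33872 : List Gen := [.k, .a, .b, .c, .d, .h, .e, .i, .f, .d, .h, .e, .c, .d, .h, .g, .e, .c, .i, .f, .d, .b, .g, .l, .a]
def w155969 : List Gen := [.k, .a, .b, .c, .d, .h, .e, .i, .f, .d, .h, .g, .e, .c, .f, .d, .b, .h, .e, .c, .d, .b, .h, .e, .c, .a, .k, .i, .j, .f, .d, .h, .g, .e, .f, .d, .c, .b, .a]
def w155977 : List Gen := [.k, .a, .b, .c, .d, .h, .e, .i, .f, .d, .h, .g, .e, .c, .f, .d, .b, .h, .e, .c, .f, .d, .h, .e, .c, .i, .j, .d, .b, .h, .g, .c, .a, .k, .d, .b, .e, .a, .k, .f]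
def w158657 : List Gen := [.k, .a, .b, .c, .d, .h, .e, .i, .f, .d, .h, .g, .e, .c, .f, .d, .b, .h, .e, .c, .f, .d, .h, .e, .c, .i, .j, .d, .b, .h, .g, .c, .a, .k, .d, .b, .e, .a, .f]
def w158665 : List Gen := [.k, .a, .b, .c, .d, .h, .e, .i, .f, .d, .h, .g, .e, .c, .f, .d, .b, .h, .e, .c, .f, .d, .h, .e, .c, .i, .j, .d, .b, .h, .g, .c, .a, .k, .d, .e, .f, .b, .g, .a]
def w189549 : List Gen := [.k, .l, .a, .b, .c, .d, .h, .e, .i, .f, .d, .h, .e, .c, .d, .h, .g, .e, .c, .i, .b, .a]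
def w189665 : List Gen := [.k, .l, .a, .b, .c, .d, .h, .e, .i, .f, .d, .h, .e, .c, .d, .h, .e, .c, .f, .d, .b, .a]
def w189793 : List Gen := [.k, .l, .a, .b, .c, .d, .h, .e, .i, .f, .d, .h, .e, .c, .d, .h, .g, .e, .c, .i, .f, .b, .a]
def w189809 : List Gen := [.k, .l, .a, .b, .c, .d, .h, .e, .i, .f, .d, .h, .e, .c, .d, .h, .g, .e, .c, .f, .d, .b, .a]
def w227553 : List Gen := [.k, .l, .a, .b, .c, .d, .h, .e, .i, .f, .d, .h, .e, .c, .d, .e, .c, .f, .b, .a]
def w227581 : List Gen := [.k, .l, .a, .b, .c, .d, .h, .e, .i, .f, .d, .h, .e, .c, .d, .h, .e, .c, .i, .d, .b, .h, .g, .a]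
def w228357 : List Gen := [.k, .a, .b, .c, .d, .h, .e, .i, .f, .d, .h, .g, .e, .c, .j, .d, .b, .h, .e, .c, .f, .d, .b, .g, .e, .a, .f]
def w246600 : List Gen := [.k, .a, .b, .c, .d, .h, .e, .i, .f, .d, .g, .c, .b]
def w246617 : List Gen := [.k, .a, .b, .c, .d, .h, .e, .i, .f, .d, .h, .g, .c, .b, .a]
def w246795 : List Gen := [.k, .a, .b, .c, .d, .h, .e, .i, .f, .d, .h, .g, .e, .c, .j, .d, .b, .h, .e, .c, .f, .d, .g, .a]
def w246810 : List Gen := [.k, .a, .b, .c, .d, .h, .e, .i, .f, .d, .h, .g, .e, .c, .j, .d, .b, .h, .e, .c, .f, .d, .h, .g]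
def w266008 : List Gen := [.k, .a, .b, .c, .d, .h, .e, .i, .f, .d, .h, .g]
def w266009 : List Gen := [.k, .a, .b, .c, .d, .h, .e, .i, .f, .d, .h, .e, .c, .d, .h, .g]
def w266040 : List Gen := [.k, .l, .a, .b, .c, .d, .h, .e, .i, .f, .d, .h, .g]
def w266408 : List Gen := [.k, .a, .b, .c, .d, .h, .e, .i, .f, .d, .h, .g, .e, .c, .d, .e, .c, .b, .a, .k, .j, .f, .l, .g]
def w268431 : List Gen := [.k, .a, .b, .c, .d, .h, .e, .i, .f, .d, .h, .g, .e, .f, .d, .e, .c, .d, .b, .h, .e, .c, .a, .i, .j, .f, .d, .b, .g, .e, .c]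
def w296072 : List Gen := [.k, .a, .b, .c, .d, .h, .e, .i, .f, .d, .h, .g, .e, .c, .j, .f, .d, .b, .h, .g, .e, .c, .f, .d, .b, .h, .e, .c, .a, .i, .d, .b, .h, .c, .d, .e, .f]
def w300300 : List Gen := [.k, .a, .b, .c, .d, .h, .e, .i, .f, .d, .h, .g, .e, .c, .j, .d, .b, .h, .e, .c, .f, .d, .b, .g, .e, .a, .k, .f, .g]
def w301836 : List Gen := [.k, .a, .b, .c, .d, .h, .e, .f, .d, .g, .e, .c, .d, .b]
def w301870 : List Gen := [.k, .l, .a, .b, .c, .d, .h, .e, .f, .d, .g, .e, .c, .d, .b, .c]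
def w306433 : List Gen := [.k, .a, .b, .c, .d, .h, .e, .i, .d, .c, .b, .a]
def w306448 : List Gen := [.k, .a, .b, .c, .d, .h, .e, .i, .d, .h, .c, .b]
def w306768 : List Gen := [.k, .a, .b, .c, .d, .h, .e, .i, .d, .h]
def w307464 : List Gen := [.k, .a, .b, .c, .d, .e, .f, .g]
def w307480 : List Gen := [.k, .a, .b, .c, .d, .h, .e, .f, .g]
def w307488 : List Gen := [.k, .l, .a, .b, .c, .d, .e, .f]
def w307496 : List Gen := [.k, .l, .a, .b, .c, .d, .e, .f, .g]
def w307512 : List Gen := [.k, .l, .a, .b, .c, .d, .h, .e, .f, .g]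
def w307840 : List Gen := [.k]
def w307872 : List Gen := [.k, .l]
def w307968 : List Gen := [.k, .a, .b]
def w308257 : List Gen := [.k, .l, .a, .b, .c, .d, .h, .e, .i, .f, .d, .h, .g, .c, .d, .e, .f]
def w308265 : List Gen := [.k, .l, .a, .b, .c, .d, .h, .e, .i, .f, .d, .h, .g, .c, .d, .e, .f, .g]
def w308352 : List Gen := [.k, .a, .b, .c, .d, .e, .f, .g, .j]
def w308368 : List Gen := [.k, .a, .b, .c, .d, .h, .e, .f, .g, .j]
def w308384 : List Gen := [.k, .l, .a, .b, .c, .d, .e, .f, .g, .j]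

def r0 : List (List Gen) := [g0]
def r1 : List (List Gen) := [g1, g2, g3, g4, g5, g6, g1, g2, g7, g8, g4, g2, g5, g6, g9, g2, g3, g4, g5, g6, g1, g2, g7, g10, g11, g2, g5, g6, g1, g3, g4, g2]
def r2 : List (List Gen) := [g8, g6, g4, g5, g2, g7, g1, g3, g4, g6, g2, g5, g8, g4, g12, g6, g1, g2, g3, g5, g8, g7, g13, g5, g6, g2, g9, g2, g3, g7, g5, g4, g6, g2, g5, g8, g1, g3, g0, g5, g2, g4, g2, g5, g1, g9]
def r3 : List (List Gen) := [g5, g14, g6, g2, g4, g11, g12, g6, g1, g3, g2, g7, g10, g5, g6, g2, g1, g2, g3, g7, g10, g11, g6, g2, g5, g4, g6, g2, g5, g9, g2, g3, g7, g5, g4, g6, g5, g2, g1, g2, g3, g8, g15, g2, g6, g7]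
def q00 : List (List Gen) := [g1, g2, g3, g4, g5, g6, g1, g2, g7, g8, g4, g2, g5, g6, g16, g5, g1, g2, g3, g4, g6, g2, g5, g8, g14, g6, g2, g4, g17, g3, g2, g6, g7, g8]
def q01 : List (List Gen) := [g5, g3, g14, g6, g2, g4, g11, g12, g6, g1, g2, g3, g7, g10, g5, g2, g6, g16, g5, g1, g2, g3, g4, g6, g2, g5, g7, g5, g8, g6, g1, g4, g3, g2, g16]
def q02 : List (List Gen) := []
def q10 : List (List Gen) := [g7, g5, g4, g6, g2, g5, g8, g4, g6, g5, g18, g5, g6, g2, g7, g10, g5, g2, g6, g8, g18, g6, g7, g5, g19]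
def q11 : List (List Gen) := [g0]
def q12 : List (List Gen) := [g2, g4, g5, g6, g7, g8, g4, g2, g5, g6, g20, g7, g5, g4, g6, g2, g5, g21, g8, g6, g7, g5, g4, g2, g5, g6, g0, g5, g4, g22, g6, g5, g2, g23]
def q13 : List (List Gen) := [g5, g14, g6, g2, g4, g11, g12, g6, g7, g5, g20, g7, g5, g4, g2, g5, g21, g7, g5, g8, g6, g4, g2, g6, g5, g8, g14, g6, g2, g8, g21, g7, g5, g24]
def q20 : List (List Gen) := [g3, g1, g2, g4, g5, g6, g7, g4, g2, g5, g1, g3, g4, g6, g2, g25, g5, g3, g7, g5, g4, g6, g2, g5, g1, g2, g4, g22, g26, g5, g2, g1, g3]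
def q21 : List (List Gen) := []
def q22 : List (List Gen) := [g1, g2, g3, g4, g5, g6, g1, g2, g7, g4, g5, g2, g27, g3, g5, g6, g1, g2, g3, g4, g5, g2, g6, g28]
def q23 : List (List Gen) := [g5, g14, g6, g2, g4, g12, g1, g3, g2, g5, g7, g10, g5, g6, g1, g2, g7, g4, g5, g2, g25, g5, g3, g7, g5, g4, g6, g2, g5, g1, g2, g4, g3, g2, g29, g5]
def q24 : List (List Gen) := [g5, g3, g14, g6, g2, g4, g12, g1, g2, g7, g3, g5, g4, g6, g5, g29, g5, g3, g7, g5, g4, g6, g5, g2, g4, g5]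
def q25 : List (List Gen) := [g5, g6, g2, g3, g7, g5, g4, g5, g6, g2, g1, g3, g2, g4, g6, g2, g25]
def q30 : List (List Gen) := []
def q31 : List (List Gen) := [g3, g1, g2, g4, g6, g30, g3, g7, g1, g2, g8, g20, g1, g3, g2, g7, g4, g6, g17, g2, g8, g30, g3, g31, g6, g3, g32, g7, g1, g2, g4]
def q32 : List (List Gen) := [g1, g2, g3, g4, g6, g1, g2, g8, g20, g7, g1, g2, g4, g6, g31, g6, g3, g2, g31]
def q33 : List (List Gen) := [g7, g4, g6, g2, g8, g1, g3, g4, g2, g6, g20, g1, g2, g3, g7, g4, g6, g17, g2, g8, g30, g3, g7, g4, g1, g2, g20, g1]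
def q34 : List (List Gen) := [g6, g2, g4, g6, g2, g8, g1, g3, g2, g6, g4, g17, g6, g2, g20, g7, g1, g3, g2, g4, g6, g1, g2, g8, g30, g3, g7, g1, g2, g4, g6, g20, g17, g2]
def s0_0 : List (List Gen) := [g5, g33, g34, g14, g6, g2, g4, g11, g12, g6, g1, g3, g2, g7, g10, g5, g2, g6, g1, g3, g7, g35, g2, g6, g5, g8, g20, g7, g5, g1, g2, g3, g4, g6, g2, g5, g1, g8, g3, g36, g6, g2, g7]
def s3_0 : List (List Gen) := [g5, g6, g3, g8, g14, g2, g6, g20, g14, g6, g2, g23, g8, g21, g8, g6, g14, g6, g2, g21, g8, g14]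
def s3_1 : List (List Gen) := [g5, g3, g34, g14, g6, g2, g8, g23, g8, g6, g14, g2, g6, g37, g14, g6, g2, g8, g21, g8, g6, g14, g6, g2, g21, g8, g14]
def s3_2 : List (List Gen) := [g5, g33, g3, g8, g6, g23, g38, g2, g8, g20, g14, g6, g2, g8, g21, g8, g6, g14, g6, g2, g8, g37, g14, g6, g2, g8, g14, g6, g23]
def s3_3 : List (List Gen) := [g5, g33, g6, g3, g34, g8, g14, g2, g6, g23, g8, g6, g20, g14, g2, g37, g14, g6, g2, g8, g39, g6, g2, g8, g6, g14, g2, g6, g8, g40, g6]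
def s3_4 : List (List Gen) := [g5, g33, g2, g34, g8, g6, g14, g6, g2, g8, g20, g14, g6, g21, g8, g6, g14, g6, g2, g8, g20, g14, g6, g2, g41, g6, g14, g6, g2, g37]
def s3_5 : List (List Gen) := [g5, g33, g6, g3, g8, g14, g2, g6, g39, g6, g8, g42, g6, g2]
def s7_0 : List (List Gen) := [g5, g14, g6, g2, g4, g12, g1, g2, g7, g5, g4, g6, g5, g43, g2, g1, g2, g4, g5, g6, g2, g7, g4, g5, g2, g1, g4, g2]
def s7_1 : List (List Gen) := [g5, g14, g6, g2, g4, g12, g1, g2, g7, g5, g4, g6, g5, g43, g2, g1, g2, g4, g5, g6, g2, g7, g4, g5, g2, g1, g4, g2]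
def s7_2 : List (List Gen) := [g5, g14, g6, g2, g4, g12, g1, g2, g7, g5, g4, g6, g5, g43, g2, g1, g2, g4, g5, g6, g2, g7, g4, g5, g2, g1, g4, g2]
def s7_3 : List (List Gen) := [g5, g14, g6, g2, g4, g12, g1, g2, g7, g5, g4, g6, g5, g43, g2, g1, g2, g4, g5, g6, g2, g7, g4, g5, g2, g1, g4, g2]
def s7_4 : List (List Gen) := [g4, g5, g6, g2, g1, g2, g4, g5, g6, g2, g7, g5, g4, g12, g1, g2, g6, g7, g10, g5, g6, g2, g43, g2, g1, g2, g4, g5, g6, g2, g7, g5, g4]
def s7_5 : List (List Gen) := [g4, g5, g6, g2, g1, g2, g4, g5, g6, g2, g7, g5, g4, g12, g1, g2, g6, g7, g10, g5, g6, g2, g43, g2, g1, g2, g4, g5, g6, g2, g7, g5, g4]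
def s7_6 : List (List Gen) := [g5, g2, g4, g6, g5, g2, g7, g5, g1, g2, g4, g5, g2, g6, g43, g2, g1, g2, g4, g5, g6, g2, g7, g4, g5, g2, g43, g2, g4, g2]
def s7_7 : List (List Gen) := [g6, g2, g7, g5, g4, g5, g6, g2, g1, g2, g14, g2, g6, g43, g2, g1, g2, g4, g5, g6, g2, g7, g10, g5, g2, g43, g2, g4, g2]
def s7_8 : List (List Gen) := [g6, g2, g7, g5, g4, g5, g6, g2, g1, g2, g4, g22, g2, g5, g6, g4, g5, g6, g17, g2, g7, g4, g2, g5, g6, g43, g2, g1, g2, g4, g5, g6, g2, g7, g10, g2, g5, g1, g44]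
def s7_9 : List (List Gen) := [g5, g6, g2, g4, g5, g6, g2, g7, g5, g1, g2, g4, g5, g2, g6, g45, g5, g2, g7, g1, g43, g2, g1, g2, g4, g5, g6, g2, g7, g4, g2, g1, g5, g46]
def s7_10 : List (List Gen) := [g5, g2, g7, g5, g4, g5, g6, g2, g1, g2, g4, g5, g6, g2, g7, g5, g4, g17, g5, g2, g6, g43, g2, g1, g2, g4, g12]
def s7_11 : List (List Gen) := [g5, g6, g2, g4, g5, g6, g2, g7, g5, g1, g2, g4, g6, g5, g2, g45, g35]
def s7_12 : List (List Gen) := [g5, g6, g2, g4, g5, g6, g2, g7, g5, g1, g2, g4, g6, g5, g2, g45, g35]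
def s10_0 : List (List Gen) := []
def s10_1 : List (List Gen) := []
def s10_2 : List (List Gen) := [g6, g3, g7, g24, g2, g8, g1, g2, g20, g1, g2, g3, g7, g4, g6, g17, g2, g8, g30, g3, g7, g4, g6, g1, g20, g1]
def s10_3 : List (List Gen) := []
def s10_4 : List (List Gen) := []
def s10_5 : List (List Gen) := [g7, g4, g6, g2, g8, g1, g3, g4, g2, g6, g20, g1, g2, g3, g7, g4, g6, g17, g2, g8, g30, g3, g7, g4, g1, g2, g20, g1]
def s10_6 : List (List Gen) := [g2, g8, g6, g4, g6, g17, g3, g2, g8, g4, g2, g1, g6, g2, g20, g7, g1, g2, g3, g4, g6, g1, g2, g30, g3, g7, g8, g1, g2, g4, g6, g2, g20, g1, g2]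
def s10_7 : List (List Gen) := [g2, g8, g6, g4, g6, g17, g3, g2, g8, g4, g2, g1, g6, g2, g20, g7, g1, g2, g3, g4, g6, g1, g2, g30, g3, g7, g8, g1, g2, g4, g6, g2, g20, g1, g2]
def s10_8 : List (List Gen) := [g6, g2, g4, g6, g2, g8, g1, g3, g2, g6, g4, g17, g6, g2, g20, g7, g1, g3, g2, g4, g6, g1, g2, g8, g30, g3, g7, g1, g2, g4, g6, g20, g17, g2]
def s10_9 : List (List Gen) := [g6, g2, g4, g6, g2, g8, g1, g3, g2, g6, g4, g17, g6, g2, g20, g7, g1, g3, g2, g4, g6, g1, g2, g8, g30, g3, g7, g1, g2, g4, g6, g20, g17, g2]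
def s10_10 : List (List Gen) := [g6, g2, g7, g8, g6, g1, g2, g3, g4, g6, g2, g1, g2, g3, g24, g2, g20, g7, g1, g2, g3, g4, g6, g1, g2, g8, g30, g3, g7, g1, g2, g47, g6, g3, g7, g4, g6]

noncomputable def R0 : ℕ := sqp r0 0
noncomputable def R1 : ℕ := sqp r1 1
noncomputable def R2 : ℕ := sqp r2 8
noncomputable def R3 : ℕ := sqp r3 307496
noncomputable def Q00 : ℕ := sqp q00 1
noncomputable def Q01 : ℕ := sqp q01 3240
noncomputable def Q02 : ℕ := sqp q02 136
noncomputable def Q10 : ℕ := sqp q10 4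
noncomputable def Q11 : ℕ := sqp q11 0
noncomputable def Q12 : ℕ := sqp q12 307968
noncomputable def Q13 : ℕ := sqp q13 307464
noncomputable def Q20 : ℕ := sqp q20 307872
noncomputable def Q21 : ℕ := sqp q21 0
noncomputable def Q22 : ℕ := sqp q22 1
noncomputable def Q23 : ℕ := sqp q23 308352
noncomputable def Q24 : ℕ := sqp q24 768
noncomputable def Q25 : ℕ := sqp q25 296072
noncomputable def Q30 : ℕ := sqp q30 308352
noncomputable def Q31 : ℕ := sqp q31 307840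
noncomputable def Q32 : ℕ := sqp q32 1
noncomputable def Q33 : ℕ := sqp q33 307480
noncomputable def Q34 : ℕ := sqp q34 266040
noncomputable def e00 : Ent := ⟨Q00, 1, 693, 1⟩
noncomputable def e01 : Ent := ⟨Q01, 3240, 351, 2⟩
noncomputable def e02 : Ent := ⟨Q02, 136, 3510, 0⟩
noncomputable def e10 : Ent := ⟨Q10, 4, 4180, 1⟩
noncomputable def e11 : Ent := ⟨Q11, 0, 693, 0⟩
noncomputable def e12 : Ent := ⟨Q12, 307968, 8126, 2⟩
noncomputable def e13 : Ent := ⟨Q13, 307464, 12063, 3⟩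
noncomputable def e20 : Ent := ⟨Q20, 307872, 16108, 2⟩
noncomputable def e21 : Ent := ⟨Q21, 0, 351, 0⟩
noncomputable def e22 : Ent := ⟨Q22, 1, 8126, 1⟩
noncomputable def e23 : Ent := ⟨Q23, 308352, 24036, 3⟩
noncomputable def e24 : Ent := ⟨Q24, 768, 16063, 2⟩
noncomputable def e25 : Ent := ⟨Q25, 296072, 16000, 2⟩
noncomputable def e30 : Ent := ⟨Q30, 308352, 36360, 3⟩
noncomputable def e31 : Ent := ⟨Q31, 307840, 24036, 2⟩
noncomputable def e32 : Ent := ⟨Q32, 1, 12063, 1⟩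
noncomputable def e33 : Ent := ⟨Q33, 307480, 36072, 3⟩
noncomputable def e34 : Ent := ⟨Q34, 266040, 36036, 3⟩
noncomputable def S0_0 : SEnt := ⟨sqp s0_0 307496, 36360⟩
noncomputable def S3_0 : SEnt := ⟨sqp s3_0 2641, 4180⟩
noncomputable def S3_1 : SEnt := ⟨sqp s3_1 3256, 16063⟩
noncomputable def S3_2 : SEnt := ⟨sqp s3_2 306448, 16063⟩
noncomputable def S3_3 : SEnt := ⟨sqp s3_3 246617, 36036⟩
noncomputable def S3_4 : SEnt := ⟨sqp s3_4 301870, 36072⟩
noncomputable def S3_5 : SEnt := ⟨sqp s3_5 246795, 36360⟩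
noncomputable def S7_0 : SEnt := ⟨sqp s7_0 3240, 16108⟩
noncomputable def S7_1 : SEnt := ⟨sqp s7_1 3232, 12063⟩
noncomputable def S7_2 : SEnt := ⟨sqp s7_2 307488, 16108⟩
noncomputable def S7_3 : SEnt := ⟨sqp s7_3 307496, 12063⟩
noncomputable def S7_4 : SEnt := ⟨sqp s7_4 308257, 24036⟩
noncomputable def S7_5 : SEnt := ⟨sqp s7_5 484, 24036⟩
noncomputable def S7_6 : SEnt := ⟨sqp s7_6 227553, 24036⟩
noncomputable def S7_7 : SEnt := ⟨sqp s7_7 189549, 24036⟩
noncomputable def S7_8 : SEnt := ⟨sqp s7_8 189809, 36036⟩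
noncomputable def S7_9 : SEnt := ⟨sqp s7_9 33872, 36072⟩
noncomputable def S7_10 : SEnt := ⟨sqp s7_10 300300, 36036⟩
noncomputable def S7_11 : SEnt := ⟨sqp s7_11 155969, 36360⟩
noncomputable def S7_12 : SEnt := ⟨sqp s7_12 158665, 36036⟩
noncomputable def S10_0 : SEnt := ⟨sqp s10_0 0, 3510⟩
noncomputable def S10_1 : SEnt := ⟨sqp s10_1 136, 3510⟩
noncomputable def S10_2 : SEnt := ⟨sqp s10_2 9017, 4180⟩
noncomputable def S10_3 : SEnt := ⟨sqp s10_3 308384, 36360⟩
noncomputable def S10_4 : SEnt := ⟨sqp s10_4 307464, 36360⟩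
noncomputable def S10_5 : SEnt := ⟨sqp s10_5 307512, 36360⟩
noncomputable def S10_6 : SEnt := ⟨sqp s10_6 3612, 16108⟩
noncomputable def S10_7 : SEnt := ⟨sqp s10_7 306768, 16108⟩
noncomputable def S10_8 : SEnt := ⟨sqp s10_8 266408, 36036⟩
noncomputable def S10_9 : SEnt := ⟨sqp s10_9 266008, 36036⟩
noncomputable def S10_10 : SEnt := ⟨sqp s10_10 268431, 36072⟩

/-- the representatives of the points -/
def cp : ℕ → ℕ
  | 0 => 0
  | 1 => 1
  | 2 => 8
  | _ => 307496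

/-- the orbits -/
noncomputable def ent : ℕ → List Ent
  | 0 => [e00, e01, e02]
  | 1 => [e10, e11, e12, e13]
  | 2 => [e20, e21, e22, e23, e24, e25]
  | 3 => [e30, e31, e32, e33, e34]
  | _ => []

end Cfsg.Agent.H30.FiE
end

-- part: H30/FiE/ChkA
section
/-! # `Fi24` on the commuting pairs of transpositions: kernel checks (helper30). Generated. -/

set_option autoImplicit false
set_option maxRecDepth 100000
set_option Elab.async false

namespace Cfsg.Agent.H30.FiE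

open Cfsg Cfsg.Agent.Lib.PermNet Cfsg.Agent.Lib.PermNetPt Cfsg.Agent.Lib.PermNetOrbit
open Cfsg.Agent.Fischer.Fi24RepDef Cfsg.Agent.Fischer.Fi24Rep
open Cfsg.Agent.Fischer.Fi24RepOrb (UG)
open Cfsg.Agent.Fischer.Fi24RepOrbData (UW)
open Cfsg.Spor (Fi24)
open Cfsg.Spor.Fi24 (Gen)
open Cfsg.Agent.H30.PairFn.Ctx (Ent)

theorem chkw_0 : chkPt (nw w0 false) 0 0 = true := by decide +kernel
theorem tyc_0 : tval 0 = 0 := by decide +kernel
theorem memR_0 : allK [] r0 = true := by decide +kernel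
theorem chkw_1 : chkPt (nw w1 false) 1 0 = true := by decide +kernel
theorem tyc_1 : tval 1 = 1 := by decide +kernel
theorem memR_1 : allK [] r1 = true := by decide +kernel
theorem chkw_2 : chkPt (nw w8 false) 8 0 = true := by decide +kernel
theorem tyc_2 : tval 8 = 2 := by decide +kernel
theorem memR_2 : allK [] r2 = true := by decide +kernel
theorem chkw_3 : chkPt (nw w307496 false) 307496 0 = true := by decide +kernel
theorem tyc_3 : tval 307496 = 3 := by decide +kernel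
theorem memR_3 : allK [] r3 = true := by decide +kernel
theorem mem_00 : allK [0] q00 = true := by decide +kernel
theorem cl_00 : chkCl 0 1 w0 w1 693 = true := by decide +kernel
theorem ty_00 : tval 1 = 1 := by decide +kernel
theorem mem_01 : allK [0] q01 = true := by decide +kernel
theorem cl_01 : chkCl 0 3240 w0 w3240 351 = true := by decide +kernel
theorem ty_01 : tval 3240 = 2 := by decide +kernel
theorem chkd_01 : chkPt (nw w3240 false) 3240 0 = true := by decide +kernel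
theorem mem_02 : allK [0] q02 = true := by decide +kernel
theorem cl_02 : chkCl 0 136 w0 w136 3510 = true := by decide +kernel
theorem ty_02 : tval 136 = 0 := by decide +kernel
theorem chkd_02 : chkPt (nw w136 false) 136 0 = true := by decide +kernel
theorem mem_10 : allK [1] q10 = true := by decide +kernel
theorem cl_10 : chkCl 1 4 w1 w4 4180 = true := by decide +kernel
theorem ty_10 : tval 4 = 1 := by decide +kernel
theorem chkd_10 : chkPt (nw w4 false) 4 0 = true := by decide +kernel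
theorem mem_11 : allK [1] q11 = true := by decide +kernel
theorem cl_11 : chkCl 1 0 w1 w0 693 = true := by decide +kernel
theorem ty_11 : tval 0 = 0 := by decide +kernel
theorem mem_12 : allK [1] q12 = true := by decide +kernel
theorem cl_12 : chkCl 1 307968 w1 w307968 8126 = true := by decide +kernel
theorem ty_12 : tval 307968 = 2 := by decide +kernel
theorem chkd_12 : chkPt (nw w307968 false) 307968 0 = true := by decide +kernel
theorem mem_13 : allK [1] q13 = true := by decide +kernel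
theorem cl_13 : chkCl 1 307464 w1 w307464 12063 = true := by decide +kernel
theorem ty_13 : tval 307464 = 3 := by decide +kernel
theorem chkd_13 : chkPt (nw w307464 false) 307464 0 = true := by decide +kernel
theorem mem_20 : allK [8] q20 = true := by decide +kernel
theorem cl_20 : chkCl 8 307872 w8 w307872 16108 = true := by decide +kernel
theorem ty_20 : tval 307872 = 2 := by decide +kernel
theorem chkd_20 : chkPt (nw w307872 false) 307872 0 = true := by decide +kernel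
theorem mem_21 : allK [8] q21 = true := by decide +kernel
theorem cl_21 : chkCl 8 0 w8 w0 351 = true := by decide +kernel
theorem ty_21 : tval 0 = 0 := by decide +kernel
theorem mem_22 : allK [8] q22 = true := by decide +kernel
theorem cl_22 : chkCl 8 1 w8 w1 8126 = true := by decide +kernel
theorem ty_22 : tval 1 = 1 := by decide +kernel
theorem mem_23 : allK [8] q23 = true := by decide +kernel
theorem cl_23 : chkCl 8 308352 w8 w308352 24036 = true := by decide +kernel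
theorem ty_23 : tval 308352 = 3 := by decide +kernel
theorem chkd_23 : chkPt (nw w308352 false) 308352 0 = true := by decide +kernel
theorem mem_24 : allK [8] q24 = true := by decide +kernel
theorem cl_24 : chkCl 8 768 w8 w768 16063 = true := by decide +kernel
theorem ty_24 : tval 768 = 2 := by decide +kernel
theorem chkd_24 : chkPt (nw w768 false) 768 0 = true := by decide +kernel
theorem mem_25 : allK [8] q25 = true := by decide +kernel
theorem cl_25 : chkCl 8 296072 w8 w296072 16000 = true := by decide +kernel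
theorem ty_25 : tval 296072 = 2 := by decide +kernel
theorem chkd_25 : chkPt (nw w296072 false) 296072 0 = true := by decide +kernel
theorem mem_30 : allK [307496] q30 = true := by decide +kernel
theorem cl_30 : chkCl 307496 308352 w307496 w308352 36360 = true := by decide +kernel
theorem ty_30 : tval 308352 = 3 := by decide +kernel
theorem chkd_30 : chkPt (nw w308352 false) 308352 0 = true := by decide +kernel
theorem mem_31 : allK [307496] q31 = true := by decide +kernel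
theorem cl_31 : chkCl 307496 307840 w307496 w307840 24036 = true := by decide +kernel
theorem ty_31 : tval 307840 = 2 := by decide +kernel
theorem chkd_31 : chkPt (nw w307840 false) 307840 0 = true := by decide +kernel
theorem mem_32 : allK [307496] q32 = true := by decide +kernel
theorem cl_32 : chkCl 307496 1 w307496 w1 12063 = true := by decide +kernel
theorem ty_32 : tval 1 = 1 := by decide +kernel
theorem mem_33 : allK [307496] q33 = true := by decide +kernel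
theorem cl_33 : chkCl 307496 307480 w307496 w307480 36072 = true := by decide +kernel
theorem ty_33 : tval 307480 = 3 := by decide +kernel
theorem chkd_33 : chkPt (nw w307480 false) 307480 0 = true := by decide +kernel
theorem mem_34 : allK [307496] q34 = true := by decide +kernel
theorem cl_34 : chkCl 307496 266040 w307496 w266040 36036 = true := by decide +kernel
theorem ty_34 : tval 266040 = 3 := by decide +kernel
theorem chkd_34 : chkPt (nw w266040 false) 266040 0 = true := by decide +kernel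
theorem rep_all : peelB 19 (([(R0, 2), (R1, 3510), (R2, 56320), (R3, 247104)] : List (ℕ × ℕ)).map fun p => (p.1, p.2)) UG = true := peelB_fast (by decide +kernel)

end Cfsg.Agent.H30.FiE
end

-- part: H30/FiE/ChkB
section
/-! # `Fi24` on the commuting pairs of transpositions: kernel checks (helper30). Generated. -/

set_option autoImplicit false
set_option maxRecDepth 100000
set_option Elab.async false

namespace Cfsg.Agent.H30.FiE

open Cfsg Cfsg.Agent.Lib.PermNet Cfsg.Agent.Lib.PermNetPt Cfsg.Agent.Lib.PermNetOrbit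
open Cfsg.Agent.Fischer.Fi24RepDef Cfsg.Agent.Fischer.Fi24Rep
open Cfsg.Agent.Fischer.Fi24RepOrb (UG)
open Cfsg.Agent.Fischer.Fi24RepOrbData (UW)
open Cfsg.Spor (Fi24)
open Cfsg.Spor.Fi24 (Gen)
open Cfsg.Agent.H30.PairFn.Ctx (Ent)

theorem rs_0 : peelB 19 (([(e00, 3510), (e01, 28160), (e02, 1)] : List (Ent × ℕ)).map fun p => (p.1.Q, p.2)) (M w0) = true := peelB_fast (by decide +kernel)
theorem hf_00 : peelB 19 (([(e00, 693), (e01, 2816), (e02, 1)] : List (Ent × ℕ)).map fun p => (p.1.Q, p.2)) (Nat.land (M w0) (M w1)) = true := peelB_fast (by decide +kernel)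
theorem hf_01 : peelB 19 (([(e00, 351), (e01, 3159)] : List (Ent × ℕ)).map fun p => (p.1.Q, p.2)) (Nat.land (M w0) (M w3240)) = true := peelB_fast (by decide +kernel)
theorem hf_02 : peelB 19 (([(e00, 3510)] : List (Ent × ℕ)).map fun p => (p.1.Q, p.2)) (Nat.land (M w0) (M w136)) = true := peelB_fast (by decide +kernel)
theorem rs_1 : peelB 19 (([(e10, 693), (e11, 2), (e12, 5632), (e13, 25344)] : List (Ent × ℕ)).map fun p => (p.1.Q, p.2)) (M w1) = true := peelB_fast (by decide +kernel)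
theorem hf_10 : peelB 19 (([(e10, 180), (e11, 2), (e12, 1024), (e13, 2304)] : List (Ent × ℕ)).map fun p => (p.1.Q, p.2)) (Nat.land (M w1) (M w4)) = true := peelB_fast (by decide +kernel)
theorem hf_11 : peelB 19 (([(e10, 693), (e11, 1), (e12, 2816)] : List (Ent × ℕ)).map fun p => (p.1.Q, p.2)) (Nat.land (M w1) (M w0)) = true := peelB_fast (by decide +kernel)
theorem hf_12 : peelB 19 (([(e10, 126), (e11, 1), (e12, 791), (e13, 2592)] : List (Ent × ℕ)).map fun p => (p.1.Q, p.2)) (Nat.land (M w1) (M w307968)) = true := peelB_fast (by decide +kernel)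
theorem hf_13 : peelB 19 (([(e10, 63), (e12, 576), (e13, 2871)] : List (Ent × ℕ)).map fun p => (p.1.Q, p.2)) (Nat.land (M w1) (M w307464)) = true := peelB_fast (by decide +kernel)
theorem rs_2 : peelB 19 (([(e20, 728), (e21, 1), (e22, 351), (e23, 25272), (e24, 3159), (e25, 2160)] : List (Ent × ℕ)).map fun p => (p.1.Q, p.2)) (M w8) = true := peelB_fast (by decide +kernel)
theorem hf_20 : peelB 19 (([(e20, 243), (e22, 108), (e23, 2916), (e24, 243)] : List (Ent × ℕ)).map fun p => (p.1.Q, p.2)) (Nat.land (M w8) (M w307872)) = true := peelB_fast (by decide +kernel)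
theorem hf_21 : peelB 19 (([(e22, 351), (e24, 3159)] : List (Ent × ℕ)).map fun p => (p.1.Q, p.2)) (Nat.land (M w8) (M w0)) = true := peelB_fast (by decide +kernel)
theorem hf_22 : peelB 19 (([(e20, 224), (e21, 1), (e22, 126), (e23, 2592), (e24, 567)] : List (Ent × ℕ)).map fun p => (p.1.Q, p.2)) (Nat.land (M w8) (M w1)) = true := peelB_fast (by decide +kernel)
theorem hf_23 : peelB 19 (([(e20, 84), (e22, 36), (e23, 2835), (e24, 315), (e25, 240)] : List (Ent × ℕ)).map fun p => (p.1.Q, p.2)) (Nat.land (M w8) (M w308352)) = true := peelB_fast (by decide +kernel)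
theorem hf_24 : peelB 19 (([(e20, 56), (e21, 1), (e22, 63), (e23, 2520), (e24, 630), (e25, 240)] : List (Ent × ℕ)).map fun p => (p.1.Q, p.2)) (Nat.land (M w8) (M w768)) = true := peelB_fast (by decide +kernel)
theorem hf_25 : peelB 19 (([(e23, 2808), (e24, 351), (e25, 351)] : List (Ent × ℕ)).map fun p => (p.1.Q, p.2)) (Nat.land (M w8) (M w296072)) = true := peelB_fast (by decide +kernel)
theorem rs_3 : peelB 19 (([(e30, 1), (e31, 5760), (e32, 360), (e33, 3150), (e34, 22400)] : List (Ent × ℕ)).map fun p => (p.1.Q, p.2)) (M w307496) = true := peelB_fast (peel_cutO 3 (Nat.lor (Nat.lor (M w0) (M w136)) (Nat.pow 2 308352)) (by decide +kernel) (by decide +kernel))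
theorem hf_30 : peelB 19 (([(e32, 360), (e33, 3150)] : List (Ent × ℕ)).map fun p => (p.1.Q, p.2)) (Nat.land (M w307496) (M w308352)) = true := peelB_fast (by decide +kernel)
theorem hf_31 : peelB 19 (([(e31, 639), (e32, 36), (e33, 315), (e34, 2520)] : List (Ent × ℕ)).map fun p => (p.1.Q, p.2)) (Nat.land (M w307496) (M w307840)) = true := peelB_fast (peel_cutO 2 (Nat.lor (Nat.lor (M w0) (M w136)) (Nat.pow 2 308352)) (by decide +kernel) (by decide +kernel))
theorem hf_32 : peelB 19 (([(e30, 1), (e31, 576), (e32, 63), (e33, 630), (e34, 2240)] : List (Ent × ℕ)).map fun p => (p.1.Q, p.2)) (Nat.land (M w307496) (M w1)) = true := peelB_fast (peel_cutO 3 (Nat.lor (Nat.lor (M w0) (M w136)) (Nat.pow 2 308352)) (by decide +kernel) (by decide +kernel))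
theorem hf_33 : peelB 19 (([(e30, 1), (e31, 576), (e32, 72), (e33, 621), (e34, 2240)] : List (Ent × ℕ)).map fun p => (p.1.Q, p.2)) (Nat.land (M w307496) (M w307480)) = true := peelB_fast (peel_cutO 3 (Nat.lor (Nat.lor (M w0) (M w136)) (Nat.pow 2 308352)) (by decide +kernel) (by decide +kernel))
theorem hf_34 : peelB 19 (([(e31, 648), (e32, 36), (e33, 315), (e34, 2511)] : List (Ent × ℕ)).map fun p => (p.1.Q, p.2)) (Nat.land (M w307496) (M w266040)) = true := peelB_fast (peel_cutO 2 (Nat.lor (Nat.lor (M w0) (M w136)) (Nat.pow 2 308352)) (by decide +kernel) (by decide +kernel))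

end Cfsg.Agent.H30.FiE
end

-- part: H30/FiE/Orb
section
/-!
# `Fi24` on the commuting pairs of transpositions: the orbits (helper30)

* `orbs` : the orbits of the stabiliser of `{a, b}` on the related pairs;
* `hf_val`, `rs_val` : the rows.
-/

set_option autoImplicit false
set_option maxRecDepth 100000

namespace Cfsg.Agent.H30.FiE

open Cfsg Cfsg.Agent.Lib.PermNet Cfsg.Agent.Lib.PermNetPt Cfsg.Agent.Lib.PermNetOrbit
open Cfsg.Agent.Fischer.Fi24RepDef Cfsg.Agent.Fischer.Fi24Rep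
open Cfsg.Agent.Fischer.Fi24RepOrb (UG)
open Cfsg.Spor (Fi24)
open Cfsg.Spor.Fi24 (Gen)
open Cfsg.Agent.H30.PairFn (Ctx)
open Cfsg.Agent.H30.PairFn.Ctx (Ent Orbs IsFn KInv hf rs)

attribute [local instance] Classical.propDecidable

theorem T_cp0 : X.T 0 = 0 := (T_eq _).trans tyc_0
theorem T_cp1 : X.T 1 = 1 := (T_eq _).trans tyc_1
theorem T_cp2 : X.T 8 = 2 := (T_eq _).trans tyc_2
theorem T_cp3 : X.T 307496 = 3 := (T_eq _).trans tyc_3

theorem orbR0 (x : ℕ) (hx : R0.testBit x = true) : X.T x = 0 ∧ ∃ g ∈ X.K, X.ρ g 0 = x := by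
  obtain ⟨g, hg, -, hgx⟩ := orb_of memR_0 hx
  refine ⟨?_, g, hg, hgx⟩
  rw [← T_cp0, ← hgx]
  exact Ctx.T_inv (X := X) hg _

theorem orbR1 (x : ℕ) (hx : R1.testBit x = true) : X.T x = 1 ∧ ∃ g ∈ X.K, X.ρ g 1 = x := by
  obtain ⟨g, hg, -, hgx⟩ := orb_of memR_1 hx
  refine ⟨?_, g, hg, hgx⟩
  rw [← T_cp1, ← hgx]
  exact Ctx.T_inv (X := X) hg _

theorem orbR2 (x : ℕ) (hx : R2.testBit x = true) : X.T x = 2 ∧ ∃ g ∈ X.K, X.ρ g 8 = x := by
  obtain ⟨g, hg, -, hgx⟩ := orb_of memR_2 hx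
  refine ⟨?_, g, hg, hgx⟩
  rw [← T_cp2, ← hgx]
  exact Ctx.T_inv (X := X) hg _

theorem orbR3 (x : ℕ) (hx : R3.testBit x = true) : X.T x = 3 ∧ ∃ g ∈ X.K, X.ρ g 307496 = x := by
  obtain ⟨g, hg, -, hgx⟩ := orb_of memR_3 hx
  refine ⟨?_, g, hg, hgx⟩
  rw [← T_cp3, ← hgx]
  exact Ctx.T_inv (X := X) hg _

theorem orbQ00 (x : ℕ) (hx : Q00.testBit x = true) : ∃ g ∈ X.K, X.ρ g 0 = 0 ∧ X.ρ g 1 = x := by
  obtain ⟨g, hg, hc, hgx⟩ := orb_of mem_00 hx
  exact ⟨g, hg, hc _ (by simp), hgx⟩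

theorem clQ00 (x : ℕ) (hx : Q00.testBit x = true) : X.com 0 x ∧ X.cl 0 x = 693 := by
  obtain ⟨g, hg, hc, hgx⟩ := orbQ00 x hx
  obtain ⟨h1, h2⟩ := chkCl_spec cl_00
  have h3 := X.inv g h1
  rw [hc, hgx] at h3
  have h4 := Ctx.cl_inv (X := X) hg 0 1
  rw [hc, hgx] at h4
  exact ⟨h3, h4.trans h2⟩

theorem orbQ01 (x : ℕ) (hx : Q01.testBit x = true) : ∃ g ∈ X.K, X.ρ g 0 = 0 ∧ X.ρ g 3240 = x := by
  obtain ⟨g, hg, hc, hgx⟩ := orb_of mem_01 hx
  exact ⟨g, hg, hc _ (by simp), hgx⟩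

theorem clQ01 (x : ℕ) (hx : Q01.testBit x = true) : X.com 0 x ∧ X.cl 0 x = 351 := by
  obtain ⟨g, hg, hc, hgx⟩ := orbQ01 x hx
  obtain ⟨h1, h2⟩ := chkCl_spec cl_01
  have h3 := X.inv g h1
  rw [hc, hgx] at h3
  have h4 := Ctx.cl_inv (X := X) hg 0 3240
  rw [hc, hgx] at h4
  exact ⟨h3, h4.trans h2⟩

theorem orbQ02 (x : ℕ) (hx : Q02.testBit x = true) : ∃ g ∈ X.K, X.ρ g 0 = 0 ∧ X.ρ g 136 = x := by
  obtain ⟨g, hg, hc, hgx⟩ := orb_of mem_02 hx
  exact ⟨g, hg, hc _ (by simp), hgx⟩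

theorem clQ02 (x : ℕ) (hx : Q02.testBit x = true) : X.com 0 x ∧ X.cl 0 x = 3510 := by
  obtain ⟨g, hg, hc, hgx⟩ := orbQ02 x hx
  obtain ⟨h1, h2⟩ := chkCl_spec cl_02
  have h3 := X.inv g h1
  rw [hc, hgx] at h3
  have h4 := Ctx.cl_inv (X := X) hg 0 136
  rw [hc, hgx] at h4
  exact ⟨h3, h4.trans h2⟩

theorem orbQ10 (x : ℕ) (hx : Q10.testBit x = true) : ∃ g ∈ X.K, X.ρ g 1 = 1 ∧ X.ρ g 4 = x := by
  obtain ⟨g, hg, hc, hgx⟩ := orb_of mem_10 hx
  exact ⟨g, hg, hc _ (by simp), hgx⟩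

theorem clQ10 (x : ℕ) (hx : Q10.testBit x = true) : X.com 1 x ∧ X.cl 1 x = 4180 := by
  obtain ⟨g, hg, hc, hgx⟩ := orbQ10 x hx
  obtain ⟨h1, h2⟩ := chkCl_spec cl_10
  have h3 := X.inv g h1
  rw [hc, hgx] at h3
  have h4 := Ctx.cl_inv (X := X) hg 1 4
  rw [hc, hgx] at h4
  exact ⟨h3, h4.trans h2⟩

theorem orbQ11 (x : ℕ) (hx : Q11.testBit x = true) : ∃ g ∈ X.K, X.ρ g 1 = 1 ∧ X.ρ g 0 = x := by
  obtain ⟨g, hg, hc, hgx⟩ := orb_of mem_11 hx
  exact ⟨g, hg, hc _ (by simp), hgx⟩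

theorem clQ11 (x : ℕ) (hx : Q11.testBit x = true) : X.com 1 x ∧ X.cl 1 x = 693 := by
  obtain ⟨g, hg, hc, hgx⟩ := orbQ11 x hx
  obtain ⟨h1, h2⟩ := chkCl_spec cl_11
  have h3 := X.inv g h1
  rw [hc, hgx] at h3
  have h4 := Ctx.cl_inv (X := X) hg 1 0
  rw [hc, hgx] at h4
  exact ⟨h3, h4.trans h2⟩

theorem orbQ12 (x : ℕ) (hx : Q12.testBit x = true) : ∃ g ∈ X.K, X.ρ g 1 = 1 ∧ X.ρ g 307968 = x := by
  obtain ⟨g, hg, hc, hgx⟩ := orb_of mem_12 hx
  exact ⟨g, hg, hc _ (by simp), hgx⟩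

theorem clQ12 (x : ℕ) (hx : Q12.testBit x = true) : X.com 1 x ∧ X.cl 1 x = 8126 := by
  obtain ⟨g, hg, hc, hgx⟩ := orbQ12 x hx
  obtain ⟨h1, h2⟩ := chkCl_spec cl_12
  have h3 := X.inv g h1
  rw [hc, hgx] at h3
  have h4 := Ctx.cl_inv (X := X) hg 1 307968
  rw [hc, hgx] at h4
  exact ⟨h3, h4.trans h2⟩

theorem orbQ13 (x : ℕ) (hx : Q13.testBit x = true) : ∃ g ∈ X.K, X.ρ g 1 = 1 ∧ X.ρ g 307464 = x := by
  obtain ⟨g, hg, hc, hgx⟩ := orb_of mem_13 hx
  exact ⟨g, hg, hc _ (by simp), hgx⟩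

theorem clQ13 (x : ℕ) (hx : Q13.testBit x = true) : X.com 1 x ∧ X.cl 1 x = 12063 := by
  obtain ⟨g, hg, hc, hgx⟩ := orbQ13 x hx
  obtain ⟨h1, h2⟩ := chkCl_spec cl_13
  have h3 := X.inv g h1
  rw [hc, hgx] at h3
  have h4 := Ctx.cl_inv (X := X) hg 1 307464
  rw [hc, hgx] at h4
  exact ⟨h3, h4.trans h2⟩

theorem orbQ20 (x : ℕ) (hx : Q20.testBit x = true) : ∃ g ∈ X.K, X.ρ g 8 = 8 ∧ X.ρ g 307872 = x := by
  obtain ⟨g, hg, hc, hgx⟩ := orb_of mem_20 hx
  exact ⟨g, hg, hc _ (by simp), hgx⟩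

theorem clQ20 (x : ℕ) (hx : Q20.testBit x = true) : X.com 8 x ∧ X.cl 8 x = 16108 := by
  obtain ⟨g, hg, hc, hgx⟩ := orbQ20 x hx
  obtain ⟨h1, h2⟩ := chkCl_spec cl_20
  have h3 := X.inv g h1
  rw [hc, hgx] at h3
  have h4 := Ctx.cl_inv (X := X) hg 8 307872
  rw [hc, hgx] at h4
  exact ⟨h3, h4.trans h2⟩

theorem orbQ21 (x : ℕ) (hx : Q21.testBit x = true) : ∃ g ∈ X.K, X.ρ g 8 = 8 ∧ X.ρ g 0 = x := by
  obtain ⟨g, hg, hc, hgx⟩ := orb_of mem_21 hx
  exact ⟨g, hg, hc _ (by simp), hgx⟩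

theorem clQ21 (x : ℕ) (hx : Q21.testBit x = true) : X.com 8 x ∧ X.cl 8 x = 351 := by
  obtain ⟨g, hg, hc, hgx⟩ := orbQ21 x hx
  obtain ⟨h1, h2⟩ := chkCl_spec cl_21
  have h3 := X.inv g h1
  rw [hc, hgx] at h3
  have h4 := Ctx.cl_inv (X := X) hg 8 0
  rw [hc, hgx] at h4
  exact ⟨h3, h4.trans h2⟩

theorem orbQ22 (x : ℕ) (hx : Q22.testBit x = true) : ∃ g ∈ X.K, X.ρ g 8 = 8 ∧ X.ρ g 1 = x := by
  obtain ⟨g, hg, hc, hgx⟩ := orb_of mem_22 hx
  exact ⟨g, hg, hc _ (by simp), hgx⟩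

theorem clQ22 (x : ℕ) (hx : Q22.testBit x = true) : X.com 8 x ∧ X.cl 8 x = 8126 := by
  obtain ⟨g, hg, hc, hgx⟩ := orbQ22 x hx
  obtain ⟨h1, h2⟩ := chkCl_spec cl_22
  have h3 := X.inv g h1
  rw [hc, hgx] at h3
  have h4 := Ctx.cl_inv (X := X) hg 8 1
  rw [hc, hgx] at h4
  exact ⟨h3, h4.trans h2⟩

theorem orbQ23 (x : ℕ) (hx : Q23.testBit x = true) : ∃ g ∈ X.K, X.ρ g 8 = 8 ∧ X.ρ g 308352 = x := by
  obtain ⟨g, hg, hc, hgx⟩ := orb_of mem_23 hx
  exact ⟨g, hg, hc _ (by simp), hgx⟩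

theorem clQ23 (x : ℕ) (hx : Q23.testBit x = true) : X.com 8 x ∧ X.cl 8 x = 24036 := by
  obtain ⟨g, hg, hc, hgx⟩ := orbQ23 x hx
  obtain ⟨h1, h2⟩ := chkCl_spec cl_23
  have h3 := X.inv g h1
  rw [hc, hgx] at h3
  have h4 := Ctx.cl_inv (X := X) hg 8 308352
  rw [hc, hgx] at h4
  exact ⟨h3, h4.trans h2⟩

theorem orbQ24 (x : ℕ) (hx : Q24.testBit x = true) : ∃ g ∈ X.K, X.ρ g 8 = 8 ∧ X.ρ g 768 = x := by
  obtain ⟨g, hg, hc, hgx⟩ := orb_of mem_24 hx
  exact ⟨g, hg, hc _ (by simp), hgx⟩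

theorem clQ24 (x : ℕ) (hx : Q24.testBit x = true) : X.com 8 x ∧ X.cl 8 x = 16063 := by
  obtain ⟨g, hg, hc, hgx⟩ := orbQ24 x hx
  obtain ⟨h1, h2⟩ := chkCl_spec cl_24
  have h3 := X.inv g h1
  rw [hc, hgx] at h3
  have h4 := Ctx.cl_inv (X := X) hg 8 768
  rw [hc, hgx] at h4
  exact ⟨h3, h4.trans h2⟩

theorem orbQ25 (x : ℕ) (hx : Q25.testBit x = true) : ∃ g ∈ X.K, X.ρ g 8 = 8 ∧ X.ρ g 296072 = x := by
  obtain ⟨g, hg, hc, hgx⟩ := orb_of mem_25 hx
  exact ⟨g, hg, hc _ (by simp), hgx⟩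

theorem clQ25 (x : ℕ) (hx : Q25.testBit x = true) : X.com 8 x ∧ X.cl 8 x = 16000 := by
  obtain ⟨g, hg, hc, hgx⟩ := orbQ25 x hx
  obtain ⟨h1, h2⟩ := chkCl_spec cl_25
  have h3 := X.inv g h1
  rw [hc, hgx] at h3
  have h4 := Ctx.cl_inv (X := X) hg 8 296072
  rw [hc, hgx] at h4
  exact ⟨h3, h4.trans h2⟩

theorem orbQ30 (x : ℕ) (hx : Q30.testBit x = true) : ∃ g ∈ X.K, X.ρ g 307496 = 307496 ∧ X.ρ g 308352 = x := by
  obtain ⟨g, hg, hc, hgx⟩ := orb_of mem_30 hx
  exact ⟨g, hg, hc _ (by simp), hgx⟩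

theorem clQ30 (x : ℕ) (hx : Q30.testBit x = true) : X.com 307496 x ∧ X.cl 307496 x = 36360 := by
  obtain ⟨g, hg, hc, hgx⟩ := orbQ30 x hx
  obtain ⟨h1, h2⟩ := chkCl_spec cl_30
  have h3 := X.inv g h1
  rw [hc, hgx] at h3
  have h4 := Ctx.cl_inv (X := X) hg 307496 308352
  rw [hc, hgx] at h4
  exact ⟨h3, h4.trans h2⟩

theorem orbQ31 (x : ℕ) (hx : Q31.testBit x = true) : ∃ g ∈ X.K, X.ρ g 307496 = 307496 ∧ X.ρ g 307840 = x := by
  obtain ⟨g, hg, hc, hgx⟩ := orb_of mem_31 hx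
  exact ⟨g, hg, hc _ (by simp), hgx⟩

theorem clQ31 (x : ℕ) (hx : Q31.testBit x = true) : X.com 307496 x ∧ X.cl 307496 x = 24036 := by
  obtain ⟨g, hg, hc, hgx⟩ := orbQ31 x hx
  obtain ⟨h1, h2⟩ := chkCl_spec cl_31
  have h3 := X.inv g h1
  rw [hc, hgx] at h3
  have h4 := Ctx.cl_inv (X := X) hg 307496 307840
  rw [hc, hgx] at h4
  exact ⟨h3, h4.trans h2⟩

theorem orbQ32 (x : ℕ) (hx : Q32.testBit x = true) : ∃ g ∈ X.K, X.ρ g 307496 = 307496 ∧ X.ρ g 1 = x := by
  obtain ⟨g, hg, hc, hgx⟩ := orb_of mem_32 hx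
  exact ⟨g, hg, hc _ (by simp), hgx⟩

theorem clQ32 (x : ℕ) (hx : Q32.testBit x = true) : X.com 307496 x ∧ X.cl 307496 x = 12063 := by
  obtain ⟨g, hg, hc, hgx⟩ := orbQ32 x hx
  obtain ⟨h1, h2⟩ := chkCl_spec cl_32
  have h3 := X.inv g h1
  rw [hc, hgx] at h3
  have h4 := Ctx.cl_inv (X := X) hg 307496 1
  rw [hc, hgx] at h4
  exact ⟨h3, h4.trans h2⟩

theorem orbQ33 (x : ℕ) (hx : Q33.testBit x = true) : ∃ g ∈ X.K, X.ρ g 307496 = 307496 ∧ X.ρ g 307480 = x := by
  obtain ⟨g, hg, hc, hgx⟩ := orb_of mem_33 hx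
  exact ⟨g, hg, hc _ (by simp), hgx⟩

theorem clQ33 (x : ℕ) (hx : Q33.testBit x = true) : X.com 307496 x ∧ X.cl 307496 x = 36072 := by
  obtain ⟨g, hg, hc, hgx⟩ := orbQ33 x hx
  obtain ⟨h1, h2⟩ := chkCl_spec cl_33
  have h3 := X.inv g h1
  rw [hc, hgx] at h3
  have h4 := Ctx.cl_inv (X := X) hg 307496 307480
  rw [hc, hgx] at h4
  exact ⟨h3, h4.trans h2⟩

theorem orbQ34 (x : ℕ) (hx : Q34.testBit x = true) : ∃ g ∈ X.K, X.ρ g 307496 = 307496 ∧ X.ρ g 266040 = x := by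
  obtain ⟨g, hg, hc, hgx⟩ := orb_of mem_34 hx
  exact ⟨g, hg, hc _ (by simp), hgx⟩

theorem clQ34 (x : ℕ) (hx : Q34.testBit x = true) : X.com 307496 x ∧ X.cl 307496 x = 36036 := by
  obtain ⟨g, hg, hc, hgx⟩ := orbQ34 x hx
  obtain ⟨h1, h2⟩ := chkCl_spec cl_34
  have h3 := X.inv g h1
  rw [hc, hgx] at h3
  have h4 := Ctx.cl_inv (X := X) hg 307496 266040
  rw [hc, hgx] at h4
  exact ⟨h3, h4.trans h2⟩

theorem rep_mem {x : ℕ} (hx : x ∈ X.PT) : X.T x < 4 ∧ ∃ g ∈ X.K, X.ρ g (cp (X.T x)) = x := by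
  rw [mem_PT] at hx
  obtain ⟨i, hi, hix⟩ := peel_mem [(R0, 2), (R1, 3510), (R2, 56320), (R3, 247104)] (q := fun p => p.1)
    (s := fun p => p.2) rep_all hx
  simp only [List.mem_cons, List.not_mem_nil, or_false] at hi
  rcases hi with rfl | rfl | rfl | rfl
  · obtain ⟨h1, h2⟩ := orbR0 x hix
    rw [h1]; exact ⟨by norm_num, h2⟩
  · obtain ⟨h1, h2⟩ := orbR1 x hix
    rw [h1]; exact ⟨by norm_num, h2⟩
  · obtain ⟨h1, h2⟩ := orbR2 x hix
    rw [h1]; exact ⟨by norm_num, h2⟩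
  · obtain ⟨h1, h2⟩ := orbR3 x hix
    rw [h1]; exact ⟨by norm_num, h2⟩

theorem cover0 (x : ℕ) (hx : X.com 0 x) : ∃ e ∈ ent 0, e.Q.testBit x = true := by
  obtain ⟨p, hp, hpx⟩ := peel_mem [(e00, 3510), (e01, 28160), (e02, 1)] (q := fun p => p.1.Q) (s := fun p => p.2) rs_0 ((M_spec chkw_0 x).2 hx)
  refine ⟨p.1, ?_, hpx⟩
  simp only [List.mem_cons, List.not_mem_nil, or_false] at hp
  unfold ent
  rcases hp with rfl | rfl | rfl <;> simp

theorem entQ0 (e : Ent) (he : e ∈ ent 0) (x : ℕ) (hx : e.Q.testBit x = true) :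
    (∃ g ∈ X.K, X.ρ g 0 = 0 ∧ X.ρ g e.d = x) ∧ X.com 0 x ∧ X.cl 0 x = e.k := by
  unfold ent at he
  simp only [List.mem_cons, List.not_mem_nil, or_false] at he
  rcases he with rfl | rfl | rfl
  · exact ⟨orbQ00 x hx, clQ00 x hx⟩
  · exact ⟨orbQ01 x hx, clQ01 x hx⟩
  · exact ⟨orbQ02 x hx, clQ02 x hx⟩

theorem entD0 (e : Ent) (he : e ∈ ent 0) : X.com 0 e.d ∧ X.cl 0 e.d = e.k ∧ X.T e.d = e.τ' := by
  unfold ent at he
  simp only [List.mem_cons, List.not_mem_nil, or_false] at he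
  rcases he with rfl | rfl | rfl
  · exact ⟨(chkCl_spec cl_00).1, (chkCl_spec cl_00).2, (T_eq _).trans ty_00⟩
  · exact ⟨(chkCl_spec cl_01).1, (chkCl_spec cl_01).2, (T_eq _).trans ty_01⟩
  · exact ⟨(chkCl_spec cl_02).1, (chkCl_spec cl_02).2, (T_eq _).trans ty_02⟩

theorem cover1 (x : ℕ) (hx : X.com 1 x) : ∃ e ∈ ent 1, e.Q.testBit x = true := by
  obtain ⟨p, hp, hpx⟩ := peel_mem [(e10, 693), (e11, 2), (e12, 5632), (e13, 25344)] (q := fun p => p.1.Q) (s := fun p => p.2) rs_1 ((M_spec chkw_1 x).2 hx)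
  refine ⟨p.1, ?_, hpx⟩
  simp only [List.mem_cons, List.not_mem_nil, or_false] at hp
  unfold ent
  rcases hp with rfl | rfl | rfl | rfl <;> simp

theorem entQ1 (e : Ent) (he : e ∈ ent 1) (x : ℕ) (hx : e.Q.testBit x = true) :
    (∃ g ∈ X.K, X.ρ g 1 = 1 ∧ X.ρ g e.d = x) ∧ X.com 1 x ∧ X.cl 1 x = e.k := by
  unfold ent at he
  simp only [List.mem_cons, List.not_mem_nil, or_false] at he
  rcases he with rfl | rfl | rfl | rfl
  · exact ⟨orbQ10 x hx, clQ10 x hx⟩
  · exact ⟨orbQ11 x hx, clQ11 x hx⟩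
  · exact ⟨orbQ12 x hx, clQ12 x hx⟩
  · exact ⟨orbQ13 x hx, clQ13 x hx⟩

theorem entD1 (e : Ent) (he : e ∈ ent 1) : X.com 1 e.d ∧ X.cl 1 e.d = e.k ∧ X.T e.d = e.τ' := by
  unfold ent at he
  simp only [List.mem_cons, List.not_mem_nil, or_false] at he
  rcases he with rfl | rfl | rfl | rfl
  · exact ⟨(chkCl_spec cl_10).1, (chkCl_spec cl_10).2, (T_eq _).trans ty_10⟩
  · exact ⟨(chkCl_spec cl_11).1, (chkCl_spec cl_11).2, (T_eq _).trans ty_11⟩
  · exact ⟨(chkCl_spec cl_12).1, (chkCl_spec cl_12).2, (T_eq _).trans ty_12⟩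
  · exact ⟨(chkCl_spec cl_13).1, (chkCl_spec cl_13).2, (T_eq _).trans ty_13⟩

theorem cover2 (x : ℕ) (hx : X.com 8 x) : ∃ e ∈ ent 2, e.Q.testBit x = true := by
  obtain ⟨p, hp, hpx⟩ := peel_mem [(e20, 728), (e21, 1), (e22, 351), (e23, 25272), (e24, 3159), (e25, 2160)] (q := fun p => p.1.Q) (s := fun p => p.2) rs_2 ((M_spec chkw_2 x).2 hx)
  refine ⟨p.1, ?_, hpx⟩
  simp only [List.mem_cons, List.not_mem_nil, or_false] at hp
  unfold ent
  rcases hp with rfl | rfl | rfl | rfl | rfl | rfl <;> simp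

theorem entQ2 (e : Ent) (he : e ∈ ent 2) (x : ℕ) (hx : e.Q.testBit x = true) :
    (∃ g ∈ X.K, X.ρ g 8 = 8 ∧ X.ρ g e.d = x) ∧ X.com 8 x ∧ X.cl 8 x = e.k := by
  unfold ent at he
  simp only [List.mem_cons, List.not_mem_nil, or_false] at he
  rcases he with rfl | rfl | rfl | rfl | rfl | rfl
  · exact ⟨orbQ20 x hx, clQ20 x hx⟩
  · exact ⟨orbQ21 x hx, clQ21 x hx⟩
  · exact ⟨orbQ22 x hx, clQ22 x hx⟩
  · exact ⟨orbQ23 x hx, clQ23 x hx⟩
  · exact ⟨orbQ24 x hx, clQ24 x hx⟩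
  · exact ⟨orbQ25 x hx, clQ25 x hx⟩

theorem entD2 (e : Ent) (he : e ∈ ent 2) : X.com 8 e.d ∧ X.cl 8 e.d = e.k ∧ X.T e.d = e.τ' := by
  unfold ent at he
  simp only [List.mem_cons, List.not_mem_nil, or_false] at he
  rcases he with rfl | rfl | rfl | rfl | rfl | rfl
  · exact ⟨(chkCl_spec cl_20).1, (chkCl_spec cl_20).2, (T_eq _).trans ty_20⟩
  · exact ⟨(chkCl_spec cl_21).1, (chkCl_spec cl_21).2, (T_eq _).trans ty_21⟩
  · exact ⟨(chkCl_spec cl_22).1, (chkCl_spec cl_22).2, (T_eq _).trans ty_22⟩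
  · exact ⟨(chkCl_spec cl_23).1, (chkCl_spec cl_23).2, (T_eq _).trans ty_23⟩
  · exact ⟨(chkCl_spec cl_24).1, (chkCl_spec cl_24).2, (T_eq _).trans ty_24⟩
  · exact ⟨(chkCl_spec cl_25).1, (chkCl_spec cl_25).2, (T_eq _).trans ty_25⟩

theorem cover3 (x : ℕ) (hx : X.com 307496 x) : ∃ e ∈ ent 3, e.Q.testBit x = true := by
  obtain ⟨p, hp, hpx⟩ := peel_mem [(e30, 1), (e31, 5760), (e32, 360), (e33, 3150), (e34, 22400)] (q := fun p => p.1.Q) (s := fun p => p.2) rs_3 ((M_spec chkw_3 x).2 hx)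
  refine ⟨p.1, ?_, hpx⟩
  simp only [List.mem_cons, List.not_mem_nil, or_false] at hp
  unfold ent
  rcases hp with rfl | rfl | rfl | rfl | rfl <;> simp

theorem entQ3 (e : Ent) (he : e ∈ ent 3) (x : ℕ) (hx : e.Q.testBit x = true) :
    (∃ g ∈ X.K, X.ρ g 307496 = 307496 ∧ X.ρ g e.d = x) ∧ X.com 307496 x ∧ X.cl 307496 x = e.k := by
  unfold ent at he
  simp only [List.mem_cons, List.not_mem_nil, or_false] at he
  rcases he with rfl | rfl | rfl | rfl | rfl
  · exact ⟨orbQ30 x hx, clQ30 x hx⟩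
  · exact ⟨orbQ31 x hx, clQ31 x hx⟩
  · exact ⟨orbQ32 x hx, clQ32 x hx⟩
  · exact ⟨orbQ33 x hx, clQ33 x hx⟩
  · exact ⟨orbQ34 x hx, clQ34 x hx⟩

theorem entD3 (e : Ent) (he : e ∈ ent 3) : X.com 307496 e.d ∧ X.cl 307496 e.d = e.k ∧ X.T e.d = e.τ' := by
  unfold ent at he
  simp only [List.mem_cons, List.not_mem_nil, or_false] at he
  rcases he with rfl | rfl | rfl | rfl | rfl
  · exact ⟨(chkCl_spec cl_30).1, (chkCl_spec cl_30).2, (T_eq _).trans ty_30⟩
  · exact ⟨(chkCl_spec cl_31).1, (chkCl_spec cl_31).2, (T_eq _).trans ty_31⟩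
  · exact ⟨(chkCl_spec cl_32).1, (chkCl_spec cl_32).2, (T_eq _).trans ty_32⟩
  · exact ⟨(chkCl_spec cl_33).1, (chkCl_spec cl_33).2, (T_eq _).trans ty_33⟩
  · exact ⟨(chkCl_spec cl_34).1, (chkCl_spec cl_34).2, (T_eq _).trans ty_34⟩

theorem tab_dec : ∀ τ < 4, ∀ e ∈ ent τ, ∀ τ₂ < 4, ∀ e₂ ∈ ent τ₂, e.k = e₂.k →
    (τ = τ₂ → e.d = e₂.d) ∧ (τ = τ₂ ∨ τ₂ = e.τ') := by
  decide +kernel

/-- **The orbits.** -/
theorem orbs : Orbs X X.cl X.T 4 cp ent where
  csymm := Ctx.cl_symm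
  cinv _ hg x y := Ctx.cl_inv hg x y
  tinv _ hg x := Ctx.T_inv hg x
  rep _ hx := rep_mem hx
  cover τ hτ x hx := by
    interval_cases τ
    · exact cover0 x hx
    · exact cover1 x hx
    · exact cover2 x hx
    · exact cover3 x hx
  orb τ hτ e he x hx := by
    interval_cases τ
    · exact (entQ0 e he x hx).1
    · exact (entQ1 e he x hx).1
    · exact (entQ2 e he x hx).1
    · exact (entQ3 e he x hx).1
  dcom τ hτ e he := by
    interval_cases τ
    · exact (entD0 e he).1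
    · exact (entD1 e he).1
    · exact (entD2 e he).1
    · exact (entD3 e he).1
  cl τ hτ e he := by
    interval_cases τ
    · exact (entD0 e he).2.1
    · exact (entD1 e he).2.1
    · exact (entD2 e he).2.1
    · exact (entD3 e he).2.1
  ty τ hτ e he := by
    interval_cases τ
    · exact (entD0 e he).2.2
    · exact (entD1 e he).2.2
    · exact (entD2 e he).2.2
    · exact (entD3 e he).2.2
  tyc τ hτ := by
    interval_cases τ
    · exact T_cp0
    · exact T_cp1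
    · exact T_cp2
    · exact T_cp3
  tab := tab_dec

end Cfsg.Agent.H30.FiE
end

-- part: H563/MS/Peel
section
/-!
# `peelB` of helper30 in several pieces (helper563, grading memory)
-/

set_option autoImplicit false

namespace Cfsg.Agent.H563.MS

open Cfsg Cfsg.Agent.Lib.PermNet Cfsg.Agent.Lib.PermNetPt Cfsg.Agent.Lib.PermNetOrbit
open Cfsg.Agent.H30.FiE

end Cfsg.Agent.H563.MS
end

-- part: H30/FiE/ChkS7
section
/-! # `Fi24` on the commuting pairs of transpositions: kernel checks (helper30). Generated. -/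

set_option autoImplicit false
set_option maxRecDepth 100000
set_option Elab.async false

namespace Cfsg.Agent.H30.FiE

open Cfsg Cfsg.Agent.Lib.PermNet Cfsg.Agent.Lib.PermNetPt Cfsg.Agent.Lib.PermNetOrbit
open Cfsg.Agent.Fischer.Fi24RepDef Cfsg.Agent.Fischer.Fi24Rep
open Cfsg.Agent.Fischer.Fi24RepOrb (UG)
open Cfsg.Agent.Fischer.Fi24RepOrbData (UW)
open Cfsg.Spor (Fi24)
open Cfsg.Spor.Fi24 (Gen)
open Cfsg.Agent.H30.PairFn.Ctx (Ent)

def tc7 : List Gen := [.g]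
def td7 : List Gen := [.k]
theorem chkS7_0 : chkS 8 307872 tc7 td7 s7_0 3240 307488 w3240 w307488 16108 = true := by decide +kernel
theorem chkS7_1 : chkS 8 307872 tc7 td7 s7_1 3232 307496 w3232 w307496 12063 = true := by decide +kernel
theorem chkS7_2 : chkS 8 307872 tc7 td7 s7_2 307488 3240 w307488 w3240 16108 = true := by decide +kernel
theorem chkS7_3 : chkS 8 307872 tc7 td7 s7_3 307496 3232 w307496 w3232 12063 = true := by decide +kernel
theorem chkS7_4 : chkS 8 307872 tc7 td7 s7_4 308257 492 w308257 w492 24036 = true := by decide +kernel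
theorem chkS7_5 : chkS 8 307872 tc7 td7 s7_5 484 308265 w484 w308265 24036 = true := by decide +kernel
theorem chkS7_6 : chkS 8 307872 tc7 td7 s7_6 227553 227581 w227553 w227581 24036 = true := by decide +kernel
theorem chkS7_7 : chkS 8 307872 tc7 td7 s7_7 189549 189665 w189549 w189665 24036 = true := by decide +kernel
theorem chkS7_8 : chkS 8 307872 tc7 td7 s7_8 189809 189793 w189809 w189793 36036 = true := by decide +kernel
theorem chkS7_9 : chkS 8 307872 tc7 td7 s7_9 33872 33337 w33872 w33337 36072 = true := by decide +kernel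
theorem chkS7_10 : chkS 8 307872 tc7 td7 s7_10 300300 228357 w300300 w228357 36036 = true := by decide +kernel
theorem chkS7_11 : chkS 8 307872 tc7 td7 s7_11 155969 158657 w155969 w158657 36360 = true := by decide +kernel
theorem chkS7_12 : chkS 8 307872 tc7 td7 s7_12 158665 155977 w158665 w155977 36036 = true := by decide +kernel
theorem peelS7 : peelB 19 (([(S7_0, 2916), (S7_1, 2916), (S7_2, 2916), (S7_3, 2916), (S7_4, 19440), (S7_5, 19440), (S7_6, 19440), (S7_7, 19440), (S7_8, 65610), (S7_9, 65610), (S7_10, 25920), (S7_11, 270), (S7_12, 270)] : List (SEnt × ℕ)).map fun p => (p.1.S, p.2)) (m5 8 307872 w8 w307872) = true := peelB_fast (peel_cutO 4 (Nat.land (Nat.lor (M w0) (M w307840)) (Nat.lor (M w136) (M (w136 ++ [Gen.g])))) (by decide +kernel) (peel_cutO 4 (Nat.lor (Nat.lor (M w0) (M w307840)) (Nat.lor (M w136) (M (w136 ++ [Gen.g])))) (by decide +kernel) (by decide +kernel)))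

end Cfsg.Agent.H30.FiE
end
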